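import Cfsg.Agent.Lib.Block.RelMcKay.Key

/-!
# The bijection between the characters of degree prime to `p` of `K₀S` and of `C(S)S`
-/

set_option autoImplicit false
set_option linter.style.haveILetI false
set_option linter.unusedSectionVars false

open scoped ComplexConjugate Pointwise

namespace Cfsg.Agent.Block.RelMcKay

open Cfsg Cfsg.Agent.Char Cfsg.Agent.Block

universe u

variable {Y : Type u} [Group Y] [Finite Y] {p : ℕ} [hp : Fact p.Prime]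

theorem exists_mul_of_mem_sup {A P : Subgroup Y} (hn : P ≤ Subgroup.normalizer (A : Set Y)) {x : Y}
    (hx : x ∈ A ⊔ P) : ∃ a ∈ A, ∃ s ∈ P, a * s = x := by
  have h : x ∈ (A : Set Y) * (P : Set Y) := by
    rw [← Subgroup.coe_mul_of_right_le_normalizer_left A P hn]
    exact hx
  obtain ⟨a, ha, s, hs, rfl⟩ := h
  exact ⟨a, ha, s, hs, rfl⟩

theorem relIndex_sup_pgroup {A P : Subgroup Y} (hn : P ≤ Subgroup.normalizer (A : Set Y))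
    (hP : IsPGroup p P) (hA : ¬ p ∣ Nat.card A) : ∃ k, A.relIndex (A ⊔ P) = p ^ k := by
  obtain ⟨k, hk⟩ := IsPGroup.iff_card.mp hP
  refine ⟨k, Nat.eq_of_mul_eq_mul_left (Nat.card_pos (α := A)) ?_⟩
  rw [Grp.card_mul_relIndex le_sup_left, sup_comm, Grp.card_sup_coprime hn, hk, mul_comm]
  rw [hk]
  exact Nat.Coprime.pow_left _ (hp.out.coprime_iff_not_dvd.mpr hA)

theorem mem_normalizer_sup {A B : Subgroup Y} {g : Y} (hA : g ∈ Subgroup.normalizer (A : Set Y))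
    (hB : g ∈ Subgroup.normalizer (B : Set Y)) :
    g ∈ Subgroup.normalizer ((A ⊔ B : Subgroup Y) : Set Y) := by
  rw [Grp.mem_normalizer_of_map_eq, Subgroup.map_sup, Grp.mem_normalizer_of_map_eq.mp hA,
    Grp.mem_normalizer_of_map_eq.mp hB]

theorem central_ratio {C K : Subgroup Y} (hCK : C ≤ K) {θ : K → ℂ} (hθ : IsIrrCharacter K θ)
    {φ : C → ℂ} (hφ : IsIrrCharacter C φ) (h : Lies (Subgroup.inclusion hCK) φ θ) (k : C)
    (hk : (k : Y) ∈ Subgroup.center Y) :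
    θ (Subgroup.inclusion hCK k) * φ 1 = φ k * θ 1 := by
  classical
  haveI := Fintype.ofFinite C
  obtain ⟨c, -, hc⟩ := IsIrr.scalar_of_center hθ (z := Subgroup.inclusion hCK k)
    (Subgroup.mem_center_iff.mpr fun y => Subtype.ext (Subgroup.mem_center_iff.mp hk y))
  obtain ⟨d, hd1, hd⟩ := IsIrr.scalar_of_center hφ (z := k)
    (Subgroup.mem_center_iff.mpr fun y => Subtype.ext (Subgroup.mem_center_iff.mp hk y))
  rw [Lies, finsum_eq_sum_of_fintype] at h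
  set S := ∑ x : C, θ (Subgroup.inclusion hCK x) * conj (φ x) with hS
  have e : S = c * conj d * S := by
    rw [hS, Finset.mul_sum]
    refine (Fintype.sum_equiv (Equiv.mulLeft k) _ _ fun x => ?_).symm
    rw [Equiv.coe_mulLeft, map_mul, hc, hd, map_mul]
    ring
  have h1 : c * conj d = 1 := mul_right_cancel₀ h (e.symm.trans (one_mul S).symm)
  have h2 : d * conj d = 1 := by
    rw [Complex.mul_conj, Complex.normSq_eq_norm_sq, hd1]; simp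
  have hcd : c = d := mul_right_cancel₀ (right_ne_zero_of_mul_eq_one h2) (h1.trans h2.symm)
  have e1 := hc 1
  have e2 := hd 1
  rw [mul_one] at e1 e2
  rw [e1, e2, hcd]
  ring

/-- The standing hypotheses. -/
structure Cfg (p : ℕ) (K₀ S C N : Subgroup Y) : Prop where
  gs : GSetup p S C K₀
  norm : N ≤ Subgroup.normalizer (K₀ : Set Y) ⊓ Subgroup.normalizer (S : Set Y)

variable {K₀ S C N : Subgroup Y}

/-- Corresponding characters of `K₀S` and `CS`. -/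
def Rel (hCK : C ≤ K₀) (p : ℕ) (ψ : ↥(K₀ ⊔ S) → ℂ) (ψ' : ↥(C ⊔ S) → ℂ) : Prop :=
  ∃ (θ : IrrCharacter K₀) (φ : IrrCharacter C) (η : ↥(K₀ ⊔ S) → ℂ) (η' : ↥(C ⊔ S) → ℂ)
    (l : ↥(K₀ ⊔ S) →* ℂˣ),
    GCorr p hCK (θ : K₀ → ℂ) (φ : C → ℂ) ∧ K₀ ⊔ S ≤ St K₀ (θ : K₀ → ℂ) ∧
    IsCan p le_sup_left (θ : K₀ → ℂ) η ∧ IsCan p le_sup_left (φ : C → ℂ) η' ∧
    (∀ k : K₀, l (Subgroup.inclusion le_sup_left k) = 1) ∧
    ψ = (fun x => (l x : ℂ) * η x) ∧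
    ψ' = fun x => (l (Subgroup.inclusion (sup_le_sup_right hCK S) x) : ℂ) * η' x

theorem resTo_twist {H K : Subgroup Y} (hKH : K ≤ H) (l : H →* ℂˣ)
    (hl : ∀ k : K, l (Subgroup.inclusion hKH k) = 1) (η : H → ℂ) :
    resTo hKH (fun x => (l x : ℂ) * η x) = resTo hKH η := funext fun k => by
  show (l (Subgroup.inclusion hKH k) : ℂ) * η _ = η _
  rw [hl, Units.val_one, one_mul]

/-- The linear map on `CS` read off the one on `K₀S` is determined on `K₀S`. -/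
theorem hom_eq_of_sub (hCK : C ≤ K₀) (hSK : S ≤ Subgroup.normalizer (K₀ : Set Y))
    {l l' : ↥(K₀ ⊔ S) →* ℂˣ} (hl : ∀ k : K₀, l (Subgroup.inclusion le_sup_left k) = 1)
    (hl' : ∀ k : K₀, l' (Subgroup.inclusion le_sup_left k) = 1)
    (h : ∀ x : ↥(C ⊔ S), l (Subgroup.inclusion (sup_le_sup_right hCK S) x) =
      l' (Subgroup.inclusion (sup_le_sup_right hCK S) x)) : l = l' := by
  refine MonoidHom.ext fun x => ?_
  obtain ⟨k, hk, s, hs, hks⟩ := exists_mul_of_mem_sup hSK x.2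
  have e : x = Subgroup.inclusion le_sup_left (⟨k, hk⟩ : K₀) *
      Subgroup.inclusion (sup_le_sup_right hCK S) ⟨s, Subgroup.mem_sup_right hs⟩ :=
    Subtype.ext hks.symm
  rw [e, map_mul, map_mul, hl, hl', h]

namespace Cfg

variable (hc : Cfg p K₀ S C N)
include hc

theorem normC : N ≤ Subgroup.normalizer (C : Set Y) := fun g hg =>
  hc.gs.eq ▸ mem_normalizer_inf (hc.norm hg).1 (mem_normalizer_centralizer (hc.norm hg).2)

theorem normR : N ≤ Subgroup.normalizer ((K₀ ⊔ S : Subgroup Y) : Set Y) := fun _ hg =>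
  mem_normalizer_sup (hc.norm hg).1 (hc.norm hg).2

theorem normT : N ≤ Subgroup.normalizer ((C ⊔ S : Subgroup Y) : Set Y) := fun _ hg =>
  mem_normalizer_sup (hc.normC hg) (hc.norm hg).2

theorem SnormC : S ≤ Subgroup.normalizer (C : Set Y) := fun _ hs =>
  hc.gs.eq ▸ mem_normalizer_inf (hc.gs.norm hs)
    (mem_normalizer_centralizer (Subgroup.le_normalizer hs))

theorem C_p' : ¬ p ∣ Nat.card C := fun h =>
  hc.gs.p' (h.trans (Subgroup.card_dvd_of_le hc.gs.le))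

theorem R_le_normalizer : K₀ ⊔ S ≤ Subgroup.normalizer (K₀ : Set Y) :=
  sup_le Subgroup.le_normalizer hc.gs.norm

theorem T_le_normalizer : C ⊔ S ≤ Subgroup.normalizer (C : Set Y) :=
  sup_le Subgroup.le_normalizer hc.SnormC

theorem T_le_St {θ : K₀ → ℂ} (hθ : IsIrrCharacter K₀ θ) (hR : K₀ ⊔ S ≤ St K₀ θ) {φ : C → ℂ}
    (hφ : IsIrrCharacter C φ) (h : GCorr p hc.gs.le θ φ) : C ⊔ S ≤ St C φ := fun g hg =>
  ⟨hc.T_le_normalizer hg, hc.gs.cj_eq hθ (fun s hs => (hR (Subgroup.mem_sup_right hs)).2) hφ h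
    (hR (sup_le_sup_right hc.gs.le S hg)) (hc.T_le_normalizer hg)⟩

theorem rel_exists {ψ : IrrCharacter ↥(K₀ ⊔ S)}
    (hψ : ¬ p ∣ charDegree (ψ : ↥(K₀ ⊔ S) → ℂ)) :
    ∃ ψ' : IrrCharacter ↥(C ⊔ S), Rel hc.gs.le p (ψ : ↥(K₀ ⊔ S) → ℂ) (ψ' : ↥(C ⊔ S) → ℂ) := by
  obtain ⟨k, hk⟩ := relIndex_sup_pgroup hc.gs.norm hc.gs.pg hc.gs.p'
  obtain ⟨j, hj⟩ := relIndex_sup_pgroup hc.SnormC hc.gs.pg hc.C_p'
  obtain ⟨hθ, hR⟩ := res_irr_of_pPrime le_sup_left hc.R_le_normalizer hk ψ.2 hψ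
  set θ := resTo (le_sup_left : K₀ ≤ K₀ ⊔ S) (ψ : ↥(K₀ ⊔ S) → ℂ) with hθdef
  obtain ⟨φ, hφ⟩ := hc.gs.exists_gcorr hθ fun s hs => (hR (Subgroup.mem_sup_right hs)).2
  obtain ⟨η, hη⟩ := exists_can le_sup_left hc.gs.p' hk hθ hR
  obtain ⟨η', hη'⟩ := exists_can le_sup_left hc.C_p' hj φ.2 (hc.T_le_St hθ hR φ.2 hφ)
  obtain ⟨l, hl, hle⟩ := exists_twist le_sup_left hc.R_le_normalizer hη.1 ψ.2
    (hη.2.1.symm ▸ hθ) hη.2.1.symm
  exact ⟨⟨_, IsIrr.mul_linear hη'.1 (l.comp (Subgroup.inclusion (sup_le_sup_right hc.gs.le S)))⟩,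
    ⟨θ, hθ⟩, φ, η, η', l, hφ, hR, hη, hη', hl, funext hle, rfl⟩

theorem rel_right_unique {ψ : ↥(K₀ ⊔ S) → ℂ} {ψ₁ ψ₂ : ↥(C ⊔ S) → ℂ}
    (h₁ : Rel hc.gs.le p ψ ψ₁) (h₂ : Rel hc.gs.le p ψ ψ₂) : ψ₁ = ψ₂ := by
  obtain ⟨k, hk⟩ := relIndex_sup_pgroup hc.gs.norm hc.gs.pg hc.gs.p'
  obtain ⟨j, hj⟩ := relIndex_sup_pgroup hc.SnormC hc.gs.pg hc.C_p'
  obtain ⟨θ, φ, η, η', l, hg, hR, hη, hη', hl, hψ, rfl⟩ := h₁
  obtain ⟨θ₂, φ₂, η₂, η₂', l₂, hg₂, hR₂, hη₂, hη₂', hl₂, hψ₂, rfl⟩ := h₂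
  obtain rfl : θ = θ₂ := Subtype.ext (by
    rw [← hη.2.1, ← hη₂.2.1, ← resTo_twist _ l hl η, ← resTo_twist _ l₂ hl₂ η₂, ← hψ, ← hψ₂])
  obtain rfl : φ = φ₂ := Subtype.ext (hc.gs.unique θ.2
    (fun s hs => (hR (Subgroup.mem_sup_right hs)).2) φ.2 φ₂.2 hg hg₂)
  obtain rfl := IsCan.unique hc.R_le_normalizer hc.gs.p' hk θ.2 hη hη₂
  obtain rfl := IsCan.unique hc.T_le_normalizer hc.C_p' hj φ.2 hη' hη₂'
  obtain rfl : l = l₂ := twist_inj le_sup_left hc.R_le_normalizer hη.1 (hη.2.1.symm ▸ θ.2)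
    (fun k => by rw [hl, hl₂]) fun x => congrFun (hψ.symm.trans hψ₂) x
  rfl

theorem rel_left_unique {ψ₁ ψ₂ : ↥(K₀ ⊔ S) → ℂ} {ψ' : ↥(C ⊔ S) → ℂ}
    (h₁ : Rel hc.gs.le p ψ₁ ψ') (h₂ : Rel hc.gs.le p ψ₂ ψ') : ψ₁ = ψ₂ := by
  obtain ⟨k, hk⟩ := relIndex_sup_pgroup hc.gs.norm hc.gs.pg hc.gs.p'
  obtain ⟨j, hj⟩ := relIndex_sup_pgroup hc.SnormC hc.gs.pg hc.C_p'
  obtain ⟨θ, φ, η, η', l, hg, hR, hη, hη', hl, rfl, hψ⟩ := h₁
  obtain ⟨θ₂, φ₂, η₂, η₂', l₂, hg₂, hR₂, hη₂, hη₂', hl₂, rfl, hψ₂⟩ := h₂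
  set i := Subgroup.inclusion (sup_le_sup_right hc.gs.le S)
  have hli : ∀ c : C, l.comp i (Subgroup.inclusion le_sup_left c) = 1 :=
    fun c => hl (Subgroup.inclusion hc.gs.le c)
  have hli₂ : ∀ c : C, l₂.comp i (Subgroup.inclusion le_sup_left c) = 1 :=
    fun c => hl₂ (Subgroup.inclusion hc.gs.le c)
  obtain rfl : φ = φ₂ := Subtype.ext (by
    rw [← hη'.2.1, ← hη₂'.2.1, ← resTo_twist _ _ hli η', ← resTo_twist _ _ hli₂ η₂']
    exact congrArg _ (hψ.symm.trans hψ₂))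
  obtain rfl : θ = θ₂ := Subtype.ext (hc.gs.inj θ.2 θ₂.2
    (fun s hs => (hR (Subgroup.mem_sup_right hs)).2)
    (fun s hs => (hR₂ (Subgroup.mem_sup_right hs)).2) φ.2 hg hg₂)
  obtain rfl := IsCan.unique hc.R_le_normalizer hc.gs.p' hk θ.2 hη hη₂
  obtain rfl := IsCan.unique hc.T_le_normalizer hc.C_p' hj φ.2 hη' hη₂'
  have h : l.comp i = l₂.comp i := twist_inj le_sup_left hc.T_le_normalizer hη'.1
    (hη'.2.1.symm ▸ φ.2) (fun c => by rw [hli, hli₂]) fun x => congrFun (hψ.symm.trans hψ₂) x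
  obtain rfl : l = l₂ := hom_eq_of_sub hc.gs.le hc.gs.norm hl hl₂ fun x => DFunLike.congr_fun h x
  rfl

theorem rel_surj {ψ' : IrrCharacter ↥(C ⊔ S)} (hψ' : ¬ p ∣ charDegree (ψ' : ↥(C ⊔ S) → ℂ)) :
    ∃ ψ : IrrCharacter ↥(K₀ ⊔ S), Rel hc.gs.le p (ψ : ↥(K₀ ⊔ S) → ℂ) (ψ' : ↥(C ⊔ S) → ℂ) := by
  obtain ⟨k, hk⟩ := relIndex_sup_pgroup hc.gs.norm hc.gs.pg hc.gs.p'
  obtain ⟨j, hj⟩ := relIndex_sup_pgroup hc.SnormC hc.gs.pg hc.C_p'
  obtain ⟨hφ, hT⟩ := res_irr_of_pPrime le_sup_left hc.T_le_normalizer hj ψ'.2 hψ'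
  set φ := resTo (le_sup_left : C ≤ C ⊔ S) (ψ' : ↥(C ⊔ S) → ℂ) with hφdef
  obtain ⟨θ, hθi, hg⟩ := hc.gs.surj hφ
  have hR : K₀ ⊔ S ≤ St K₀ (θ : K₀ → ℂ) :=
    sup_le (le_St (IsIrr.classFun θ.2)) fun s hs => ⟨hc.gs.norm hs, hθi s hs⟩
  obtain ⟨η, hη⟩ := exists_can le_sup_left hc.gs.p' hk θ.2 hR
  obtain ⟨η', hη'⟩ := exists_can le_sup_left hc.C_p' hj hφ hT
  obtain ⟨l', hl', hle'⟩ := exists_twist le_sup_left hc.T_le_normalizer hη'.1 ψ'.2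
    (hη'.2.1.symm ▸ hφ) hη'.2.1.symm
  -- extend `l'` through `K₀S → S`
  have hdis : K₀ ⊓ S = ⊥ := by
    obtain ⟨m, hm⟩ := IsPGroup.iff_card.mp hc.gs.pg
    exact Grp.inf_eq_bot_of_coprime (hm ▸ (Nat.Coprime.pow_left m
      (hp.out.coprime_iff_not_dvd.mpr hc.gs.p')).symm)
  choose kk hkk ss hss hks using fun x : ↥(K₀ ⊔ S) => exists_mul_of_mem_sup hc.gs.norm x.2
  have huniq : ∀ (x : ↥(K₀ ⊔ S)) (k s : Y), k ∈ K₀ → s ∈ S → k * s = (x : Y) → ss x = s := by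
    intro x k s hk hs h
    have h1 : k⁻¹ * kk x = s * (ss x)⁻¹ := by
      rw [eq_mul_inv_iff_mul_eq, mul_assoc, hks, ← h, inv_mul_cancel_left]
    have h2 : k⁻¹ * kk x ∈ K₀ ⊓ S :=
      Subgroup.mem_inf.mpr ⟨mul_mem (inv_mem hk) (hkk x), h1 ▸ mul_mem hs (inv_mem (hss x))⟩
    rw [hdis, Subgroup.mem_bot, h1, mul_inv_eq_one] at h2
    exact h2.symm
  have hmul : ∀ x y, ss (x * y) = ss x * ss y := fun x y =>
    huniq _ (kk x * (ss x * kk y * (ss x)⁻¹)) _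
      (mul_mem (hkk x) (conj_mem (hc.gs.norm (hss x)) (hkk y))) (mul_mem (hss x) (hss y))
      (by rw [Subgroup.coe_mul, ← hks x, ← hks y]; group)
  let pr : ↥(K₀ ⊔ S) →* ↥(C ⊔ S) :=
    MonoidHom.mk' (fun x => ⟨ss x, Subgroup.mem_sup_right (hss x)⟩) fun x y =>
      Subtype.ext (hmul x y)
  let l := l'.comp pr
  have hlK : ∀ k : K₀, l (Subgroup.inclusion le_sup_left k) = 1 := fun k => by
    have e : pr (Subgroup.inclusion le_sup_left k) = 1 :=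
      Subtype.ext (huniq _ k 1 k.2 (one_mem _) (mul_one _))
    show l' (pr _) = 1
    rw [e, map_one]
  have hlT : ∀ x : ↥(C ⊔ S), l (Subgroup.inclusion (sup_le_sup_right hc.gs.le S) x) = l' x := by
    intro x
    obtain ⟨c, hcm, s, hs, hcs⟩ := exists_mul_of_mem_sup hc.SnormC x.2
    have e : pr (Subgroup.inclusion (sup_le_sup_right hc.gs.le S) x) =
        ⟨s, Subgroup.mem_sup_right hs⟩ :=
      Subtype.ext (huniq _ c s (hc.gs.le hcm) hs hcs)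
    have e2 : x = Subgroup.inclusion le_sup_left (⟨c, hcm⟩ : C) * ⟨s, Subgroup.mem_sup_right hs⟩ :=
      Subtype.ext hcs.symm
    show l' (pr _) = _
    rw [e, e2, map_mul, hl', one_mul]
  refine ⟨⟨_, IsIrr.mul_linear hη.1 l⟩, θ, ⟨φ, hφ⟩, η, η', l, hg, hR, hη, hη', hlK, rfl,
    funext fun x => ?_⟩
  rw [hlT]
  exact hle' x

theorem rel_cj {ψ : ↥(K₀ ⊔ S) → ℂ} {ψ' : ↥(C ⊔ S) → ℂ} (h : Rel hc.gs.le p ψ ψ') {g : Y}
    (hg : g ∈ N) : Rel hc.gs.le p (cj (K₀ ⊔ S) g ψ) (cj (C ⊔ S) g ψ') := by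
  obtain ⟨θ, φ, η, η', l, hgc, hR, hη, hη', hl, rfl, rfl⟩ := h
  have hgK := (hc.norm hg).1
  have hgC := hc.normC hg
  have hgR := hc.normR hg
  have hgT := hc.normT hg
  refine ⟨⟨_, irr_cj hgK θ.2⟩, ⟨_, irr_cj hgC φ.2⟩, _, _, l.comp (cjEquiv hgR).toMonoidHom,
    gcorr_cj hc.gs.le hgK hgC hgc, ?_, hη.cj hgK hgR, hη'.cj hgC hgT, ?_, ?_, ?_⟩
  · intro r hr
    refine ⟨hc.R_le_normalizer hr, ?_⟩
    show cj K₀ r (cj K₀ g θ) = cj K₀ g θ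
    rw [← cj_mul g (hc.R_le_normalizer hr), show g * r = g * r * g⁻¹ * g by group,
      cj_mul _ hgK, (hR (conj_mem hgR hr)).2]
  · intro k
    exact hl ⟨g * k * g⁻¹, conj_mem hgK k.2⟩
  · funext x
    rw [cj_apply hgR, cj_apply hgR]
    rfl
  · funext x
    rw [cj_apply hgT, cj_apply hgT]
    rfl

/-- The stabilisers agree. -/
theorem rel_st {ψ : ↥(K₀ ⊔ S) → ℂ} {ψ' : ↥(C ⊔ S) → ℂ} (h : Rel hc.gs.le p ψ ψ') {g : Y}
    (hg : g ∈ N) : g ∈ St (K₀ ⊔ S) ψ ↔ g ∈ St (C ⊔ S) ψ' := by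
  have h2 := hc.rel_cj h hg
  constructor
  · intro hs
    rw [hs.2] at h2
    exact ⟨hc.normT hg, hc.rel_right_unique h2 h⟩
  · intro hs
    rw [hs.2] at h2
    exact ⟨hc.normR hg, hc.rel_left_unique h2 h⟩

theorem rel_degree {ψ : ↥(K₀ ⊔ S) → ℂ} {ψ' : ↥(C ⊔ S) → ℂ} (h : Rel hc.gs.le p ψ ψ') :
    ¬ p ∣ charDegree ψ ∧ ¬ p ∣ charDegree ψ' := by
  obtain ⟨θ, φ, η, η', l, hgc, hR, hη, hη', hl, rfl, rfl⟩ := h
  constructor
  · have e : charDegree (fun x => (l x : ℂ) * η x) = charDegree (θ : K₀ → ℂ) := by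
      simp only [charDegree, map_one, Units.val_one, one_mul, ← hη.2.1, resTo]
    rw [e]
    exact not_dvd_degree θ.2 hc.gs.p'
  · have e : charDegree (fun x => (l (Subgroup.inclusion (sup_le_sup_right hc.gs.le S) x) : ℂ) *
        η' x) = charDegree (φ : C → ℂ) := by
      simp only [charDegree, map_one, Units.val_one, one_mul, ← hη'.2.1, resTo]
    rw [e]
    exact not_dvd_degree φ.2 hc.C_p'

/-- Corresponding characters agree on the centre. -/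
theorem rel_central {ψ : ↥(K₀ ⊔ S) → ℂ} {ψ' : ↥(C ⊔ S) → ℂ} (h : Rel hc.gs.le p ψ ψ') {k s : Y}
    (hk : k ∈ C) (hs : s ∈ S) (hkz : k ∈ Subgroup.center Y) (hsz : s ∈ Subgroup.center Y) :
    ψ ⟨k * s, mul_mem (Subgroup.mem_sup_left (hc.gs.le hk)) (Subgroup.mem_sup_right hs)⟩ * ψ' 1 =
      ψ' ⟨k * s, mul_mem (Subgroup.mem_sup_left hk) (Subgroup.mem_sup_right hs)⟩ * ψ 1 := by
  obtain ⟨θ, φ, η, η', l, hgc, hR, hη, hη', hl, rfl, rfl⟩ := h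
  obtain ⟨j, hj⟩ := hc.gs.pg ⟨s, hs⟩
  have hj' : s ^ p ^ j = 1 := congrArg Subtype.val hj
  set sR : ↥(K₀ ⊔ S) := ⟨s, Subgroup.mem_sup_right hs⟩ with hsR
  set sT : ↥(C ⊔ S) := ⟨s, Subgroup.mem_sup_right hs⟩ with hsT
  have h1 := hη.apply_central hc.gs.p' θ.2 (z := sR)
    (Subgroup.mem_center_iff.mpr fun y => Subtype.ext (Subgroup.mem_center_iff.mp hsz y))
    (j := j) (Subtype.ext hj') (Subgroup.inclusion le_sup_left (⟨k, hc.gs.le hk⟩ : K₀))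
  have h2 := hη'.apply_central hc.C_p' φ.2 (z := sT)
    (Subgroup.mem_center_iff.mpr fun y => Subtype.ext (Subgroup.mem_center_iff.mp hsz y))
    (j := j) (Subtype.ext hj') (Subgroup.inclusion le_sup_left (⟨k, hk⟩ : C))
  have e1 : η (Subgroup.inclusion le_sup_left (⟨k, hc.gs.le hk⟩ : K₀)) =
      (θ : K₀ → ℂ) ⟨k, hc.gs.le hk⟩ := congrFun hη.2.1 _
  have e2 : η' (Subgroup.inclusion le_sup_left (⟨k, hk⟩ : C)) = (φ : C → ℂ) ⟨k, hk⟩ :=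
    congrFun hη'.2.1 _
  have e3 : η 1 = (θ : K₀ → ℂ) 1 := by rw [← hη.2.1]; rfl
  have e4 : η' 1 = (φ : C → ℂ) 1 := by rw [← hη'.2.1]; rfl
  have hr := central_ratio hc.gs.le θ.2 φ.2 (GCorr.lies hgc) ⟨k, hk⟩ hkz
  change _ = _
  rw [show (⟨k * s, _⟩ : ↥(K₀ ⊔ S)) =
      Subgroup.inclusion le_sup_left (⟨k, hc.gs.le hk⟩ : K₀) * sR from rfl,
    show (⟨k * s, _⟩ : ↥(C ⊔ S)) =
      Subgroup.inclusion le_sup_left (⟨k, hk⟩ : C) * sT from rfl]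
  simp only [map_one, Units.val_one, one_mul]
  rw [h1, h2, e1, e2, e3, e4, map_mul, map_mul, map_mul,
    show Subgroup.inclusion (sup_le_sup_right hc.gs.le S)
      (Subgroup.inclusion le_sup_left (⟨k, hk⟩ : C)) =
      Subgroup.inclusion le_sup_left (Subgroup.inclusion hc.gs.le (⟨k, hk⟩ : C)) from rfl,
    show (⟨k, hc.gs.le hk⟩ : K₀) = Subgroup.inclusion hc.gs.le (⟨k, hk⟩ : C) from rfl, hl]
  rw [show Subgroup.inclusion (sup_le_sup_right hc.gs.le S) sT = sR from rfl]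
  simp only [Units.val_one, Units.val_mul, one_mul]
  rw [mul_assoc, hr]
  ring

end Cfg

end Cfsg.Agent.Block.RelMcKay
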