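import Cfsg.Agent.Lib.Block.RelMcKay.Bij

/-!
# The count when `K S` is normal
-/

set_option autoImplicit false
set_option linter.style.haveILetI false
set_option linter.unusedSectionVars false

open scoped ComplexConjugate Pointwise

namespace Cfsg.Agent.Block.RelMcKay

open Cfsg Cfsg.Agent.Char Cfsg.Agent.Block

universe u

variable {Y : Type u} [Group Y] [Finite Y] {p : ℕ} [hp : Fact p.Prime]

theorem lies_val_iff {Z M : Subgroup Y} (hZc : Z ≤ Subgroup.center Y) (hZM : Z ≤ M) (ζ : Z →* ℂˣ)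
    {χ : M → ℂ} (hχ : IsIrrCharacter M χ) :
    Lies (Subgroup.inclusion hZM) (fun z => (ζ z : ℂ)) χ ↔
      ∀ z : Z, χ (Subgroup.inclusion hZM z) = χ 1 * (ζ z : ℂ) :=
  lies_central_iff hχ _ (fun z => Subgroup.mem_center_iff.mpr fun y =>
    Subtype.ext (Subgroup.mem_center_iff.mp (hZc z.2) y)) ζ

open scoped Classical in
/-- The characters of degree prime to `p` of `R` over `ζ`. -/
noncomputable def Psi (p : ℕ) {Z R : Subgroup Y} (hZR : Z ≤ R) (ζ : Z →* ℂˣ) :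
    Finset (IrrCharacter R) :=
  haveI : Fintype (IrrCharacter R) := Fintype.ofFinite _
  Finset.univ.filter fun ψ => ¬ p ∣ charDegree (ψ : R → ℂ) ∧
    Lies (Subgroup.inclusion hZR) (fun z => (ζ z : ℂ)) (ψ : R → ℂ)

theorem mem_Psi {Z R : Subgroup Y} (hZR : Z ≤ R) (ζ : Z →* ℂˣ) (ψ : IrrCharacter R) :
    ψ ∈ Psi p hZR ζ ↔ ¬ p ∣ charDegree (ψ : R → ℂ) ∧
      Lies (Subgroup.inclusion hZR) (fun z => (ζ z : ℂ)) (ψ : R → ℂ) := by
  simp [Psi]

/-- Counting through a normalised subgroup whose conjugacy classes of constituents are controlled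
by `N`. -/
theorem count_step {Z R M N : Subgroup Y} (hZc : Z ≤ Subgroup.center Y) (ζ : Z →* ℂˣ)
    (hRM : R ≤ M) (hNM : N ≤ M) (hn : M ≤ Subgroup.normalizer (R : Set Y)) (hZR : Z ≤ R)
    (hdec : ∀ g ∈ M, ∃ n ∈ N, ∃ r ∈ R, n * r = g) :
    cnt p (Subgroup.inclusion (hZR.trans hRM)) (fun z => (ζ z : ℂ)) * Nat.card N =
      ∑ ψ ∈ Psi p hZR ζ, cnt p (Subgroup.inclusion hRM) (ψ : R → ℂ) *
        Nat.card ↥(N ⊓ St R (ψ : R → ℂ)) := by
  refine transfer hRM (hZR.trans hRM) hNM (hNM.trans hn) _ _ ?_ ?_ ?_ ?_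
  · intro h hh ψ hψ
    have hhR := hn (hNM hh)
    refine ⟨⟨_, irr_cj hhR ψ.2⟩, (mem_Psi hZR ζ _).mpr ⟨?_, ?_⟩, rfl⟩
    · show ¬ p ∣ charDegree (cj R h (ψ : R → ℂ))
      rw [charDegree_cj hhR]
      exact ((mem_Psi hZR ζ ψ).mp hψ).1
    · have hl := (lies_val_iff hZc hZR ζ ψ.2).mp ((mem_Psi hZR ζ ψ).mp hψ).2
      refine (lies_val_iff hZc hZR ζ (irr_cj hhR ψ.2)).mpr fun z => ?_
      rw [cj_one_apply hhR, ← hl z, cj_apply hhR]
      refine congrArg (ψ : R → ℂ) (Subtype.ext ?_)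
      show h * (z : Y) * h⁻¹ = z
      rw [Subgroup.mem_center_iff.mp (hZc z.2) h, mul_inv_cancel_right]
  · intro ψ hψ χ hl
    exact lies_trans (j := Subgroup.inclusion hZR) (irr_isChar χ) ψ.2 hl
      (IsIrr.isCharacter (isIrr_linear ζ)) ((mem_Psi hZR ζ ψ).mp hψ).2
  · intro χ hχ hl
    obtain ⟨θ, h1, h2⟩ := lies_res_of_lies (i := Subgroup.inclusion hRM)
      (j := Subgroup.inclusion hZR) (irr_isChar χ) hl
    exact ⟨θ, (mem_Psi hZR ζ θ).mpr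
      ⟨fun h => hχ (h.trans (degree_dvd_of_lies hRM hn χ.2 θ.2 h1)), h2⟩, h1⟩
  · intro χ _ θ _ θ' _ h h'
    obtain ⟨g, hg, he⟩ := exists_cj_of_lies hRM hn χ.2 θ.2 θ'.2 h h'
    obtain ⟨n, hnN, r, hr, rfl⟩ := hdec g hg
    rw [cj_mul _ (Subgroup.le_normalizer hr),
      cj_mem (IsIrr.classFun (irr_cj (hn (hNM hnN)) θ.2)) hr] at he
    exact ⟨n, hnN, he⟩

/-- The pairing descends to a normalised subgroup with irreducible restriction. -/
theorem om_descend {K R : Subgroup Y} (hKR : K ≤ R) {ψ : R → ℂ} (hψ : IsIrrCharacter R ψ)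
    (hθ : IsIrrCharacter K (resTo hKR ψ)) {a b : Y} (ha : a ∈ St R ψ) (hb : b ∈ St R ψ)
    (haK : a ∈ Subgroup.normalizer (K : Set Y)) (hbK : b ∈ Subgroup.normalizer (K : Set Y))
    (hab : a * b * a⁻¹ * b⁻¹ ∈ K) : om R ψ a b = om K (resTo hKR ψ) a b := by
  obtain ⟨η, hη, hres⟩ := exists_ext_zpowers hψ hb
  have hRH : R ≤ (R ⊔ Subgroup.zpowers b) := le_sup_left
  have hbH : b ∈ (R ⊔ Subgroup.zpowers b) := Subgroup.mem_sup_right (Subgroup.mem_zpowers b)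
  have hn : (R ⊔ Subgroup.zpowers b) ≤ Subgroup.normalizer (R : Set Y) :=
    sup_le Subgroup.le_normalizer (Subgroup.zpowers_le.mpr hb.1)
  have haH : ∀ (A : Subgroup Y), a ∈ Subgroup.normalizer (A : Set Y) → K ≤ A →
      a ∈ Subgroup.normalizer ((A ⊔ Subgroup.zpowers b : Subgroup Y) : Set Y) := by
    intro A haA hKA
    refine mem_normalizer_of_le fun y hy => ?_
    have h1 : A ⊔ Subgroup.zpowers b ≤
        (A ⊔ Subgroup.zpowers b).comap (MulAut.conj a).toMonoidHom := by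
      refine sup_le (fun k hk => Subgroup.mem_sup_left (conj_mem haA hk))
        (Subgroup.zpowers_le.mpr ?_)
      show a * b * a⁻¹ ∈ A ⊔ Subgroup.zpowers b
      have := Subgroup.mul_mem_sup (hKA hab) (Subgroup.mem_zpowers b)
      simpa using this
    exact h1 hy
  have haH1 : a ∈ Subgroup.normalizer ((R ⊔ Subgroup.zpowers b : Subgroup Y) : Set Y) := haH R ha.1 hKR
  have hresa : resTo hRH (cj (R ⊔ Subgroup.zpowers b) a η) = resTo hRH η := by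
    rw [resTo_cj hRH η ha.1 haH1, hres, ha.2]
  obtain ⟨l, hl, hle⟩ := exists_twist hRH hn hη (irr_cj haH1 hη) (hres.symm ▸ hψ) hresa
  have h1 : om R ψ a b = (l ⟨b, hbH⟩ : ℂ) :=
    om_eq_twist hRH hn hη hψ hres hbH ha haH1 (hKR hab) fun k => by rw [hle, map_mul, hl, mul_one]
  set H₀ := K ⊔ Subgroup.zpowers b with hH₀
  have hH0H : H₀ ≤ (R ⊔ Subgroup.zpowers b) := sup_le_sup_right hKR _
  have hn0 : H₀ ≤ Subgroup.normalizer (K : Set Y) :=
    sup_le Subgroup.le_normalizer (Subgroup.zpowers_le.mpr hbK)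
  have hKH0 : K ≤ H₀ := le_sup_left
  have hbH0 : b ∈ H₀ := Subgroup.mem_sup_right (Subgroup.mem_zpowers b)
  have hres0 : resTo hKH0 (resTo hH0H η) = resTo hKR ψ := by
    rw [← hres]; rfl
  have hη0 : IsIrrCharacter H₀ (resTo hH0H η) :=
    irr_of_resTo hKH0 (IsChar.comp (Subgroup.inclusion hH0H) (IsIrr.isCharacter hη))
      (hres0.symm ▸ hθ)
  have haSt : a ∈ St K (resTo hKR ψ) := ⟨haK, by rw [← resTo_cj hKR ψ haK ha.1, ha.2]⟩
  have haH0 : a ∈ Subgroup.normalizer (H₀ : Set Y) := haH K haK le_rfl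
  rw [h1]
  refine (om_eq_twist hKH0 hn0 hη0 hθ hres0 hbH0 haSt haH0 hab fun k => ?_).symm
  have e := hle (⟨b, hbH⟩ * Subgroup.inclusion hRH (Subgroup.inclusion hKR k))
  rw [map_mul l, hl, mul_one, cj_apply haH1] at e
  rw [cj_apply haH0]
  exact e

/-- Equality of the counts over corresponding characters. -/
theorem cnt_eq_of_rel {K₀ C N U : Subgroup Y} (S : Sylow p Y)
    (hc : Cfg p K₀ (S : Subgroup Y) C N) (hn : (K₀ ⊔ (S : Subgroup Y)).Normal)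
    (hTN : C ⊔ (S : Subgroup Y) ≤ N) (hUN : U ≤ N) (hUp : ¬ p ∣ Nat.card U) (hCU : C ≤ U)
    (hUR : U ⊓ (K₀ ⊔ (S : Subgroup Y)) ≤ C)
    (hYU : ∀ g : Y, ∃ u ∈ U, ∃ r ∈ K₀ ⊔ (S : Subgroup Y), u * r = g)
    (hNU : ∀ g ∈ N, ∃ u ∈ U, ∃ r ∈ C ⊔ (S : Subgroup Y), u * r = g)
    {ψ : IrrCharacter ↥(K₀ ⊔ (S : Subgroup Y))} {ψ' : IrrCharacter ↥(C ⊔ (S : Subgroup Y))}
    (hrel : Rel hc.gs.le p (ψ : ↥(K₀ ⊔ (S : Subgroup Y)) → ℂ)
      (ψ' : ↥(C ⊔ (S : Subgroup Y)) → ℂ)) :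
    cnt p (Subgroup.inclusion (le_top : K₀ ⊔ (S : Subgroup Y) ≤ ⊤))
        (ψ : ↥(K₀ ⊔ (S : Subgroup Y)) → ℂ) =
      cnt p (Subgroup.inclusion hTN) (ψ' : ↥(C ⊔ (S : Subgroup Y)) → ℂ) := by
  classical
  have hTR : (C ⊔ (S : Subgroup Y)) ≤ (K₀ ⊔ (S : Subgroup Y)) := sup_le_sup_right hc.gs.le _
  have hRSt : (K₀ ⊔ (S : Subgroup Y)) ≤ St (K₀ ⊔ (S : Subgroup Y)) (ψ : ↥(K₀ ⊔ (S : Subgroup Y)) → ℂ) := le_St (IsIrr.classFun ψ.2)
  have hTSt : (C ⊔ (S : Subgroup Y)) ≤ St (C ⊔ (S : Subgroup Y)) (ψ' : ↥(C ⊔ (S : Subgroup Y)) → ℂ) := le_St (IsIrr.classFun ψ'.2)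
  obtain ⟨hdψ, hdψ'⟩ := hc.rel_degree hrel
  have htopn : (⊤ : Subgroup Y) ≤ Subgroup.normalizer ((K₀ ⊔ (S : Subgroup Y) : Subgroup Y) : Set Y) := by
    rw [Subgroup.normalizer_eq_top]
  have hSindex : ¬ p ∣ (S : Subgroup Y).index := S.not_dvd_index
  have hRidx : ¬ p ∣ (K₀ ⊔ (S : Subgroup Y)).index := fun h =>
    hSindex (h.trans (Subgroup.index_dvd_of_le le_sup_right))
  have hTidx : ¬ p ∣ (C ⊔ (S : Subgroup Y)).relIndex N := fun h => hSindex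
    ((h.trans (Subgroup.relIndex_dvd_of_le_left N (le_sup_right : (S : Subgroup Y) ≤ (C ⊔ (S : Subgroup Y))))).trans
      ⟨_, (Subgroup.relIndex_mul_index ((le_sup_right : (S : Subgroup Y) ≤ (C ⊔ (S : Subgroup Y))).trans hTN)).symm⟩)
  set A := U ⊓ St (K₀ ⊔ (S : Subgroup Y)) (ψ : ↥(K₀ ⊔ (S : Subgroup Y)) → ℂ) with hA
  haveI := Fintype.ofFinite A
  rw [cnt_inertia le_top htopn ψ.2 (fun h => hSindex (by
      rw [Subgroup.relIndex_top_right] at h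
      exact h.trans (Subgroup.index_dvd_of_le ((le_sup_right : (S : Subgroup Y) ≤ (K₀ ⊔ (S : Subgroup Y))).trans hRSt)))),
    cnt_inertia hTN hc.normT ψ'.2 (fun h => hTidx (by
      rw [← Subgroup.inf_relIndex_left] at h
      exact h.trans ⟨_, ((mul_comm _ _).trans
        (Subgroup.relIndex_mul_relIndex (C ⊔ (S : Subgroup Y)) (N ⊓ St (C ⊔ (S : Subgroup Y)) (ψ' : ↥(C ⊔ (S : Subgroup Y)) → ℂ)) N (le_inf hTN hTSt)
          inf_le_left)).symm⟩))]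
  have hAU : A ≤ U := inf_le_left
  have hA' : ∀ a ∈ A, a ∈ St (C ⊔ (S : Subgroup Y)) (ψ' : ↥(C ⊔ (S : Subgroup Y)) → ℂ) := fun a ha =>
    (hc.rel_st hrel (hUN (Subgroup.mem_inf.mp ha).1)).mp (Subgroup.mem_inf.mp ha).2
  have hAR : A ⊓ (K₀ ⊔ (S : Subgroup Y)) = C := le_antisymm (fun x hx => hUR ⟨hx.1.1, hx.2⟩)
    (le_inf (le_inf hCU ((hc.gs.le.trans le_sup_left).trans hRSt)) (hc.gs.le.trans le_sup_left))
  have hAT : A ⊓ (C ⊔ (S : Subgroup Y)) = C := le_antisymm (fun x hx => hUR ⟨hx.1.1, hTR hx.2⟩)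
    (le_inf (le_inf hCU ((hc.gs.le.trans le_sup_left).trans hRSt)) le_sup_left)
  have e1 := count_om (p := p) (A := A) (T := (⊤ : Subgroup Y) ⊓ St (K₀ ⊔ (S : Subgroup Y)) (ψ : ↥(K₀ ⊔ (S : Subgroup Y)) → ℂ))
    (le_inf le_top (le_St (IsIrr.classFun ψ.2))) (le_inf le_top inf_le_right) (fun t ht => by
      obtain ⟨u, hu, r, hr, rfl⟩ := hYU t
      refine ⟨u, Subgroup.mem_inf.mpr ⟨hu, ?_⟩, r, hr, rfl⟩
      have := mul_mem (Subgroup.mem_inf.mp ht).2 (inv_mem (hRSt hr))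
      simpa using this) ψ.2 inf_le_right
    (fun h => hRidx (h.trans (Subgroup.relIndex_dvd_index_of_normal _ _))) hdψ
  have e2 := count_om (p := p) (A := A) (T := N ⊓ St (C ⊔ (S : Subgroup Y)) (ψ' : ↥(C ⊔ (S : Subgroup Y)) → ℂ))
    (le_inf hTN (le_St (IsIrr.classFun ψ'.2))) (le_inf (hAU.trans hUN) hA') (fun t ht => by
      obtain ⟨u, hu, r, hr, rfl⟩ := hNU t ht.1
      refine ⟨u, Subgroup.mem_inf.mpr ⟨hu, (hc.rel_st hrel (hUN hu)).mpr ?_⟩, r, hr, rfl⟩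
      have := mul_mem (Subgroup.mem_inf.mp ht).2 (inv_mem (hTSt hr))
      simpa using this) ψ'.2 inf_le_right
    (fun h => hTidx (h.trans ⟨_, (Subgroup.relIndex_mul_relIndex (C ⊔ (S : Subgroup Y)) (N ⊓ St (C ⊔ (S : Subgroup Y)) (ψ' : ↥(C ⊔ (S : Subgroup Y)) → ℂ)) N
      (le_inf hTN hTSt) inf_le_left).symm⟩)) hdψ'
  have hsum : ∀ a b : A, om (K₀ ⊔ (S : Subgroup Y)) (ψ : ↥(K₀ ⊔ (S : Subgroup Y)) → ℂ) (a : Y) b = om (C ⊔ (S : Subgroup Y)) (ψ' : ↥(C ⊔ (S : Subgroup Y)) → ℂ) (a : Y) b := by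
    intro a b
    have ha : (a : Y) ∈ St (K₀ ⊔ (S : Subgroup Y)) (ψ : ↥(K₀ ⊔ (S : Subgroup Y)) → ℂ) := (Subgroup.mem_inf.mp a.2).2
    have hb : (b : Y) ∈ St (K₀ ⊔ (S : Subgroup Y)) (ψ : ↥(K₀ ⊔ (S : Subgroup Y)) → ℂ) := (Subgroup.mem_inf.mp b.2).2
    have haN := hUN (hAU a.2)
    have hbN := hUN (hAU b.2)
    by_cases hab : (a : Y) * b * (a : Y)⁻¹ * (b : Y)⁻¹ ∈ C
    · obtain ⟨k, hk⟩ := relIndex_sup_pgroup hc.gs.norm hc.gs.pg hc.gs.p'
      obtain ⟨θ, φ, η, η', l, hg, hθR, hη, hη', hl, hψe, hψ'e⟩ := hrel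
      have eθ : resTo (le_sup_left : K₀ ≤ (K₀ ⊔ (S : Subgroup Y))) (ψ : ↥(K₀ ⊔ (S : Subgroup Y)) → ℂ) = (θ : K₀ → ℂ) := by
        rw [hψe, resTo_twist _ l hl, hη.2.1]
      have eφ : resTo (le_sup_left : C ≤ (C ⊔ (S : Subgroup Y))) (ψ' : ↥(C ⊔ (S : Subgroup Y)) → ℂ) = (φ : C → ℂ) := by
        rw [hψ'e]
        exact (resTo_twist _ (l.comp (Subgroup.inclusion hTR))
          (fun c => hl (Subgroup.inclusion hc.gs.le c)) η').trans hη'.2.1
      rw [om_descend le_sup_left ψ.2 (eθ.symm ▸ θ.2) ha hb (hc.norm haN).1 (hc.norm hbN).1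
          (hc.gs.le hab),
        om_descend le_sup_left ψ'.2 (eφ.symm ▸ φ.2) (hA' a a.2) (hA' b b.2) (hc.normC haN)
          (hc.normC hbN) hab, eθ, eφ]
      have hst : ∀ x : A, (x : Y) ∈ St K₀ (θ : K₀ → ℂ) := fun x => by
        refine ⟨(hc.norm (hUN (hAU x.2))).1, ?_⟩
        rw [← eθ, ← resTo_cj le_sup_left _ (hc.norm (hUN (hAU x.2))).1
          (hc.normR (hUN (hAU x.2))), (Subgroup.mem_inf.mp x.2).2.2]
      exact key (p := p) _ K₀ C (S : Subgroup Y) U hc.gs le_rfl (hUN.trans hc.norm) hUp a (hAU a.2) b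
        (hAU b.2) hab (θ : K₀ → ℂ) θ.2 (le_sup_right.trans hθR) (hst a) (hst b) (φ : C → ℂ) φ.2 hg
    · have hU : (a : Y) * b * (a : Y)⁻¹ * (b : Y)⁻¹ ∈ U :=
        mul_mem (mul_mem (mul_mem (hAU a.2) (hAU b.2)) (inv_mem (hAU a.2))) (inv_mem (hAU b.2))
      rw [om_eq_zero ha.1 hb.1 fun h => hab (hUR ⟨hU, h⟩),
        om_eq_zero (hc.normT haN) (hc.normT hbN) fun h => hab (hUR ⟨hU, hTR h⟩)]
  rw [Finset.sum_congr rfl fun a _ => Finset.sum_congr rfl fun b _ => hsum a b, ← e2, hAR, hAT,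
    mul_assoc, mul_assoc] at e1
  exact_mod_cast mul_right_cancel₀ (mul_ne_zero (Nat.cast_ne_zero.mpr Nat.card_pos.ne')
    (Nat.cast_ne_zero.mpr Nat.card_pos.ne')) e1

/-- A central element of `K₀S` splits into central factors. -/
theorem exists_central_decomp {K₀ S C N : Subgroup Y} (hc : Cfg p K₀ S C N) {z : Y}
    (hz : z ∈ Subgroup.center Y) (hzR : z ∈ K₀ ⊔ S) :
    ∃ k ∈ C, ∃ s ∈ S, k ∈ Subgroup.center Y ∧ s ∈ Subgroup.center Y ∧ k * s = z := by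
  obtain ⟨j, hj⟩ := IsPGroup.iff_card.mp hc.gs.pg
  have hcop : (Nat.card K₀).Coprime (p ^ j) :=
    (Nat.Coprime.pow_left j (hp.out.coprime_iff_not_dvd.mpr hc.gs.p')).symm
  have hpow : z ^ (Nat.card K₀ * p ^ j) = 1 := by
    have hcard : Nat.card ↥(K₀ ⊔ S) = Nat.card K₀ * p ^ j := by
      rw [sup_comm, Grp.card_sup_coprime hc.gs.norm (hj.symm ▸ hcop.symm), hj, mul_comm]
    rw [← hcard]
    exact congrArg Subtype.val (pow_card_eq_one' (x := (⟨z, hzR⟩ : ↥(K₀ ⊔ S))))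
  obtain ⟨a, b, ha, hb, ham, hbq, hab⟩ := Grp.exists_pow_decomp hcop hpow
  have key : ∀ x ∈ Subgroup.zpowers z, ∃ k ∈ K₀, ∃ s ∈ S, k * s = x ∧
      ∀ n : ℕ, x ^ n = k ^ n * s ^ n := by
    intro x hx
    obtain ⟨k, hk, s, hs, hks⟩ := exists_mul_of_mem_sup hc.gs.norm (Subgroup.zpowers_le.mpr hzR hx)
    refine ⟨k, hk, s, hs, hks, fun n => ?_⟩
    have hxc : x ∈ Subgroup.center Y := Subgroup.zpowers_le.mpr hz hx
    have h1 : s * (k * s) = k * s * s := hks.symm ▸ Subgroup.mem_center_iff.mp hxc s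
    rw [← mul_assoc] at h1
    rw [← hks, (show Commute k s from (mul_right_cancel h1).symm).mul_pow]
  have hdis : ∀ x, x ∈ K₀ → x ∈ S → x = 1 := fun x h1 h2 => by
    have h : x ∈ K₀ ⊓ S := Subgroup.mem_inf.mpr ⟨h1, h2⟩
    rwa [Grp.inf_eq_bot_of_coprime (hj.symm ▸ hcop), Subgroup.mem_bot] at h
  have haK : a ∈ K₀ := by
    obtain ⟨k, hk, s, hs, hks, hp'⟩ := key a ha
    have h1 := hp' (Nat.card K₀)
    rw [ham] at h1
    have hkm : k ^ Nat.card K₀ = 1 :=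
      congrArg Subtype.val (pow_card_eq_one' (x := (⟨k, hk⟩ : K₀)))
    have hsp : s ^ p ^ j = 1 := by
      rw [← hj]; exact congrArg Subtype.val (pow_card_eq_one' (x := (⟨s, hs⟩ : S)))
    rw [hkm, one_mul] at h1
    have h2 := pow_gcd_eq_one.mpr ⟨h1.symm, hsp⟩
    rw [Nat.coprime_iff_gcd_eq_one.mp hcop, pow_one] at h2
    rw [← hks, h2, mul_one]; exact hk
  have hbS : b ∈ S := by
    obtain ⟨k, hk, s, hs, hks, hp'⟩ := key b hb
    have h1 := hp' (p ^ j)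
    rw [hbq] at h1
    have hkm : k ^ Nat.card K₀ = 1 :=
      congrArg Subtype.val (pow_card_eq_one' (x := (⟨k, hk⟩ : K₀)))
    have hsp : s ^ p ^ j = 1 := by
      rw [← hj]; exact congrArg Subtype.val (pow_card_eq_one' (x := (⟨s, hs⟩ : S)))
    rw [hsp, mul_one] at h1
    have h2 := pow_gcd_eq_one.mpr ⟨hkm, h1.symm⟩
    rw [Nat.coprime_iff_gcd_eq_one.mp hcop, pow_one] at h2
    rw [← hks, h2, one_mul]; exact hs
  have hac : a ∈ Subgroup.center Y := Subgroup.zpowers_le.mpr hz ha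
  refine ⟨a, ?_, b, hbS, hac, Subgroup.zpowers_le.mpr hz hb, hab.symm⟩
  rw [hc.gs.eq]
  exact Subgroup.mem_inf.mpr
    ⟨haK, Subgroup.mem_centralizer_iff.mpr fun s _ => Subgroup.mem_center_iff.mp hac s⟩

/-- The count when `K₀S` is normal with `K₀` of order prime to `p`. -/
theorem final_pPrime (K₀ : Subgroup Y) [K₀.Normal] (hK : ¬ p ∣ Nat.card K₀) (S : Sylow p Y)
    (hn : (K₀ ⊔ (S : Subgroup Y)).Normal) {Z : Subgroup Y} (hZc : Z ≤ Subgroup.center Y)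
    (hZR : Z ≤ K₀ ⊔ (S : Subgroup Y)) (ζ : Z →* ℂˣ) {N : Subgroup Y}
    (hN : N = Subgroup.normalizer ((S : Subgroup Y) : Set Y)) (hZN : Z ≤ N) :
    cnt p Z.subtype (fun z => (ζ z : ℂ)) = cnt p (Subgroup.inclusion hZN) (fun z => (ζ z : ℂ)) := by
  classical
  set C := K₀ ⊓ Subgroup.centralizer ((S : Subgroup Y) : Set Y) with hC
  have hK0n : ∀ g : Y, g ∈ Subgroup.normalizer (K₀ : Set Y) := fun g => by
    rw [Subgroup.normalizer_eq_top]; trivial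
  have hc : Cfg p K₀ (S : Subgroup Y) C N :=
    ⟨⟨S.isPGroup', fun s _ => hK0n s, hK, hC⟩, le_inf (fun g _ => hK0n g) hN.le⟩
  set R := K₀ ⊔ (S : Subgroup Y) with hR
  set T := C ⊔ (S : Subgroup Y) with hT
  have hSN : (S : Subgroup Y) ≤ N := hN ▸ Subgroup.le_normalizer
  have hCN : C ≤ N := by
    rw [hN]
    exact inf_le_right.trans (Subgroup.centralizer_le_normalizer _)
  have hTN : T ≤ N := sup_le hCN hSN
  obtain ⟨j, hj⟩ := IsPGroup.iff_card.mp (S.isPGroup')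
  have hdis : ∀ x, x ∈ K₀ → x ∈ (S : Subgroup Y) → x = 1 := fun x h1 h2 => by
    have hcop : (Nat.card K₀).Coprime (p ^ j) :=
      (Nat.Coprime.pow_left j (hp.out.coprime_iff_not_dvd.mpr hK)).symm
    have h : x ∈ K₀ ⊓ (S : Subgroup Y) := Subgroup.mem_inf.mpr ⟨h1, h2⟩
    rwa [Grp.inf_eq_bot_of_coprime (hj.symm ▸ hcop), Subgroup.mem_bot] at h
  have hRN : ∀ x ∈ R, x ∈ N → x ∈ T := by
    intro x hx hxN
    obtain ⟨k, hk, s, hs, rfl⟩ := exists_mul_of_mem_sup hc.gs.norm hx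
    refine Subgroup.mul_mem_sup (Subgroup.mem_inf.mpr ⟨hk, ?_⟩) hs
    have hkN : k ∈ N := by simpa using mul_mem hxN (inv_mem (hSN hs))
    refine Subgroup.mem_centralizer_iff.mpr fun t ht => ?_
    have h1 : k * t * k⁻¹ * t⁻¹ ∈ (S : Subgroup Y) :=
      mul_mem (conj_mem (hN ▸ hkN) ht) (inv_mem ht)
    have h2 : k * t * k⁻¹ * t⁻¹ ∈ K₀ := by
      have := mul_mem hk (conj_mem (hK0n t) (inv_mem hk))
      simpa [mul_assoc] using this
    have h3 := hdis _ h2 h1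
    rw [mul_inv_eq_one, mul_inv_eq_iff_eq_mul] at h3
    exact h3.symm
  have hZT : Z ≤ T := fun z hz => hRN z (hZR hz) (hZN hz)
  -- a complement of `S` in `N`
  haveI hSn : ((S : Subgroup Y).subgroupOf N).Normal :=
    Subgroup.normal_subgroupOf_of_le_normalizer hN.le
  have hNS : ¬ p ∣ ((S : Subgroup Y).subgroupOf N).index := fun h => S.not_dvd_index
    ((show p ∣ (S : Subgroup Y).relIndex N from h).trans
      ⟨_, (Subgroup.relIndex_mul_index hSN).symm⟩)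
  have hcS : Nat.card ((S : Subgroup Y).subgroupOf N) = p ^ j := by
    rw [← hj]; exact Nat.card_congr (Subgroup.subgroupOfEquivOfLe hSN).toEquiv
  obtain ⟨U', hU'⟩ := Subgroup.exists_right_complement'_of_coprime
    (N := (S : Subgroup Y).subgroupOf N)
    (by rw [hcS]; exact Nat.Coprime.pow_left j (hp.out.coprime_iff_not_dvd.mpr hNS))
  set U := U'.map N.subtype with hU
  have hUN : U ≤ N := Subgroup.map_subtype_le _
  have hUp : ¬ p ∣ Nat.card U := by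
    rw [hU, Subgroup.card_map_of_injective N.subtype_injective, ← hU'.symm.index_eq_card]
    exact hNS
  have hUS : ∀ x, x ∈ U → x ∈ (S : Subgroup Y) → x = 1 := fun x h1 h2 => by
    have h : x ∈ U ⊓ (S : Subgroup Y) := Subgroup.mem_inf.mpr ⟨h1, h2⟩
    have hcop : (Nat.card U).Coprime (Nat.card (S : Subgroup Y)) := by
      rw [hj]; exact (Nat.Coprime.pow_left j (hp.out.coprime_iff_not_dvd.mpr hUp)).symm
    rwa [Grp.inf_eq_bot_of_coprime hcop, Subgroup.mem_bot] at h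
  have hNUS : ∀ g ∈ N, ∃ u ∈ U, ∃ s ∈ (S : Subgroup Y), u * s = g := by
    intro g hg
    obtain ⟨s, hs, u, hu, hsu⟩ := Subgroup.mem_sup_of_normal_left.mp
      (hU'.sup_eq_top.symm ▸ Subgroup.mem_top (⟨g, hg⟩ : N) :
        (⟨g, hg⟩ : N) ∈ (S : Subgroup Y).subgroupOf N ⊔ U')
    refine ⟨u, ⟨u, hu, rfl⟩, (u : Y)⁻¹ * s * u, ?_, ?_⟩
    · have hu2 : ((u : Y)⁻¹ : Y) ∈ Subgroup.normalizer ((S : Subgroup Y) : Set Y) :=
        le_of_eq hN (inv_mem u.2)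
      simpa using conj_mem hu2 hs
    · rw [← mul_assoc, ← mul_assoc, mul_inv_cancel, one_mul]
      exact congrArg Subtype.val hsu
  have hCU : C ≤ U := by
    intro c hcC
    obtain ⟨u, hu, s, hs, hus⟩ := hNUS c (hCN hcC)
    have hn2 : U ≤ Subgroup.normalizer (C : Set Y) := hUN.trans hc.normC
    have hcard : ¬ p ∣ Nat.card ↥(U ⊔ C) := fun h =>
      (hp.out.dvd_mul.mp (h.trans (Grp.card_sup_dvd_mul hn2))).elim hUp hc.C_p'
    have hsUC : s ∈ (U ⊔ C) ⊓ (S : Subgroup Y) := by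
      refine Subgroup.mem_inf.mpr ⟨?_, hs⟩
      rw [← inv_mul_cancel_left u s, hus]
      exact mul_mem (Subgroup.mem_sup_left (inv_mem hu)) (Subgroup.mem_sup_right hcC)
    have hcop : (Nat.card ↥(U ⊔ C)).Coprime (Nat.card (S : Subgroup Y)) := by
      rw [hj]; exact (Nat.Coprime.pow_left j (hp.out.coprime_iff_not_dvd.mpr hcard)).symm
    rw [Grp.inf_eq_bot_of_coprime hcop, Subgroup.mem_bot] at hsUC
    rw [← hus, hsUC, mul_one]
    exact hu
  have hUR : U ⊓ R ≤ C := by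
    intro x hx
    obtain ⟨hxU, hxR⟩ := Subgroup.mem_inf.mp hx
    obtain ⟨c, hcC, s, hs, hcs⟩ := exists_mul_of_mem_sup hc.SnormC (hRN x hxR (hUN hxU))
    have hsU : s ∈ U := by
      rw [← inv_mul_cancel_left c s, hcs]
      exact mul_mem (inv_mem (hCU hcC)) hxU
    rw [← hcs, hUS s hsU hs, mul_one]
    exact hcC
  haveI := hn
  have hYN : ∀ g : Y, ∃ n ∈ N, ∃ r ∈ R, n * r = g := by
    intro g
    have htop : N ⊔ R = ⊤ := hN ▸ Sylow.normalizer_sup_eq_top' S le_sup_right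
    exact Subgroup.mem_sup_of_normal_right.mp (htop ▸ Subgroup.mem_top g)
  have hYU : ∀ g : Y, ∃ u ∈ U, ∃ r ∈ R, u * r = g := by
    intro g
    obtain ⟨n, hn', r, hr, rfl⟩ := hYN g
    obtain ⟨u, hu, s, hs, rfl⟩ := hNUS n hn'
    exact ⟨u, hu, s * r, mul_mem (Subgroup.mem_sup_right hs) hr, (mul_assoc _ _ _).symm⟩
  have hNU : ∀ g ∈ N, ∃ u ∈ U, ∃ r ∈ T, u * r = g := fun g hg => by
    obtain ⟨u, hu, s, hs, e⟩ := hNUS g hg
    exact ⟨u, hu, s, Subgroup.mem_sup_right hs, e⟩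
  -- the two counts
  have htopn : (⊤ : Subgroup Y) ≤ Subgroup.normalizer (R : Set Y) := by
    rw [Subgroup.normalizer_eq_top]
  have e1 := count_step (p := p) (M := ⊤) (N := N) hZc ζ (le_top : R ≤ ⊤) le_top htopn hZR
    (fun g _ => hYN g)
  have e2 := count_step (p := p) (M := N) (N := N) hZc ζ hTN le_rfl hc.normT hZT
    (fun g hg => ⟨g, hg, 1, one_mem _, mul_one g⟩)
  rw [← cnt_top (K := Z)]
  refine Nat.eq_of_mul_eq_mul_right (Nat.card_pos (α := N)) (e1.trans (Eq.trans ?_ e2.symm))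
  have hdec : ∀ (ψ : IrrCharacter R) (ψ' : IrrCharacter T),
      Rel hc.gs.le p (ψ : R → ℂ) (ψ' : T → ℂ) → ∀ z : Z,
      (ψ : R → ℂ) (Subgroup.inclusion hZR z) * (ψ' : T → ℂ) 1 =
        (ψ' : T → ℂ) (Subgroup.inclusion hZT z) * (ψ : R → ℂ) 1 := by
    intro ψ ψ' h z
    obtain ⟨k, hk, s, hs, hkc, hsc, hks⟩ := exists_central_decomp hc (hZc z.2) (hZR z.2)
    have e := hc.rel_central h hk hs hkc hsc
    rwa [show (⟨k * s, _⟩ : R) = Subgroup.inclusion hZR z from Subtype.ext hks,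
      show (⟨k * s, _⟩ : T) = Subgroup.inclusion hZT z from Subtype.ext hks] at e
  have hfwd : ∀ ψ ∈ Psi p hZR ζ, ∃ ψ' ∈ Psi p hZT ζ,
      Rel hc.gs.le p (ψ : R → ℂ) ((ψ' : IrrCharacter T) : T → ℂ) := by
    intro ψ hψ
    obtain ⟨hd, hl⟩ := (mem_Psi hZR ζ ψ).mp hψ
    obtain ⟨ψ', h⟩ := hc.rel_exists hd
    refine ⟨ψ', (mem_Psi hZT ζ ψ').mpr ⟨(hc.rel_degree h).2,
      (lies_val_iff hZc hZT ζ ψ'.2).mpr fun z => ?_⟩, h⟩
    have e := hdec ψ ψ' h z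
    rw [(lies_val_iff hZc hZR ζ ψ.2).mp hl z] at e
    exact mul_right_cancel₀ (IsIrr.one_ne_zero ψ.2) (e.symm.trans (by ring))
  choose f hf hfrel using hfwd
  refine Finset.sum_bij f hf (fun a ha b hb e => ?_) (fun ψ' hψ' => ?_) (fun ψ hψ => ?_)
  · refine Subtype.ext (hc.rel_left_unique (hfrel a ha) ?_)
    rw [e]
    exact hfrel b hb
  · obtain ⟨hd, hl⟩ := (mem_Psi hZT ζ ψ').mp hψ'
    obtain ⟨ψ, h⟩ := hc.rel_surj hd
    have hψ : ψ ∈ Psi p hZR ζ := by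
      refine (mem_Psi hZR ζ ψ).mpr ⟨(hc.rel_degree h).1,
        (lies_val_iff hZc hZR ζ ψ.2).mpr fun z => ?_⟩
      have e := hdec ψ ψ' h z
      rw [(lies_val_iff hZc hZT ζ ψ'.2).mp hl z] at e
      exact mul_right_cancel₀ (IsIrr.one_ne_zero ψ'.2) (e.trans (by ring))
    exact ⟨ψ, hψ, Subtype.ext (hc.rel_right_unique (hfrel ψ hψ) h)⟩
  · have hst : N ⊓ St R (ψ : R → ℂ) = N ⊓ St T ((f ψ hψ : IrrCharacter T) : T → ℂ) := by
      ext g
      rw [Subgroup.mem_inf, Subgroup.mem_inf]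
      exact and_congr_right fun hg => hc.rel_st (hfrel ψ hψ) hg
    rw [hst, cnt_eq_of_rel S hc hn hTN hUN hUp hCU hUR hYU hNU (hfrel ψ hψ)]

/-- The count when `KS` is normal and `K` has `p'`-index over the centre. -/
theorem final {Z : Subgroup Y} (hZc : Z ≤ Subgroup.center Y) (ζ : Z →* ℂˣ) (S : Sylow p Y)
    (K : Subgroup Y) [hKn : K.Normal] (hZK : Z ≤ K) (hK : ¬ p ∣ Z.relIndex K)
    (hn : (K ⊔ (S : Subgroup Y)).Normal) {N : Subgroup Y}
    (hN : N = Subgroup.normalizer ((Z ⊔ (S : Subgroup Y) : Subgroup Y) : Set Y)) (hZN : Z ≤ N) :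
    cnt p Z.subtype (fun z => (ζ z : ℂ)) = cnt p (Subgroup.inclusion hZN) (fun z => (ζ z : ℂ)) := by
  classical
  -- the central Sylow subgroup of `K`
  obtain ⟨Q⟩ : Nonempty (Sylow p K) := inferInstance
  have hQc : ∀ q ∈ (Q : Subgroup K), (q : Y) ∈ Subgroup.center Y := by
    intro q hq
    obtain ⟨i, hi⟩ := Q.isPGroup' ⟨q, hq⟩
    refine hZc ?_
    haveI : (Z.subgroupOf K).Normal :=
      ⟨fun x hx g => by
        show (g : Y) * (x : Y) * (g : Y)⁻¹ ∈ Z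
        have hxZ : (x : Y) ∈ Z := hx
        rw [Subgroup.mem_center_iff.mp (hZc hxZ) (g : Y), mul_inv_cancel_right]
        exact hxZ⟩
    have h1 : (QuotientGroup.mk' (Z.subgroupOf K) q) ^ p ^ i = 1 := by
      rw [← map_pow, show q ^ p ^ i = 1 from congrArg Subtype.val hi, map_one]
    have h2 : (QuotientGroup.mk' (Z.subgroupOf K) q) ^ (Z.subgroupOf K).index = 1 := by
      rw [Subgroup.index_eq_card]; exact pow_card_eq_one'
    have h3 := pow_gcd_eq_one.mpr ⟨h1, h2⟩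
    rw [show (Z.subgroupOf K).index = Z.relIndex K from rfl,
      Nat.coprime_iff_gcd_eq_one.mp (Nat.Coprime.pow_left i (hp.out.coprime_iff_not_dvd.mpr hK)),
      pow_one] at h3
    exact (QuotientGroup.eq_one_iff q).mp h3
  haveI hQn : (Q : Subgroup K).Normal := ⟨fun q hq g => by
    have : g * q * g⁻¹ = q := Subtype.ext (by
      show (g : Y) * (q : Y) * (g : Y)⁻¹ = q
      rw [Subgroup.mem_center_iff.mp (hQc q hq) (g : Y), mul_inv_cancel_right])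
    rwa [this]⟩
  obtain ⟨j, hj⟩ := IsPGroup.iff_card.mp Q.isPGroup'
  obtain ⟨H, hH⟩ := Subgroup.exists_right_complement'_of_coprime (N := (Q : Subgroup K))
    (by rw [hj]; exact Nat.Coprime.pow_left j (hp.out.coprime_iff_not_dvd.mpr Q.not_dvd_index))
  have hHp : ¬ p ∣ Nat.card H := by
    rw [← hH.symm.index_eq_card]; exact Q.not_dvd_index
  have hsplit : ∀ k : K, ∃ q ∈ (Q : Subgroup K), ∃ h ∈ H, q * h = k := fun k =>
    Subgroup.mem_sup_of_normal_left.mp (hH.sup_eq_top.symm ▸ Subgroup.mem_top k)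
  have hchar : ∀ k : K, k ^ Nat.card H = 1 → k ∈ H := by
    intro k hk
    obtain ⟨q, hq, h, hh, rfl⟩ := hsplit k
    have hcomm : Commute q h :=
      (show Commute h q from Subtype.ext (Subgroup.mem_center_iff.mp (hQc q hq) (h : Y))).symm
    have h1 : q ^ Nat.card H = 1 := by
      have h2 : h ^ Nat.card H = 1 :=
        congrArg Subtype.val (pow_card_eq_one' (x := (⟨h, hh⟩ : H)))
      rwa [hcomm.mul_pow, h2, mul_one] at hk
    have h2 : q ^ p ^ j = 1 := by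
      rw [← hj]; exact congrArg Subtype.val (pow_card_eq_one' (x := (⟨q, hq⟩ : (Q : Subgroup K))))
    have h3 := pow_gcd_eq_one.mpr ⟨h2, h1⟩
    rw [Nat.coprime_iff_gcd_eq_one.mp (Nat.Coprime.pow_left j (hp.out.coprime_iff_not_dvd.mpr hHp)),
      pow_one] at h3
    rw [h3, one_mul]; exact hh
  set K₀ := H.map K.subtype with hK₀
  haveI : K₀.Normal := ⟨by
    rintro _ ⟨x, hx, rfl⟩ g
    refine ⟨⟨g * (x : Y) * g⁻¹, hKn.conj_mem _ x.2 g⟩, hchar _ (Subtype.ext ?_), rfl⟩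
    show (g * (x : Y) * g⁻¹) ^ Nat.card H = 1
    have h2 : (x : Y) ^ Nat.card H = 1 :=
      congrArg (fun z : H => ((z : K) : Y)) (pow_card_eq_one' (x := (⟨x, hx⟩ : H)))
    rw [conj_pow, h2]
    group⟩
  have hK0p : ¬ p ∣ Nat.card K₀ := by
    rw [hK₀, Subgroup.card_map_of_injective K.subtype_injective]; exact hHp
  -- the Sylow subgroup of `K` is inside `S`
  have hQS : (Q : Subgroup K).map K.subtype ≤ (S : Subgroup Y) := by
    haveI : ((Q : Subgroup K).map K.subtype).Normal := ⟨by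
      rintro _ ⟨q, hq, rfl⟩ g
      refine ⟨q, hq, ?_⟩
      show (q : Y) = g * (q : Y) * g⁻¹
      rw [Subgroup.mem_center_iff.mp (hQc q hq) g, mul_inv_cancel_right]⟩
    exact (Q.isPGroup'.map K.subtype).le_sylow_of_normal S
  have hKR : K ⊔ (S : Subgroup Y) = K₀ ⊔ (S : Subgroup Y) := by
    refine le_antisymm (sup_le (fun x hx => ?_) le_sup_right)
      (sup_le_sup_right (Subgroup.map_subtype_le _) _)
    obtain ⟨q, hq, h, hh, he⟩ := hsplit ⟨x, hx⟩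
    have hx' : (q : Y) * (h : Y) = x := congrArg Subtype.val he
    rw [← hx']
    exact mul_mem (Subgroup.mem_sup_right (hQS ⟨q, hq, rfl⟩))
      (Subgroup.mem_sup_left ⟨h, hh, rfl⟩)
  have hNS : N = Subgroup.normalizer ((S : Subgroup Y) : Set Y) := by
    rw [hN]
    haveI : Z.Normal := ⟨fun z hz g => by
      rwa [Subgroup.mem_center_iff.mp (hZc hz) g, mul_inv_cancel_right]⟩
    refine le_antisymm (fun g hg => ?_) (fun g hg => mem_normalizer_sup (by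
      rw [Subgroup.normalizer_eq_top]; trivial) hg)
    set P := Z ⊔ (S : Subgroup Y) with hP
    have hSP : (S : Subgroup Y) ≤ P := le_sup_right
    haveI : (((S.subtype hSP : Sylow p P) : Subgroup P)).Normal := by
      show ((S : Subgroup Y).subgroupOf P).Normal
      refine Subgroup.normal_subgroupOf_of_le_normalizer (sup_le (fun z hz => ?_)
        Subgroup.le_normalizer)
      exact Subgroup.center_le_normalizer _ (hZc hz)
    refine mem_normalizer_of_le fun s hs => ?_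
    have hmem : g * s * g⁻¹ ∈ P := conj_mem hg (hSP hs)
    have hpg : IsPGroup p (((S : Subgroup Y).map (MulAut.conj g).toMonoidHom).subgroupOf P) :=
      (S.isPGroup'.map _).comap_subtype
    obtain ⟨S', hS'⟩ := hpg.exists_le_sylow
    haveI := Sylow.unique_of_normal (S.subtype hSP : Sylow p P) inferInstance
    have hmem' : (⟨g * s * g⁻¹, hmem⟩ : P) ∈ (S' : Subgroup P) := hS' ⟨s, hs, rfl⟩
    rw [Subsingleton.elim S' (S.subtype hSP)] at hmem'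
    exact hmem'
  exact final_pPrime K₀ hK0p S (hKR ▸ hn) hZc (hKR ▸ hZK.trans le_sup_left) ζ hNS hZN

end Cfsg.Agent.Block.RelMcKay
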