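import Cfsg.Agent.Lib.Block.RelMcKay.Twist
import Cfsg.Agent.Lib.Char.GlaubermanSolvable
import Cfsg.Agent.Lib.Char.PPrimeDegree

/-!
# The Glauberman correspondence and canonical extensions, inside an ambient group
-/

set_option autoImplicit false
set_option linter.style.haveILetI false
set_option linter.unusedSectionVars false

open scoped ComplexConjugate

namespace Cfsg.Agent.Block.RelMcKay

open Cfsg Cfsg.Agent.Char Cfsg.Agent.Block

universe u

variable {Y : Type u} [Group Y] {p : ℕ} {C K : Subgroup Y}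

/-- The multiplicity of `φ` in the restriction of `θ` is prime to `p`. -/
def GCorr (p : ℕ) (hCK : C ≤ K) (θ : K → ℂ) (φ : C → ℂ) : Prop :=
  ∃ n : ℕ, ¬ p ∣ n ∧
    ∑ᶠ c : C, θ (Subgroup.inclusion hCK c) * conj (φ c) = (n : ℂ) * (Nat.card C : ℂ)

theorem gcorr_iff [Fintype C] (hCK : C ≤ K) (θ : K → ℂ) (φ : C → ℂ) :
    GCorr p hCK θ φ ↔ ∃ n : ℕ, ¬ p ∣ n ∧ classInner (resTo hCK θ) φ = (n : ℂ) := by
  simp only [GCorr, finsum_eq_sum_of_fintype, classInner]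
  refine exists_congr fun n => and_congr_right fun _ => ?_
  rw [inv_mul_eq_iff_eq_mul₀ (Nat.cast_ne_zero.mpr Nat.card_pos.ne'), mul_comm (n : ℂ)]
  rfl

theorem GCorr.lies [Finite Y] {hCK : C ≤ K} {θ : K → ℂ} {φ : C → ℂ} (h : GCorr p hCK θ φ) :
    Lies (Subgroup.inclusion hCK) φ θ := by
  obtain ⟨n, hn, he⟩ := h
  rw [Lies, he]
  exact mul_ne_zero (Nat.cast_ne_zero.mpr fun h0 => hn (h0 ▸ dvd_zero p))
    (Nat.cast_ne_zero.mpr Nat.card_pos.ne')

theorem gcorr_congr {C' : Subgroup Y} (hC : C' = C) (hCK : C ≤ K) (hCK' : C' ≤ K) (θ : K → ℂ)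
    (φ : C → ℂ) :
    GCorr p hCK θ φ ↔ GCorr p hCK' θ (fun c => φ ⟨c, hC ▸ c.2⟩) := by
  subst hC; rfl

/-- Equivariance. -/
theorem gcorr_cj [Finite Y] (hCK : C ≤ K) {θ : K → ℂ} {φ : C → ℂ} {g : Y}
    (hgK : g ∈ Subgroup.normalizer (K : Set Y)) (hgC : g ∈ Subgroup.normalizer (C : Set Y))
    (h : GCorr p hCK θ φ) : GCorr p hCK (cj K g θ) (cj C g φ) := by
  obtain ⟨n, hn, he⟩ := h
  refine ⟨n, hn, he ▸ ?_⟩
  refine finsum_eq_of_bijective (cjEquiv hgC) (cjEquiv hgC).bijective fun c => ?_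
  rw [cj_apply hgK, cj_apply hgC]
  rfl

theorem norm_linear [Finite Y] {H : Subgroup Y} (l : H →* ℂˣ) (x : H) :
    (l x : ℂ) * conj (l x : ℂ) = 1 := by
  have h : (l x⁻¹ : ℂ) = conj (l x : ℂ) := IsIrr.apply_inv (isIrr_linear l) x
  rw [← h, map_inv, Units.mul_inv]

/-- Compatibility with twisting. -/
theorem gcorr_twist [Finite Y] (hCK : C ≤ K) {θ : K → ℂ} {φ : C → ℂ} (l : K →* ℂˣ)
    (h : GCorr p hCK θ φ) :
    GCorr p hCK (fun x => (l x : ℂ) * θ x)
      (fun c => (l (Subgroup.inclusion hCK c) : ℂ) * φ c) := by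
  obtain ⟨n, hn, he⟩ := h
  refine ⟨n, hn, he ▸ finsum_congr fun c => ?_⟩
  show (l _ : ℂ) * θ _ * conj ((l _ : ℂ) * φ c) = _
  rw [map_mul, show (l (Subgroup.inclusion hCK c) : ℂ) * θ (Subgroup.inclusion hCK c) *
    (conj (l (Subgroup.inclusion hCK c) : ℂ) * conj (φ c)) =
    (l (Subgroup.inclusion hCK c) : ℂ) * conj (l (Subgroup.inclusion hCK c) : ℂ) *
      (θ (Subgroup.inclusion hCK c) * conj (φ c)) by ring, norm_linear, one_mul]

/-- Composition modulo `p`: only one constituent matters. -/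
theorem gcorr_step [Finite Y] [hp : Fact p.Prime] {C₁ : Subgroup Y} (hC1 : C ≤ C₁) (h1K : C₁ ≤ K)
    {θ : K → ℂ} (hθ : IsCharacter K θ) {θ₁ : C₁ → ℂ} (hθ₁ : IsIrrCharacter C₁ θ₁)
    (h1 : GCorr p h1K θ θ₁)
    (huniq : ∀ β : C₁ → ℂ, IsIrrCharacter C₁ β → GCorr p h1K θ β → β = θ₁)
    {φ : C → ℂ} (hφ : IsIrrCharacter C φ) :
    GCorr p (hC1.trans h1K) θ φ ↔ GCorr p hC1 θ₁ φ := by
  classical
  haveI := Fintype.ofFinite C
  haveI := Fintype.ofFinite C₁
  haveI := Fintype.ofFinite K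
  obtain ⟨a, ha, hdec⟩ := IsChar.exists_decomp_inner (IsChar.comp (Subgroup.inclusion h1K) hθ)
  choose x hx using fun β : IrrCharacter C₁ => IsChar.classInner_nat
    (IsChar.comp (Subgroup.inclusion hC1) (irr_isChar β)) (IsIrr.isCharacter hφ)
  have hsum : classInner (resTo (hC1.trans h1K) θ) φ =
      ((∑ β : IrrCharacter C₁, a β * x β : ℕ) : ℂ) := by
    have e : resTo (hC1.trans h1K) θ = ∑ β : IrrCharacter C₁,
        (a β : ℂ) • fun c => (β : C₁ → ℂ) (Subgroup.inclusion hC1 c) := by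
      funext c
      have := congrFun hdec (Subgroup.inclusion hC1 c)
      simp only [Finset.sum_apply, Pi.smul_apply] at this ⊢
      exact this
    rw [e, classInner_sum_left, Nat.cast_sum]
    exact Finset.sum_congr rfl fun β _ => by rw [classInner_smul_left, hx, Nat.cast_mul]
  obtain ⟨n₁, hn₁, he₁⟩ := (gcorr_iff h1K θ θ₁).mp h1
  have ha1 : a ⟨θ₁, hθ₁⟩ = n₁ := Nat.cast_injective ((ha ⟨θ₁, hθ₁⟩).symm.trans he₁)
  have hz : ((∑ β : IrrCharacter C₁, a β * x β : ℕ) : ZMod p) =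
      (n₁ : ZMod p) * (x ⟨θ₁, hθ₁⟩ : ZMod p) := by
    rw [Nat.cast_sum, Finset.sum_eq_single ⟨θ₁, hθ₁⟩ (fun β _ hne => ?_)
      (fun h => absurd (Finset.mem_univ _) h), Nat.cast_mul, ha1]
    rw [Nat.cast_mul, (ZMod.natCast_eq_zero_iff _ _).mpr (by_contra fun h => hne (Subtype.ext
      (huniq β β.2 ((gcorr_iff h1K θ _).mpr ⟨a β, h, ha β⟩)))), zero_mul]
  have hn0 : (n₁ : ZMod p) ≠ 0 := fun h => hn₁ ((ZMod.natCast_eq_zero_iff _ _).mp h)
  have hiff : p ∣ ∑ β : IrrCharacter C₁, a β * x β ↔ p ∣ x ⟨θ₁, hθ₁⟩ := by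
    rw [← ZMod.natCast_eq_zero_iff _ p, ← ZMod.natCast_eq_zero_iff _ p, hz, mul_eq_zero]
    simp [hn0]
  rw [gcorr_iff, gcorr_iff]
  constructor
  · rintro ⟨n, hn, he⟩
    rw [hsum] at he
    exact ⟨_, fun h => hn (Nat.cast_injective he ▸ hiff.mpr h), hx ⟨θ₁, hθ₁⟩⟩
  · rintro ⟨n, hn, he⟩
    have : n = x ⟨θ₁, hθ₁⟩ := Nat.cast_injective (he.symm.trans (hx ⟨θ₁, hθ₁⟩))
    exact ⟨_, fun h => hn (this ▸ hiff.mp h), hsum⟩

/-- The hypotheses of the correspondence. -/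
structure GSetup (p : ℕ) (S C K : Subgroup Y) : Prop where
  pg : IsPGroup p S
  norm : S ≤ Subgroup.normalizer (K : Set Y)
  p' : ¬ p ∣ Nat.card K
  eq : C = K ⊓ Subgroup.centralizer (S : Set Y)

namespace GSetup

variable {S : Subgroup Y}

theorem le (hS : GSetup p S C K) : C ≤ K := hS.eq ▸ inf_le_left

variable [Finite Y] [hp : Fact p.Prime] (hS : GSetup p S C K)
include hS

theorem exists_data :
    ∃ (A : Subgroup (MulAut K)) (e : ↥(Glaub.fix A) ≃* C), IsPGroup p A ∧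
      (∀ c : ↥(Glaub.fix A), ((e c : C) : Y) = ((c : K) : Y)) ∧
      ∀ f : K → ℂ, Glaub.Inv A f ↔ ∀ s ∈ S, cj K s f = f := by
  let h : ∀ s ∈ S, ∀ g ∈ K, s * g * s⁻¹ ∈ K := fun s hs g hg => conj_mem (hS.norm hs) hg
  let A : Subgroup (MulAut K) := (Glaub.conjHom K S h).range
  have hmem : ∀ k : K, k ∈ Glaub.fix A ↔ (k : Y) ∈ C := by
    intro k
    rw [hS.eq, Subgroup.mem_inf, Subgroup.mem_centralizer_iff]
    constructor
    · intro hk
      refine ⟨k.2, fun s hs => ?_⟩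
      have h1 := congrArg (fun z : K => (z : Y)) (hk _ ⟨⟨s, hs⟩, rfl⟩)
      exact mul_inv_eq_iff_eq_mul.mp h1
    · rintro ⟨-, hk⟩ _ ⟨s, rfl⟩
      refine Subtype.ext ?_
      show (s : Y) * k * (s : Y)⁻¹ = k
      rw [hk s s.2, mul_inv_cancel_right]
  let e : ↥(Glaub.fix A) ≃* C :=
    { toFun := fun c => ⟨(c : K), (hmem _).mp c.2⟩
      invFun := fun c => ⟨⟨c, hS.le c.2⟩, (hmem _).mpr c.2⟩
      left_inv := fun c => rfl
      right_inv := fun c => rfl
      map_mul' := fun a b => rfl }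
  refine ⟨A, e, hS.pg.of_surjective _ (Glaub.conjHom K S h).rangeRestrict_surjective,
    fun c => rfl, fun f => ?_⟩
  rw [Glaub.inv_conjHom_iff]
  constructor
  · intro hf s hs
    funext k
    rw [cj_apply (hS.norm hs)]
    exact hf s hs k _ rfl
  · intro hf s hs g g' hgg
    have h1 := congrFun (hf s hs) g
    rw [cj_apply (hS.norm hs)] at h1
    rw [← h1]
    exact congrArg f (Subtype.ext hgg)

theorem cop : Nat.Coprime (Nat.card K) p := ((hp.out.coprime_iff_not_dvd).mpr hS.p').symm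

omit hS in
theorem corr_iff {A : Subgroup (MulAut K)} (e : ↥(Glaub.fix A) ≃* C) (hCK : C ≤ K)
    (he : ∀ c : ↥(Glaub.fix A), ((e c : C) : Y) = ((c : K) : Y)) [Fintype K]
    [Fintype (Glaub.fix A)] (θ : IrrCharacter K) (φ : IrrCharacter C) :
    Glaub.Corr p θ (irrCongr e φ) ↔ GCorr p hCK (θ : K → ℂ) (φ : C → ℂ) := by
  haveI := Fintype.ofFinite C
  have h : classInner (fun c : ↥(Glaub.fix A) => (θ : K → ℂ) c)
      ((irrCongr e φ : IrrCharacter _) : ↥(Glaub.fix A) → ℂ) =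
        classInner (resTo hCK (θ : K → ℂ)) (φ : C → ℂ) := by
    rw [← classInner_comp_surjective e.toMonoidHom e.surjective (resTo hCK (θ : K → ℂ))]
    congr 1
    funext c
    exact congrArg (θ : K → ℂ) (Subtype.ext (he c).symm)
  rw [gcorr_iff, Glaub.Corr, ← h, Glaub.mult_spec _ (irr_isChar θ) (irr_isChar _)]
  exact ⟨fun h => ⟨_, h, rfl⟩, fun ⟨n, hn, he⟩ hd => hn (Nat.cast_injective he ▸ hd)⟩

theorem exists_gcorr {θ : K → ℂ} (hθ : IsIrrCharacter K θ) (hinv : ∀ s ∈ S, cj K s θ = θ) :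
    ∃ φ : IrrCharacter C, GCorr p hS.le θ (φ : C → ℂ) := by
  obtain ⟨A, e, hA, he, hi⟩ := hS.exists_data
  obtain ⟨M, hM⟩ := exists_isPModular p hp.out
  haveI := Fintype.ofFinite K
  haveI := Fintype.ofFinite (Glaub.fix A)
  obtain ⟨β, hβ⟩ := Glaub.exists_corr hM hA hS.cop (χ := ⟨θ, hθ⟩) ((hi θ).mpr hinv)
  obtain ⟨φ, rfl⟩ := (irrCongr e).surjective β
  exact ⟨φ, (corr_iff e hS.le he ⟨θ, hθ⟩ φ).mp hβ⟩

theorem unique {θ : K → ℂ} (hθ : IsIrrCharacter K θ) (hinv : ∀ s ∈ S, cj K s θ = θ)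
    {φ φ' : C → ℂ} (hφ : IsIrrCharacter C φ) (hφ' : IsIrrCharacter C φ')
    (h : GCorr p hS.le θ φ) (h' : GCorr p hS.le θ φ') : φ = φ' := by
  obtain ⟨A, e, hA, he, hi⟩ := hS.exists_data
  obtain ⟨M, hM⟩ := exists_isPModular p hp.out
  haveI := Fintype.ofFinite K
  haveI := Fintype.ofFinite (Glaub.fix A)
  exact congrArg Subtype.val ((irrCongr e).injective
    (Glaub.corr_unique hM hA hS.cop (χ := ⟨θ, hθ⟩) ((hi θ).mpr hinv)
      ((corr_iff e hS.le he ⟨θ, hθ⟩ ⟨φ, hφ⟩).mpr h)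
      ((corr_iff e hS.le he ⟨θ, hθ⟩ ⟨φ', hφ'⟩).mpr h')))

theorem inj {θ θ' : K → ℂ} (hθ : IsIrrCharacter K θ) (hθ' : IsIrrCharacter K θ')
    (hinv : ∀ s ∈ S, cj K s θ = θ) (hinv' : ∀ s ∈ S, cj K s θ' = θ')
    {φ : C → ℂ} (hφ : IsIrrCharacter C φ)
    (h : GCorr p hS.le θ φ) (h' : GCorr p hS.le θ' φ) : θ = θ' := by
  obtain ⟨A, e, hA, he, hi⟩ := hS.exists_data
  obtain ⟨M, hM⟩ := exists_isPModular p hp.out
  haveI := Fintype.ofFinite K
  haveI := Fintype.ofFinite (Glaub.fix A)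
  exact congrArg Subtype.val
    (Glaub.corr_inj hM hA hS.cop (χ := ⟨θ, hθ⟩) (χ' := ⟨θ', hθ'⟩) ((hi θ).mpr hinv)
      ((hi θ').mpr hinv') ((corr_iff e hS.le he ⟨θ, hθ⟩ ⟨φ, hφ⟩).mpr h)
      ((corr_iff e hS.le he ⟨θ', hθ'⟩ ⟨φ, hφ⟩).mpr h'))

theorem surj {φ : C → ℂ} (hφ : IsIrrCharacter C φ) :
    ∃ θ : IrrCharacter K, (∀ s ∈ S, cj K s (θ : K → ℂ) = (θ : K → ℂ)) ∧
      GCorr p hS.le (θ : K → ℂ) φ := by
  obtain ⟨A, e, hA, he, hi⟩ := hS.exists_data
  obtain ⟨M, hM⟩ := exists_isPModular p hp.out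
  haveI := Fintype.ofFinite K
  haveI := Fintype.ofFinite (Glaub.fix A)
  obtain ⟨θ, h1, h2⟩ := Glaub.surj_corr hM hA hS.cop (irrCongr e ⟨φ, hφ⟩)
  exact ⟨θ, (hi _).mp h1, (corr_iff e hS.le he θ ⟨φ, hφ⟩).mp h2⟩

/-- Anything fixing `θ` and normalising the centraliser fixes the correspondent. -/
theorem cj_eq {θ : K → ℂ} (hθ : IsIrrCharacter K θ) (hinv : ∀ s ∈ S, cj K s θ = θ)
    {φ : C → ℂ} (hφ : IsIrrCharacter C φ) (h : GCorr p hS.le θ φ) {g : Y} (hg : g ∈ St K θ)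
    (hgC : g ∈ Subgroup.normalizer (C : Set Y)) : cj C g φ = φ := by
  refine hS.unique hθ hinv (irr_cj hgC hφ) hφ ?_ h
  have h1 := gcorr_cj hS.le hg.1 hgC h
  rwa [hg.2] at h1

end GSetup

/-! ### canonical extensions -/

section Canonical

variable {R : Subgroup Y}

/-- An extension with determinantal order prime to `p`. -/
def IsCan (p : ℕ) (hKR : K ≤ R) (θ : K → ℂ) (η : R → ℂ) : Prop :=
  IsIrrCharacter R η ∧ resTo hKR η = θ ∧ ¬ p ∣ orderOf (detChar η)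

variable [Finite Y] [hp : Fact p.Prime]

theorem not_dvd_degree {θ : K → ℂ} (hθ : IsIrrCharacter K θ) (hK : ¬ p ∣ Nat.card K) :
    ¬ p ∣ charDegree θ := fun h => hK (h.trans (charDeg_dvd ⟨θ, hθ⟩))

theorem coprime_index (hK : ¬ p ∣ Nat.card K) {k : ℕ} (hk : K.relIndex R = p ^ k) {m : ℕ}
    (hm : m ∣ Nat.card K) : Nat.Coprime (K.subgroupOf R).index m := by
  rw [show (K.subgroupOf R).index = p ^ k from hk]
  exact Nat.Coprime.pow_left _ (hp.out.coprime_iff_not_dvd.mpr fun h => hK (h.trans hm))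

theorem orderOf_det_dvd {θ : K → ℂ} (hθ : IsIrrCharacter K θ) :
    orderOf (detChar θ) ∣ Nat.card K := by
  obtain ⟨l, hl⟩ := isCharacter_detChar hθ
  rw [hl, orderOf_unitsFun]
  refine orderOf_dvd_of_pow_eq_one (MonoidHom.ext fun g => ?_)
  show l g ^ Nat.card K = 1
  rw [← map_pow, pow_card_eq_one', map_one]

theorem exists_can (hKR : K ≤ R) (hK : ¬ p ∣ Nat.card K) {k : ℕ} (hk : K.relIndex R = p ^ k)
    {θ : K → ℂ} (hθ : IsIrrCharacter K θ) (hR : R ≤ St K θ) : ∃ η, IsCan p hKR θ η := by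
  have hn := hR.trans (St_le_normalizer K θ)
  haveI := Subgroup.normal_subgroupOf_of_le_normalizer hn
  haveI := Fintype.ofFinite R
  have hθ' := irr_resOf hKR hθ
  have hd : resOf hKR θ 1 = (charDegree θ : ℂ) := by
    rw [show resOf hKR θ 1 = θ 1 by simp [resOf]]; exact charDeg_spec' ⟨θ, hθ⟩
  have hc := Nat.card_congr (Subgroup.subgroupOfEquivOfLe hKR).toEquiv
  have hodvd : orderOf (detChar (resOf hKR θ)) ∣ Nat.card K := hc ▸ orderOf_det_dvd hθ'
  have hddvd : charDegree θ ∣ Nat.card K := charDeg_dvd ⟨θ, hθ⟩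
  have hinv : ∀ (g : R) (n : K.subgroupOf R), resOf hKR θ
      ⟨g * n * g⁻¹, (inferInstance : (K.subgroupOf R).Normal).conj_mem (n : R) n.2 g⟩ =
        resOf hKR θ n := by
    intro g n
    have h := congrFun (congrArg (resOf hKR) (hR g.2).2) n
    rw [← conjN_resOf hKR hn, conjN_apply] at h
    exact h
  have hcop : Nat.Coprime (K.subgroupOf R).index
      (orderOf (detChar (resOf hKR θ)) * charDegree θ) :=
    Nat.Coprime.mul_right (coprime_index hK hk hodvd) (coprime_index hK hk hddvd)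
  obtain ⟨η₀, hη₀, hres₀⟩ := Ext.exists_extension_of_witness hθ' hinv hd
    fun q hq => Ext.witness_of_coprime hθ' hcop hq
  obtain ⟨δ, hδ⟩ := isCharacter_detChar hη₀
  have hδres : ∀ m : K.subgroupOf R, (δ m : ℂ) = detChar (resOf hKR θ) m := fun m => by
    rw [← congrFun hδ (m : R)]
    exact (detChar_comp hη₀ (K.subgroupOf R).subtype hθ' hres₀ m).symm
  obtain ⟨l, hl, hlo⟩ := Ext.exists_linear_adjust (N := K.subgroupOf R) δ
    (o := orderOf (detChar (resOf hKR θ))) (congrArg orderOf (funext hδres))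
    (coprime_index hK hk hodvd)
  obtain ⟨η, hη, hres, hdet⟩ := Ext.exists_ext_det hθ' hd (coprime_index hK hk hddvd) hη₀ hres₀ l
    (fun m => by rw [hl, hδres])
  refine ⟨η, hη, funext fun x => ?_, ?_⟩
  · obtain ⟨x, rfl⟩ := (Subgroup.subgroupOfEquivOfLe hKR).surjective x
    exact hres x
  · rw [hdet, orderOf_unitsFun, hlo]
    exact fun h => hK (h.trans hodvd)

theorem IsCan.unique {hKR : K ≤ R} (hn : R ≤ Subgroup.normalizer (K : Set Y))
    (hK : ¬ p ∣ Nat.card K) {k : ℕ} (hk : K.relIndex R = p ^ k) {θ : K → ℂ}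
    (hθ : IsIrrCharacter K θ) {η η' : R → ℂ} (h : IsCan p hKR θ η) (h' : IsCan p hKR θ η') :
    η = η' := by
  haveI := Subgroup.normal_subgroupOf_of_le_normalizer hn
  haveI := Fintype.ofFinite R
  have hθ' := irr_resOf hKR hθ
  have hd : resOf hKR θ 1 = (charDegree θ : ℂ) := by
    rw [show resOf hKR θ 1 = θ 1 by simp [resOf]]; exact charDeg_spec' ⟨θ, hθ⟩
  have hres : ∀ {f : R → ℂ}, IsCan p hKR θ f → ∀ m : K.subgroupOf R, f m = resOf hKR θ m :=
    fun hf m => congrFun hf.2.1 (Subgroup.subgroupOfEquivOfLe hKR m)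
  obtain ⟨δ, hδ⟩ := isCharacter_detChar h.1
  obtain ⟨δ', hδ'⟩ := isCharacter_detChar h'.1
  have hcop : ∀ {d : R →* ℂˣ} {f : R → ℂ}, detChar f = (fun g => (d g : ℂ)) →
      IsCan p hKR θ f → Nat.Coprime (K.subgroupOf R).index (orderOf d) := by
    intro d f hd hf
    rw [show (K.subgroupOf R).index = p ^ k from hk, ← orderOf_unitsFun, ← hd]
    exact Nat.Coprime.pow_left _ (hp.out.coprime_iff_not_dvd.mpr hf.2.2)
  have he : δ' = δ := Ext.linear_unique (N := K.subgroupOf R) (fun m => Units.ext (by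
    rw [← congrFun hδ (m : R), ← congrFun hδ' (m : R)]
    exact (detChar_comp h'.1 (K.subgroupOf R).subtype hθ' (hres h') m).symm.trans
      (detChar_comp h.1 (K.subgroupOf R).subtype hθ' (hres h) m))) (hcop hδ' h') (hcop hδ h)
  exact (Ext.ext_unique hθ' hd (coprime_index hK hk (charDeg_dvd ⟨θ, hθ⟩)) h.1 h'.1 (hres h)
    (hres h') (by rw [hδ, hδ', he])).symm

theorem IsCan.cj {hKR : K ≤ R} {θ : K → ℂ} {η : R → ℂ} (h : IsCan p hKR θ η) {g : Y}
    (hgK : g ∈ Subgroup.normalizer (K : Set Y)) (hgR : g ∈ Subgroup.normalizer (R : Set Y)) :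
    IsCan p hKR (RelMcKay.cj K g θ) (RelMcKay.cj R g η) := by
  refine ⟨irr_cj hgR h.1, ?_, ?_⟩
  · funext k
    show RelMcKay.cj R g η (Subgroup.inclusion hKR k) = _
    rw [cj_apply hgR, cj_apply hgK, ← h.2.1]
    rfl
  · have e : detChar (RelMcKay.cj R g η) = fun x => detChar η (cjEquiv hgR x) := funext fun x =>
      detChar_comp h.1 (cjEquiv hgR).toMonoidHom (irr_cj hgR h.1)
        (fun y => (congrFun (cj_eq_comp hgR η) y).symm) x
    let F : (R → ℂ) →* (R → ℂ) :=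
      { toFun := fun f x => f (cjEquiv hgR x)
        map_one' := rfl
        map_mul' := fun _ _ => rfl }
    have hF : Function.Injective F := fun a b hab => funext fun x => by
      have := congrFun hab ((cjEquiv hgR).symm x)
      simpa [F] using this
    rw [e]
    show ¬ p ∣ orderOf (F (detChar η))
    rw [orderOf_injective F hF]
    exact h.2.2

/-- A central `p`-element acts trivially in a canonical extension. -/
theorem IsCan.apply_central {hKR : K ≤ R} {θ : K → ℂ} {η : R → ℂ} (h : IsCan p hKR θ η)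
    (hK : ¬ p ∣ Nat.card K) (hθ : IsIrrCharacter K θ) {z : R} (hz : z ∈ Subgroup.center R) {j : ℕ}
    (hzp : z ^ p ^ j = 1) (x : R) : η (x * z) = η x := by
  obtain ⟨n, ρ, hρ, hρc, hn, hdet⟩ := IsIrr.exists_rep h.1
  haveI := hρ
  have hnd : n = charDegree θ := by
    have e : θ 1 = η 1 := by rw [← h.2.1]; exact congrArg η (map_one _)
    exact (charDegree_of_eq (e.trans hn)).symm
  obtain ⟨c, hc⟩ := schur_scalar ρ (ρ z) fun g => by
    show ρ z * ρ g = ρ g * ρ z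
    rw [← map_mul, ← map_mul, Subgroup.mem_center_iff.mp hz g]
  rw [← Module.End.one_eq_id] at hc
  haveI : Nontrivial (Module.End ℂ (Fin n → ℂ)) := by
    haveI : Nonempty (Fin n) := ⟨⟨0, hnd ▸ charDeg_pos ⟨θ, hθ⟩⟩⟩
    infer_instance
  have hcp : c ^ p ^ j = 1 := by
    have h1 : (c ^ p ^ j) • (1 : Module.End ℂ (Fin n → ℂ)) = (1 : ℂ) • 1 := by
      rw [one_smul, ← one_pow (M := Module.End ℂ (Fin n → ℂ)) (p ^ j), ← smul_pow, ← hc,
        ← map_pow, hzp, map_one, one_pow]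
    exact smul_left_injective ℂ (one_ne_zero : (1 : Module.End ℂ (Fin n → ℂ)) ≠ 0) h1
  have hcd : detChar η z = c ^ n := by
    rw [hdet, detUnits_apply, hc, Module.End.one_eq_id, LinearMap.det_smul, LinearMap.det_id, mul_one,
      Module.finrank_fin_fun]
  have ho : (c ^ n) ^ orderOf (detChar η) = 1 := by
    rw [← hcd, ← Pi.pow_apply, pow_orderOf_eq_one, Pi.one_apply]
  have h1 : c ^ n = 1 := by
    have hco : Nat.Coprime (orderOf (detChar η)) (p ^ j) :=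
      (Nat.Coprime.pow_left _ (hp.out.coprime_iff_not_dvd.mpr h.2.2)).symm
    have hpj : (c ^ n) ^ p ^ j = 1 := by rw [← pow_mul, mul_comm, pow_mul, hcp, one_pow]
    have := pow_gcd_eq_one.mpr ⟨ho, hpj⟩
    rwa [Nat.coprime_iff_gcd_eq_one.mp hco, pow_one] at this
  have hc1 : c = 1 := by
    have hco : Nat.Coprime n (p ^ j) :=
      (Nat.Coprime.pow_left _ (hp.out.coprime_iff_not_dvd.mpr
        (hnd ▸ not_dvd_degree hθ hK))).symm
    have := pow_gcd_eq_one.mpr ⟨h1, hcp⟩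
    rwa [Nat.coprime_iff_gcd_eq_one.mp hco, pow_one] at this
  rw [← hρc]
  simp only [Representation.character]
  rw [map_mul, hc, hc1, one_smul, mul_one]

/-- A character of `p'`-degree restricts irreducibly to a subgroup of `p`-power index. -/
theorem res_irr_of_pPrime (hKR : K ≤ R) (hn : R ≤ Subgroup.normalizer (K : Set Y)) {k : ℕ}
    (hk : K.relIndex R = p ^ k) {ψ : R → ℂ} (hψ : IsIrrCharacter R ψ)
    (hd : ¬ p ∣ charDegree ψ) :
    IsIrrCharacter K (resTo hKR ψ) ∧ R ≤ St K (resTo hKR ψ) := by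
  classical
  haveI := Subgroup.normal_subgroupOf_of_le_normalizer hn
  haveI := Fintype.ofFinite R
  haveI := Fintype.ofFinite (K.subgroupOf R)
  have hr : IsCharacter (K.subgroupOf R) (fun m : K.subgroupOf R => ψ m) :=
    IsChar.res (IsIrr.isCharacter hψ) _
  obtain ⟨θ, hθ⟩ := IsChar.exists_constituent' hr (show ψ ((1 : K.subgroupOf R) : R) ≠ 0 by
    rw [Subgroup.coe_one]; exact IsIrr.one_ne_zero hψ)
  obtain ⟨hI, hdeg⟩ := PPrime.inertia_of_pPrime (p := p) hk ⟨ψ, hψ⟩ hd θ hθ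
  have heq : (fun m : K.subgroupOf R => ψ m) = (θ : K.subgroupOf R → ℂ) :=
    eq_of_constituent_degree hr θ.2 hθ (by
      rw [charDeg_spec' θ, ← hdeg, ← charDeg_spec', Subgroup.coe_one])
  set e := Subgroup.subgroupOfEquivOfLe hKR
  have hres : resTo hKR ψ = fun k => (θ : K.subgroupOf R → ℂ) (e.symm k) := funext fun k => by
    rw [← congrFun heq (e.symm k)]; rfl
  have hirr : IsIrrCharacter K (resTo hKR ψ) := hres ▸ IsIrr.comp_mulEquiv e.symm θ.2
  refine ⟨hirr, fun g hg => ⟨hn hg, funext fun k => ?_⟩⟩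
  rw [cj_apply (hn hg)]
  exact IsIrr.classFun hψ (Subgroup.inclusion hKR k) ⟨g, hg⟩

end Canonical

end Cfsg.Agent.Block.RelMcKay
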