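import Cfsg.Agent.Lib.Block.KGV.GaussEta
import Cfsg.Agent.Lib.Grp.Coprime

/-!
# Finding a pair with a fixed point

A commuting pair of `p'`-elements acting on a `p`-group can be moved, by the elementary moves
`(a, b) ↦ (b, a)` and `(a, b) ↦ (a, a⁻¹ b)`, to a pair whose second member fixes a nontrivial
central section pointwise.
-/

set_option autoImplicit false
set_option linter.style.haveILetI false
set_option linter.unusedSectionVars false

namespace Cfsg.Agent.Block.RelMcKay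

universe u

variable {E : Type u} [Group E]

/-- Euclid's algorithm on exponents in a cyclic image. -/
theorem euclid {M V : Type*} [Group M] [Group V] (act : M →* V) (γ : V)
    (Inv P : M → M → Prop) (hswap : ∀ a b, Inv a b → Inv b a)
    (hmove : ∀ a b, Inv a b → Inv a (a⁻¹ * b))
    (hPswap : ∀ a b, Inv a b → P b a → P a b)
    (hPmove : ∀ a b, Inv a b → P a (a⁻¹ * b) → P a b)
    (hbase : ∀ a b, Inv a b → act b = 1 → P a b) :
    ∀ n i j : ℕ, i + j ≤ n → ∀ a b, Inv a b → act a = γ ^ i → act b = γ ^ j → P a b := by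
  intro n
  induction n using Nat.strong_induction_on with
  | _ n ih =>
    intro i j hij a b hab ha hb
    rcases Nat.eq_zero_or_pos j with hj | hj
    · exact hbase a b hab (by rw [hb, hj, pow_zero])
    rcases Nat.eq_zero_or_pos i with hi | hi
    · exact hPswap a b hab (hbase b a (hswap a b hab) (by rw [ha, hi, pow_zero]))
    rcases le_or_gt i j with h | h
    · refine hPmove a b hab (ih (n - 1) (by omega) i (j - i) (by omega) a _ (hmove a b hab) ha ?_)
      rw [map_mul, map_inv, ha, hb, inv_mul_eq_iff_eq_mul, ← pow_add, Nat.add_sub_cancel' h]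
    · refine hPswap a b hab (hPmove b a (hswap a b hab)
        (ih (n - 1) (by omega) j (i - j) (by omega) b _ (hmove b a (hswap a b hab)) hb ?_))
      rw [map_mul, map_inv, ha, hb, inv_mul_eq_iff_eq_mul, ← pow_add, Nat.add_sub_cancel' h.le]

/-- Preimage of an additive subgroup of a quotient. -/
def preAdd {W : Subgroup E} {S₀ : Subgroup E} [(S₀.subgroupOf W).Normal]
    (K : AddSubgroup (Additive (W ⧸ S₀.subgroupOf W))) : Subgroup E :=
  ((AddSubgroup.toSubgroup' K).comap (QuotientGroup.mk' (S₀.subgroupOf W))).map W.subtype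

variable [Finite E]

/-- Reduction to a pair whose second member fixes a central section. -/
theorem exists_fixed_section {p : ℕ} [hp : Fact p.Prime] (S S₀ : Subgroup E) (hS : IsPGroup p S)
    (hle : S₀ ≤ S) (hne : S₀ ≠ S) (hn : ∀ s ∈ S, ∀ x ∈ S₀, s * x * s⁻¹ ∈ S₀)
    (M : Subgroup E) (hMp : ¬ p ∣ Nat.card M) {a b : E} (hM : M = Subgroup.closure {a, b})
    (hMS : ∀ g ∈ M, ∀ x ∈ S, g * x * g⁻¹ ∈ S) (hMS₀ : ∀ g ∈ M, ∀ x ∈ S₀, g * x * g⁻¹ ∈ S₀)
    (hcomm : a * b * a⁻¹ * b⁻¹ ∈ Subgroup.centralizer (S : Set E))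
    (Inv P : M → M → Prop) (hswap : ∀ x y, Inv x y → Inv y x)
    (hmove : ∀ x y, Inv x y → Inv x (x⁻¹ * y))
    (hPswap : ∀ x y, Inv x y → P y x → P x y)
    (hPmove : ∀ x y, Inv x y → P x (x⁻¹ * y) → P x y)
    (hbase : ∀ x y : M, Inv x y → ∀ W : Subgroup E, W ≤ S →
      (∀ w ∈ W, ∀ s ∈ S, w * s * w⁻¹ * s⁻¹ ∈ S₀) → (∀ g ∈ M, ∀ w ∈ W, g * w * g⁻¹ ∈ W) →
      (∃ c ∈ W, c ∉ S₀ ∧ (y : E) * c = c * (y : E)) → P x y)
    (haM : a ∈ M) (hbM : b ∈ M) (hab : Inv ⟨a, haM⟩ ⟨b, hbM⟩) : P ⟨a, haM⟩ ⟨b, hbM⟩ := by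
  classical
  -- the centre of `S` modulo `S₀`
  let Z₁ : Subgroup E :=
    { carrier := {x | x ∈ S ∧ ∀ s ∈ S, x * s * x⁻¹ * s⁻¹ ∈ S₀}
      one_mem' := ⟨one_mem _, fun s _ => by simp⟩
      mul_mem' := by
        rintro x y ⟨hx, hx'⟩ ⟨hy, hy'⟩
        refine ⟨mul_mem hx hy, fun s hs => ?_⟩
        have : x * y * s * (x * y)⁻¹ * s⁻¹ = x * (y * s * y⁻¹ * s⁻¹) * x⁻¹ * (x * s * x⁻¹ * s⁻¹) := by
          group
        rw [this]
        exact mul_mem (hn x hx _ (hy' s hs)) (hx' s hs)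
      inv_mem' := by
        rintro x ⟨hx, hx'⟩
        refine ⟨inv_mem hx, fun s hs => ?_⟩
        have : x⁻¹ * s * x⁻¹⁻¹ * s⁻¹ = x⁻¹ * (x * s * x⁻¹ * s⁻¹)⁻¹ * x⁻¹⁻¹ := by group
        rw [this]
        exact hn _ (inv_mem hx) _ (inv_mem (hx' s hs)) }
  have hS₀Z : S₀ ≤ Z₁ := fun x hx => ⟨hle hx, fun s hs => by
    rw [show x * s * x⁻¹ * s⁻¹ = x * (s * x⁻¹ * s⁻¹) by group]
    exact mul_mem hx (hn s hs _ (inv_mem hx))⟩
  have hZne : Z₁ ≠ S₀ := by
    haveI hN : (S₀.subgroupOf S).Normal :=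
      ⟨fun x hx s => hn s s.2 x hx⟩
    haveI : Nontrivial (S ⧸ S₀.subgroupOf S) :=
      (QuotientGroup.nontrivial_iff).mpr fun h => hne (le_antisymm hle (Subgroup.subgroupOf_eq_top.mp h))
    haveI := (hS.to_quotient (S₀.subgroupOf S)).center_nontrivial
    obtain ⟨⟨z, hz⟩, hz1⟩ := exists_ne (1 : Subgroup.center (S ⧸ S₀.subgroupOf S))
    obtain ⟨x, rfl⟩ := QuotientGroup.mk'_surjective (S₀.subgroupOf S) z
    intro h
    have hx : (x : E) ∈ Z₁ := ⟨x.2, fun s hs => by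
      have h1 := Subgroup.mem_center_iff.mp hz (QuotientGroup.mk' _ ⟨s, hs⟩)
      have h2 : QuotientGroup.mk' (S₀.subgroupOf S) (x * ⟨s, hs⟩ * x⁻¹ * ⟨s, hs⟩⁻¹) = 1 := by
        rw [map_mul, map_mul, map_mul, map_inv, map_inv, ← h1]
        group
      exact ((QuotientGroup.ker_mk' _).le (MonoidHom.mem_ker.mpr h2) :)⟩
    rw [h] at hx
    exact hz1 (Subtype.ext ((QuotientGroup.eq_one_iff x).mpr hx))
  have hZM : ∀ g ∈ M, ∀ x ∈ Z₁, g * x * g⁻¹ ∈ Z₁ := fun g hg x hx => by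
    refine ⟨hMS g hg x hx.1, fun s hs => ?_⟩
    have h1 : g⁻¹ * s * g ∈ S := by simpa using hMS g⁻¹ (inv_mem hg) s hs
    have h2 := hMS₀ g hg _ (hx.2 _ h1)
    convert h2 using 1
    group
  -- a minimal invariant piece
  obtain ⟨W, ⟨hW0, hWne, hWZ, hWM⟩, hWmin⟩ := (wellFounded_lt (α := Subgroup E)).has_min
    {W : Subgroup E | S₀ ≤ W ∧ W ≠ S₀ ∧ W ≤ Z₁ ∧ ∀ g ∈ M, ∀ w ∈ W, g * w * g⁻¹ ∈ W}
    ⟨Z₁, hS₀Z, hZne, le_rfl, hZM⟩
  have hWS : W ≤ S := fun w hw => (hWZ hw).1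
  haveI hWn : (S₀.subgroupOf W).Normal := ⟨fun x hx w => hn w (hWS w.2) x hx⟩
  haveI : IsMulCommutative (W ⧸ S₀.subgroupOf W) := ⟨⟨fun x y => by
    obtain ⟨x, rfl⟩ := QuotientGroup.mk'_surjective (S₀.subgroupOf W) x
    obtain ⟨y, rfl⟩ := QuotientGroup.mk'_surjective (S₀.subgroupOf W) y
    rw [← mul_inv_eq_one, mul_inv_rev, ← map_mul, ← map_inv, ← map_inv, ← map_mul, ← map_mul,
      QuotientGroup.mk'_apply, QuotientGroup.eq_one_iff]
    have h := (hWZ x.2).2 y (hWS y.2)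
    show ((x * y * (x⁻¹ * y⁻¹) : W) : E) ∈ S₀
    simpa [mul_assoc] using h⟩⟩
  letI : CommGroup (W ⧸ S₀.subgroupOf W) := IsMulCommutative.instCommGroup
  haveI : Nontrivial (Additive (W ⧸ S₀.subgroupOf W)) :=
    show Nontrivial (W ⧸ S₀.subgroupOf W) from
      (QuotientGroup.nontrivial_iff).mpr fun h => hWne (le_antisymm (Subgroup.subgroupOf_eq_top.mp h) hW0)
  let cw : M → W →* W := fun g =>
    { toFun := fun w => ⟨(g : E) * w * (g : E)⁻¹, hWM g g.2 w w.2⟩
      map_one' := Subtype.ext (by simp)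
      map_mul' := fun v w => Subtype.ext (by simp [mul_assoc]) }
  have hcw : ∀ g : M, S₀.subgroupOf W ≤ (S₀.subgroupOf W).comap (cw g) := fun g x hx =>
    hMS₀ g g.2 x hx
  let cq : M → (W ⧸ S₀.subgroupOf W →* W ⧸ S₀.subgroupOf W) := fun g =>
    QuotientGroup.map _ _ (cw g) (hcw g)
  have hcq : ∀ (g : M) (w : W), cq g (QuotientGroup.mk' _ w) = QuotientGroup.mk' _ (cw g w) :=
    fun g w => rfl
  let φ : M →* AddMonoid.End (Additive (W ⧸ S₀.subgroupOf W)) :=
    { toFun := fun g => MonoidHom.toAdditive (cq g)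
      map_one' := AddMonoidHom.ext fun v => by
        obtain ⟨w, hw⟩ := QuotientGroup.mk'_surjective (S₀.subgroupOf W) (Additive.toMul v)
        refine Additive.toMul.injective ?_
        show cq 1 (Additive.toMul v) = Additive.toMul v
        rw [← hw, hcq]
        exact congrArg _ (Subtype.ext (by simp [cw]))
      map_mul' := fun g h => AddMonoidHom.ext fun v => by
        obtain ⟨w, hw⟩ := QuotientGroup.mk'_surjective (S₀.subgroupOf W) (Additive.toMul v)
        refine Additive.toMul.injective ?_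
        show cq (g * h) (Additive.toMul v) = cq g (cq h (Additive.toMul v))
        rw [← hw, hcq, hcq, hcq]
        exact congrArg _ (Subtype.ext (by simp [cw, mul_assoc])) }
  let u := φ.toHomUnits
  let a' : M := ⟨a, haM⟩
  let b' : M := ⟨b, hbM⟩
  have hc1 : φ (a' * b' * a'⁻¹ * b'⁻¹) = 1 := AddMonoidHom.ext fun v => by
    obtain ⟨w, hw⟩ := QuotientGroup.mk'_surjective (S₀.subgroupOf W) (Additive.toMul v)
    refine Additive.toMul.injective ?_
    show cq _ (Additive.toMul v) = Additive.toMul v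
    rw [← hw, hcq]
    refine congrArg _ (Subtype.ext ?_)
    show a * b * a⁻¹ * b⁻¹ * (w : E) * (a * b * a⁻¹ * b⁻¹)⁻¹ = w
    rw [← Subgroup.mem_centralizer_iff.mp hcomm w (hWS w.2)]
    group
  have huab : u a' * u b' = u b' * u a' := by
    have h : u (a' * b' * a'⁻¹ * b'⁻¹) = 1 := Units.ext hc1
    simp only [map_mul, map_inv] at h
    rw [← mul_inv_eq_one, mul_inv_rev, ← mul_assoc, h]
  have hgen : Subgroup.closure ({a', b'} : Set M) = ⊤ := by
    refine Subgroup.map_injective M.subtype_injective ?_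
    rw [MonoidHom.map_closure, ← MonoidHom.range_eq_map, Subgroup.range_subtype, Set.image_pair]
    exact hM.symm
  have hrange : u.range = Subgroup.closure ({u a', u b'} : Set _) := by
    rw [MonoidHom.range_eq_map, ← hgen, MonoidHom.map_closure, Set.image_pair]
  have hQcomm : ∀ x y : u.range, x * y = y * x := by
    have h1 : Subgroup.closure ({u a', u b'} : Set _) ≤
        Subgroup.centralizer ({u a', u b'} : Set _) := by
      rw [Subgroup.closure_le]
      rintro x (rfl | rfl) <;> refine Subgroup.mem_centralizer_iff.mpr ?_ <;> rintro y (rfl | rfl)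
      exacts [rfl, huab.symm, huab, rfl]
    intro x y
    refine Subtype.ext ?_
    have hx : x.1 ∈ Subgroup.centralizer
        ((Subgroup.closure ({u a', u b'} : Set _) : Subgroup _) : Set _) := by
      rw [Subgroup.centralizer_closure]
      exact h1 (hrange ▸ x.2)
    exact ((Subgroup.mem_centralizer_iff.mp hx) y (hrange ▸ y.2)).symm
  haveI : Finite u.range := Finite.of_surjective _ u.rangeRestrict_surjective
  let φQ : u.range →* AddMonoid.End (Additive (W ⧸ S₀.subgroupOf W)) :=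
    (Units.coeHom _).comp u.range.subtype
  have hcyc : IsCyclic (u.range ⧸ φQ.ker) := by
    refine KGV.isCyclic_quotient_ker φQ hQcomm fun K hK => ?_
    have hinv : ∀ g ∈ M, ∀ w ∈ preAdd K, g * w * g⁻¹ ∈ preAdd K := by
      rintro g hg _ ⟨w, hw, rfl⟩
      exact ⟨cw ⟨g, hg⟩ w, hK ⟨u ⟨g, hg⟩, _, rfl⟩ _ hw, rfl⟩
    have hle' : S₀ ≤ preAdd K := fun x hx => ⟨⟨x, hW0 hx⟩, by
      show Additive.ofMul (QuotientGroup.mk' (S₀.subgroupOf W) ⟨x, hW0 hx⟩) ∈ K
      rw [show QuotientGroup.mk' (S₀.subgroupOf W) ⟨x, hW0 hx⟩ = 1 from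
        (QuotientGroup.eq_one_iff _).mpr hx]
      exact K.zero_mem, rfl⟩
    have hleW : preAdd K ≤ W := Subgroup.map_subtype_le _
    by_cases h0 : preAdd K = S₀
    · left
      refine (AddSubgroup.eq_bot_iff_forall K).mpr fun v hv => ?_
      obtain ⟨w, hw⟩ := QuotientGroup.mk'_surjective (S₀.subgroupOf W) (Additive.toMul v)
      have h1 : (w : E) ∈ preAdd K := ⟨w, by
        show Additive.ofMul (QuotientGroup.mk' (S₀.subgroupOf W) w) ∈ K
        rw [hw]; exact hv, rfl⟩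
      rw [h0] at h1
      refine Additive.toMul.injective ?_
      rw [← hw]
      exact (QuotientGroup.eq_one_iff _).mpr h1
    · right
      have hKW : preAdd K = W := by
        by_contra hne'
        exact hWmin (preAdd K) ⟨hle', h0, hleW.trans hWZ, hinv⟩ (lt_of_le_of_ne hleW hne')
      refine eq_top_iff.mpr fun v _ => ?_
      obtain ⟨w, hw⟩ := QuotientGroup.mk'_surjective (S₀.subgroupOf W) (Additive.toMul v)
      obtain ⟨w', hw', he⟩ : (w : E) ∈ preAdd K := hKW.symm ▸ w.2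
      obtain rfl : w' = w := Subtype.ext he
      have : Additive.ofMul (QuotientGroup.mk' (S₀.subgroupOf W) w') ∈ K := hw'
      rwa [hw] at this
  obtain ⟨γ, hγ⟩ := hcyc.exists_generator
  let act : M →* u.range ⧸ φQ.ker := (QuotientGroup.mk' φQ.ker).comp u.rangeRestrict
  obtain ⟨i, hi⟩ : ∃ i : ℕ, act a' = γ ^ i :=
    (mem_powers_iff_mem_zpowers.mpr (hγ (act a'))).imp fun i hi => hi.symm
  obtain ⟨j, hj⟩ : ∃ j : ℕ, act b' = γ ^ j :=
    (mem_powers_iff_mem_zpowers.mpr (hγ (act b'))).imp fun i hi => hi.symm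
  refine euclid act γ Inv P hswap hmove hPswap hPmove (fun x y hxy hy => ?_) _ i j le_rfl a' b' hab
    hi hj
  have hy1 : φ y = 1 := MonoidHom.mem_ker.mp ((QuotientGroup.eq_one_iff _).mp hy :
    u.rangeRestrict y ∈ φQ.ker)
  obtain ⟨c₀, hc₀, hc₀S⟩ := Set.exists_of_ssubset
    (SetLike.coe_ssubset_coe.mpr (lt_of_le_of_ne hW0 hWne.symm))
  have hyW : ∀ g ∈ Subgroup.zpowers (y : E), g * c₀ * g⁻¹ * c₀⁻¹ ∈ S₀ := by
    intro g hg
    obtain ⟨t, rfl⟩ := Subgroup.mem_zpowers_iff.mp hg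
    have ht : u (y ^ t) = 1 := by
      rw [map_zpow, show u y = 1 from Units.ext hy1, one_zpow]
    have h1 : cq (y ^ t) (QuotientGroup.mk' _ ⟨c₀, hc₀⟩) = QuotientGroup.mk' _ ⟨c₀, hc₀⟩ :=
      congrArg Additive.toMul (DFunLike.congr_fun
        (congrArg Units.val ht : φ (y ^ t) = 1) (Additive.ofMul (QuotientGroup.mk' _ ⟨c₀, hc₀⟩)))
    rw [hcq, ← div_eq_one, ← map_div, QuotientGroup.mk'_apply, QuotientGroup.eq_one_iff,
      div_eq_mul_inv] at h1
    have h2 : ((y ^ t : M) : E) * c₀ * ((y ^ t : M) : E)⁻¹ * c₀⁻¹ ∈ S₀ := h1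
    simpa using h2
  have hcopM : ∀ (Q : Subgroup E), Q ≤ S → (Nat.card (Subgroup.zpowers (y : E))).Coprime (Nat.card Q) := by
    intro Q hQ
    obtain ⟨k, hk⟩ := IsPGroup.iff_card.mp (hS.to_le hQ)
    rw [hk]
    exact Nat.Coprime.pow_right _ (hp.out.coprime_iff_not_dvd.mpr fun h => hMp
      (h.trans (Subgroup.card_dvd_of_le (Subgroup.zpowers_le.mpr y.2)))).symm
  have hnorm : ∀ Q : Subgroup E, (∀ g ∈ M, ∀ w ∈ Q, g * w * g⁻¹ ∈ Q) →
      Subgroup.zpowers (y : E) ≤ Subgroup.normalizer (Q : Set E) := by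
    intro Q hQ
    refine Subgroup.zpowers_le.mpr (Subgroup.mem_normalizer_iff.mpr fun w => ⟨hQ y y.2 w, fun h => ?_⟩)
    simpa [mul_assoc] using hQ _ (inv_mem y.2) _ h
  obtain ⟨c, ⟨hcW, hcy⟩, hcc⟩ := Grp.exists_fixed_rep (Subgroup.zpowers (y : E)) W S₀
    (hnorm W hWM) (Grp.inf_eq_bot_of_coprime (hcopM W hWS)) (hcopM S₀ hle)
    (Or.inl inferInstance) hW0
    (fun w hw => Subgroup.mem_normalizer_iff.mpr fun x => ⟨hn w (hWS hw) x, fun h => by
      simpa [mul_assoc] using hn _ (inv_mem (hWS hw)) _ h⟩)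
    (hnorm S₀ hMS₀) hc₀ hyW
  refine hbase x y hxy W hWS (fun w hw => (hWZ hw).2) hWM ⟨c, hcW, fun h => hc₀S ?_, ?_⟩
  · have := mul_mem h (inv_mem hcc)
    simpa using this
  · exact Subgroup.mem_centralizer_iff.mp hcy y (Subgroup.mem_zpowers _)

end Cfsg.Agent.Block.RelMcKay
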