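import Cfsg.Agent.Lib.Block.RelMcKay.GCorr
import Cfsg.Agent.Lib.Block.RelMcKay.Pair

/-!
# The pairing is preserved by the Glauberman correspondence
-/

set_option autoImplicit false
set_option linter.style.haveILetI false
set_option linter.unusedSectionVars false

open scoped ComplexConjugate Pointwise

namespace Cfsg.Agent.Block.RelMcKay

open Cfsg Cfsg.Agent.Char Cfsg.Agent.Block

universe u

variable {Y : Type u} [Group Y] [Finite Y] {K : Subgroup Y}

theorem mem_normalizer_of_le {g : Y} (h : ∀ x ∈ K, g * x * g⁻¹ ∈ K) :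
    g ∈ Subgroup.normalizer (K : Set Y) := by
  refine Grp.mem_normalizer_of_map_eq.mpr (Subgroup.eq_of_le_of_card_ge ?_ ?_)
  · rintro _ ⟨x, hx, rfl⟩
    exact h x hx
  · rw [Subgroup.card_map_of_injective (MulEquiv.injective _)]

theorem mem_normalizer_centralizer {S : Subgroup Y} {g : Y}
    (hg : g ∈ Subgroup.normalizer (S : Set Y)) :
    g ∈ Subgroup.normalizer ((Subgroup.centralizer (S : Set Y) : Subgroup Y) : Set Y) := by
  refine mem_normalizer_of_le fun x hx => Subgroup.mem_centralizer_iff.mpr fun s hs => ?_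
  have h := Subgroup.mem_centralizer_iff.mp hx _ (by simpa using conj_mem (inv_mem hg) hs)
  calc s * (g * x * g⁻¹) = g * ((g⁻¹ * s * g) * x) * g⁻¹ := by group
    _ = g * (x * (g⁻¹ * s * g)) * g⁻¹ := by rw [h]
    _ = g * x * g⁻¹ * s := by group

theorem mem_normalizer_inf {A B : Subgroup Y} {g : Y} (hA : g ∈ Subgroup.normalizer (A : Set Y))
    (hB : g ∈ Subgroup.normalizer (B : Set Y)) :
    g ∈ Subgroup.normalizer ((A ⊓ B : Subgroup Y) : Set Y) :=
  mem_normalizer_of_le fun _ hx => ⟨conj_mem hA hx.1, conj_mem hB hx.2⟩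

theorem resTo_cj {H : Subgroup Y} (hKH : K ≤ H) (η : H → ℂ) {g : Y}
    (hgK : g ∈ Subgroup.normalizer (K : Set Y)) (hgH : g ∈ Subgroup.normalizer (H : Set Y)) :
    resTo hKH (cj H g η) = cj K g (resTo hKH η) := by
  funext k
  rw [cj_apply hgK]
  exact cj_apply hgH η _

theorem gcorr_res {p : ℕ} {C H : Subgroup Y} (hCK : C ≤ K) (hKH : K ≤ H) {η : H → ℂ} {θ : K → ℂ}
    (h : resTo hKH η = θ) (φ : C → ℂ) :
    GCorr p (hCK.trans hKH) η φ ↔ GCorr p hCK θ φ := by
  subst h; rfl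

/-- Characters over an invariant character of a cyclic extension restrict to it. -/
theorem resTo_of_lies {H : Subgroup Y} {b : Y} (hH : H = K ⊔ Subgroup.zpowers b) (hKH : K ≤ H)
    {θ : K → ℂ} (hθ : IsIrrCharacter K θ) (hHS : H ≤ St K θ) {η : H → ℂ}
    (hη : IsIrrCharacter H η) (h : Lies (Subgroup.inclusion hKH) θ η) : resTo hKH η = θ := by
  have hn := hHS.trans (St_le_normalizer K θ)
  haveI := Subgroup.normal_subgroupOf_of_le_normalizer hn
  haveI := Fintype.ofFinite H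
  haveI := Fintype.ofFinite K
  haveI := Fintype.ofFinite (K.subgroupOf H)
  rw [lies_iff, ← classInner_resOf] at h
  have hr := NearConst.res_eq (isCyclic_sup_zpowers hH hn) (irr_resOf hKH hθ)
    (fun x g => by
      have h := congrFun (congrArg (resOf hKH) (hHS x.2).2) g
      rw [← conjN_resOf hKH hn, conjN_apply] at h
      exact h) hη h
  funext k
  obtain ⟨x, rfl⟩ := (Subgroup.subgroupOfEquivOfLe hKH).surjective k
  exact congrFun hr x

/-- Homomorphisms on a join are determined on the parts. -/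
theorem hom_ext_sup {H : Subgroup Y} {b : Y} (hH : H = K ⊔ Subgroup.zpowers b) (hKH : K ≤ H)
    (hb : b ∈ H) {l l' : H →* ℂˣ}
    (hK : ∀ k : K, l (Subgroup.inclusion hKH k) = l' (Subgroup.inclusion hKH k))
    (hbl : l ⟨b, hb⟩ = l' ⟨b, hb⟩) : l = l' := by
  refine MonoidHom.ext fun x => ?_
  have h1 : H ≤ (l.eqLocus l').map H.subtype := by
    conv_lhs => rw [hH]
    refine sup_le (fun k hk => ⟨Subgroup.inclusion hKH ⟨k, hk⟩, hK ⟨k, hk⟩, rfl⟩) ?_
    exact Subgroup.zpowers_le.mpr ⟨⟨b, hb⟩, hbl, rfl⟩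
  obtain ⟨y, hy, he⟩ := h1 x.2
  obtain rfl : y = x := Subtype.ext he
  exact hy

variable {p : ℕ} [hp : Fact p.Prime]

/-- An extension over a coprime cyclic group is fixed by the `p`-elements fixing the generator. -/
theorem cj_ext_eq {H : Subgroup Y} {b : Y} (hH : H = K ⊔ Subgroup.zpowers b) (hKH : K ≤ H)
    (hn : H ≤ Subgroup.normalizer (K : Set Y)) (hHp : ¬ p ∣ Nat.card H) {η : H → ℂ}
    (hη : IsIrrCharacter H η) (hres : IsIrrCharacter K (resTo hKH η)) {x : Y}
    (hxK : x ∈ St K (resTo hKH η)) (hxb : x * b = b * x) {j : ℕ} (hxp : x ^ p ^ j = 1) :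
    cj H x η = η := by
  have hb : b ∈ H := hH.ge (Subgroup.mem_sup_right (Subgroup.mem_zpowers b))
  have hxH : x ∈ Subgroup.normalizer (H : Set Y) := by
    refine mem_normalizer_of_le fun y hy => ?_
    have h1 : H ≤ H.comap (MulAut.conj x).toMonoidHom := by
      conv_lhs => rw [hH]
      refine sup_le (fun k hk => hKH (conj_mem hxK.1 hk)) (Subgroup.zpowers_le.mpr ?_)
      show x * b * x⁻¹ ∈ H
      rw [hxb, mul_inv_cancel_right]; exact hb
    exact h1 hy
  have hres' : resTo hKH (cj H x η) = resTo hKH η := by rw [resTo_cj hKH η hxK.1 hxH, hxK.2]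
  obtain ⟨l, hl, hle⟩ := exists_twist hKH hn hη (irr_cj hxH hη) hres hres'
  have hlx : ∀ y : H, l (cjEquiv hxH y) = l y := by
    refine fun y => DFunLike.congr_fun (hom_ext_sup hH hKH hb (l := l.comp (cjEquiv hxH).toMonoidHom)
      (l' := l) (fun k => ?_) ?_) y
    · show l (cjEquiv hxH (Subgroup.inclusion hKH k)) = _
      rw [show cjEquiv hxH (Subgroup.inclusion hKH k) =
        Subgroup.inclusion hKH ⟨x * k * x⁻¹, conj_mem hxK.1 k.2⟩ from rfl, hl, hl]
    · show l (cjEquiv hxH ⟨b, hb⟩) = _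
      refine congrArg l (Subtype.ext ?_)
      show x * b * x⁻¹ = b
      rw [hxb, mul_inv_cancel_right]
  have hpow : ∀ m : ℕ, ∀ y, cj H (x ^ m) η y = ((l ^ m) y : ℂ) * η y := by
    intro m
    induction m with
    | zero => intro y; simp [cj_one]
    | succ m ih =>
      intro y
      rw [pow_succ, cj_mul _ hxH, cj_apply hxH, ih]
      show ((l ^ m) (cjEquiv hxH y) : ℂ) * η (cjEquiv hxH y) = _
      rw [← congrFun (cj_eq_comp hxH η) y, hle, MonoidHom.pow_apply, hlx, pow_succ (l : H →* ℂˣ),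
        MonoidHom.mul_apply, Units.val_mul, MonoidHom.pow_apply]
      ring
  have h1 : l ^ p ^ j = 1 := by
    refine twist_inj hKH hn hη hres (fun k => by simp [hl]) fun y => ?_
    rw [← hpow, hxp, cj_one]
    simp
  have h2 : l ^ Nat.card H = 1 := MonoidHom.ext fun y => by
    rw [MonoidHom.pow_apply, ← map_pow, pow_card_eq_one', map_one, MonoidHom.one_apply]
  have h3 : l = 1 := MonoidHom.ext fun y => by
    have h := pow_gcd_eq_one.mpr ⟨show l y ^ p ^ j = 1 from DFunLike.congr_fun h1 y,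
      show l y ^ Nat.card H = 1 from DFunLike.congr_fun h2 y⟩
    rwa [Nat.coprime_iff_gcd_eq_one.mp ((hp.out.coprime_iff_not_dvd.mpr hHp).pow_left j),
      pow_one] at h
  funext y
  rw [hle, h3]
  simp

/-- One step: the pairing passes to the fixed points of `R`. -/
theorem om_step {R C₁ : Subgroup Y} (hR : GSetup p R C₁ K) {θ : K → ℂ} (hθ : IsIrrCharacter K θ)
    (hθR : R ≤ St K θ) {θ₁ : C₁ → ℂ} (hθ₁ : IsIrrCharacter C₁ θ₁) (h1 : GCorr p hR.le θ θ₁)
    {a b : Y} (ha : a ∈ St K θ) (hb : b ∈ St K θ) (haR : a ∈ Subgroup.normalizer (R : Set Y))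
    (hbR : b ∈ Subgroup.centralizer (R : Set Y)) (hbp : ¬ p ∣ orderOf b)
    (hab : a * b * a⁻¹ * b⁻¹ ∈ C₁) : om K θ a b = om C₁ θ₁ a b := by
  have hbR' : b ∈ Subgroup.normalizer (R : Set Y) := Subgroup.centralizer_le_normalizer _ hbR
  have hbN1 : b ∈ Subgroup.normalizer (C₁ : Set Y) :=
    hR.eq ▸ mem_normalizer_inf hb.1 (mem_normalizer_centralizer hbR')
  have haN1 : a ∈ Subgroup.normalizer (C₁ : Set Y) :=
    hR.eq ▸ mem_normalizer_inf ha.1 (mem_normalizer_centralizer haR)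
  have hθinv : ∀ s ∈ R, cj K s θ = θ := fun s hs => (hθR hs).2
  set H := K ⊔ Subgroup.zpowers b with hH
  have hKH : K ≤ H := le_sup_left
  have hbH : b ∈ H := Subgroup.mem_sup_right (Subgroup.mem_zpowers b)
  have hHS : H ≤ St K θ := sup_le (le_St (IsIrr.classFun hθ)) (Subgroup.zpowers_le.mpr hb)
  have hn : H ≤ Subgroup.normalizer (K : Set Y) := hHS.trans (St_le_normalizer K θ)
  have hHp : ¬ p ∣ Nat.card H := by
    intro h
    rw [hH, sup_comm] at h
    rcases hp.out.dvd_mul.mp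
      (h.trans (Grp.card_sup_dvd_mul (Subgroup.zpowers_le.mpr hb.1))) with h' | h'
    · exact hbp (Nat.card_zpowers b ▸ h')
    · exact hR.p' h'
  have hconjH : ∀ g : Y, g ∈ Subgroup.normalizer (K : Set Y) → g * b * g⁻¹ ∈ H →
      g ∈ Subgroup.normalizer (H : Set Y) := by
    intro g hgK hgb
    refine mem_normalizer_of_le fun y hy => ?_
    have h1 : H ≤ H.comap (MulAut.conj g).toMonoidHom :=
      sup_le (fun k hk => hKH (conj_mem hgK hk)) (Subgroup.zpowers_le.mpr hgb)
    exact h1 hy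
  have hRb : ∀ r ∈ R, r * b = b * r := fun r hr => Subgroup.mem_centralizer_iff.mp hbR r hr
  have hRH : R ≤ Subgroup.normalizer (H : Set Y) := fun r hr => hconjH r (hR.norm hr) (by
    rw [hRb r hr, mul_inv_cancel_right]; exact hbH)
  have haH : a ∈ Subgroup.normalizer (H : Set Y) := hconjH a ha.1 (by
    have := H.mul_mem (hKH (hR.le hab)) hbH
    simpa using this)
  obtain ⟨η, hη, hres⟩ := exists_ext_zpowers hθ hb
  have hresirr : IsIrrCharacter K (resTo hKH η) := hres.symm ▸ hθ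
  have hinvη : ∀ {η' : H → ℂ}, IsIrrCharacter H η' → resTo hKH η' = θ →
      ∀ r ∈ R, cj H r η' = η' := by
    intro η' hη' hres' r hr
    obtain ⟨j, hj⟩ := hR.pg ⟨r, hr⟩
    exact cj_ext_eq (p := p) hH hKH hn hHp hη' (hres'.symm ▸ hθ) (hres'.symm ▸ hθR hr) (hRb r hr)
      (congrArg Subtype.val hj)
  set D := H ⊓ Subgroup.centralizer (R : Set Y) with hD
  have hRD : GSetup p R D H := ⟨hR.pg, hRH, hHp, rfl⟩
  have hC1D : C₁ ≤ D := fun k hk => ⟨hKH (hR.le hk), by rw [hR.eq] at hk; exact hk.2⟩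
  have hbD : b ∈ D := ⟨hbH, hbR⟩
  have hDeq : D = C₁ ⊔ Subgroup.zpowers b := by
    refine le_antisymm ?_ (sup_le hC1D (Subgroup.zpowers_le.mpr hbD))
    intro d hd
    haveI := Subgroup.normal_subgroupOf_of_le_normalizer hn
    have hd1 : d ∈ (K : Set Y) * (Subgroup.zpowers b : Set Y) := by
      have : Subgroup.zpowers b ≤ Subgroup.normalizer (K : Set Y) := Subgroup.zpowers_le.mpr hb.1
      rw [← Subgroup.coe_mul_of_right_le_normalizer_left K (Subgroup.zpowers b) this]
      exact hd.1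
    obtain ⟨k, hk, z, hz, rfl⟩ := hd1
    refine Subgroup.mul_mem_sup ?_ hz
    rw [hR.eq]
    refine ⟨hk, ?_⟩
    have hzc : z ∈ Subgroup.centralizer (R : Set Y) := Subgroup.zpowers_le.mpr hbR hz
    have hd2 : k * z ∈ Subgroup.centralizer (R : Set Y) := hd.2
    simpa using mul_mem hd2 (inv_mem hzc)
  obtain ⟨β, hβ⟩ := hRD.exists_gcorr hη (hinvη hη hres)
  have hβC : resTo hC1D (β : D → ℂ) = θ₁ := by
    have hb1 : b ∈ St C₁ θ₁ := ⟨hbN1, hR.cj_eq hθ hθinv hθ₁ h1 hb hbN1⟩
    have hDS : D ≤ St C₁ θ₁ :=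
      hDeq ▸ sup_le (le_St (IsIrr.classFun hθ₁)) (Subgroup.zpowers_le.mpr hb1)
    refine resTo_of_lies hDeq hC1D hθ₁ hDS β.2 (GCorr.lies (p := p) ?_)
    refine (gcorr_step hC1D hRD.le (IsIrr.isCharacter hη) β.2 hβ
      (fun β' hβ' h' => hRD.unique hη (hinvη hη hres) hβ' β.2 h' hβ) hθ₁).mp ?_
    exact (gcorr_res hR.le hKH hres θ₁).mpr h1
  have hresa : resTo hKH (cj H a η) = resTo hKH η := by
    rw [resTo_cj hKH η ha.1 haH, hres, ha.2]
  obtain ⟨l, hl, hle⟩ := exists_twist hKH hn hη (irr_cj haH hη) hresirr hresa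
  set w : ℂ := (l ⟨b, hbH⟩ : ℂ) with hw
  have hom1 : om K θ a b = w := om_eq_twist hKH hn hη hθ hres hbH ha haH
    (hR.le hab) fun k => by
      rw [hle, map_mul, hl, mul_one]
  have haD : a ∈ Subgroup.normalizer (D : Set Y) :=
    mem_normalizer_inf haH (mem_normalizer_centralizer haR)
  have hηl : IsIrrCharacter H (fun x => (l x : ℂ) * η x) := IsIrr.mul_linear hη l
  have hresl : resTo hKH (fun x => (l x : ℂ) * η x) = θ := funext fun k => by
    show (l (Subgroup.inclusion hKH k) : ℂ) * η _ = _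
    rw [hl, Units.val_one, one_mul, ← hres]; rfl
  have hβa : cj D a (β : D → ℂ) =
      fun d => (l (Subgroup.inclusion hRD.le d) : ℂ) * (β : D → ℂ) d := by
    refine hRD.unique hηl (hinvη hηl hresl) (irr_cj haD β.2) ?_ ?_ (gcorr_twist hRD.le l hβ)
    · exact IsIrr.mul_linear β.2 (l.comp (Subgroup.inclusion hRD.le))
    · have h := gcorr_cj hRD.le haH haD hβ
      rwa [show cj H a η = fun x => (l x : ℂ) * η x from funext hle] at h
  have hom2 : om C₁ θ₁ a b = w := by
    refine om_eq_twist hC1D ?_ β.2 hθ₁ hβC hbD ⟨haN1, hR.cj_eq hθ hθinv hθ₁ h1 ha haN1⟩ haD hab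
      fun k => ?_
    · rw [hDeq]
      exact sup_le Subgroup.le_normalizer (Subgroup.zpowers_le.mpr hbN1)
    · rw [hβa]
      show (l (Subgroup.inclusion hRD.le (⟨b, hbD⟩ * Subgroup.inclusion hC1D k)) : ℂ) * _ = _
      rw [map_mul, map_mul,
        show Subgroup.inclusion hRD.le (Subgroup.inclusion hC1D k) =
          Subgroup.inclusion hKH (Subgroup.inclusion hR.le k) from rfl, hl, mul_one]
      rfl
  rw [hom1, hom2]

/-- The pairing is preserved by the correspondence. -/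
theorem key : ∀ (n : ℕ) (K C S U : Subgroup Y) (hS : GSetup p S C K), Nat.card K ≤ n →
    U ≤ Subgroup.normalizer (K : Set Y) ⊓ Subgroup.normalizer (S : Set Y) → ¬ p ∣ Nat.card U →
    ∀ a ∈ U, ∀ b ∈ U, a * b * a⁻¹ * b⁻¹ ∈ C → ∀ θ : K → ℂ, IsIrrCharacter K θ → S ≤ St K θ →
    a ∈ St K θ → b ∈ St K θ → ∀ φ : C → ℂ, IsIrrCharacter C φ → GCorr p hS.le θ φ →
    om K θ a b = om C φ a b := by
  intro n
  induction n with
  | zero =>
    intro K _ _ _ _ hn
    exact absurd hn (Nat.not_le.mpr Nat.card_pos)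
  | succ n ih =>
    intro K C S U hS hn hU hUp a haU b hbU hab θ hθ hθS ha hb φ hφ hφθ
    by_cases htriv : S ≤ Subgroup.centralizer (K : Set Y)
    · obtain rfl : C = K := by
        rw [hS.eq]
        exact inf_eq_left.mpr (Subgroup.le_centralizer_iff.mp htriv)
      haveI := Fintype.ofFinite C
      have hφe : θ = φ := by
        obtain ⟨m, hm, he⟩ := (gcorr_iff hS.le θ φ).mp hφθ
        refine eq_of_constituent_irr hθ hφ ?_
        rw [show θ = resTo hS.le θ from rfl, he]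
        exact Nat.cast_ne_zero.mpr fun h0 => hm (h0 ▸ dvd_zero p)
      rw [hφe]
    set S₀ := S ⊓ Subgroup.centralizer (K : Set Y) with hS₀
    have hne : S₀ ≠ S := fun h => htriv (inf_eq_left.mp h)
    set M := Subgroup.closure ({a, b} : Set Y) with hMdef
    have hMU : M ≤ U := (Subgroup.closure_le U).mpr (by rintro x (rfl | rfl) <;> assumption)
    have hMθ : M ≤ St K θ := (Subgroup.closure_le _).mpr (by rintro x (rfl | rfl) <;> assumption)
    have hMC : ∀ g ∈ M, g ∈ Subgroup.normalizer (C : Set Y) := fun g hg =>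
      hS.eq ▸ mem_normalizer_inf (hU (hMU hg)).1 (mem_normalizer_centralizer (hU (hMU hg)).2)
    have hMp : ¬ p ∣ Nat.card M := fun h => hUp (h.trans (Subgroup.card_dvd_of_le hMU))
    have hθinv : ∀ s ∈ S, cj K s θ = θ := fun s hs => (hθS hs).2
    let Inv : M → M → Prop := fun x y => (x : Y) * y * (x : Y)⁻¹ * (y : Y)⁻¹ ∈ C
    let P : M → M → Prop := fun x y => om K θ (x : Y) y = om C φ (x : Y) y
    have hMφ : ∀ g ∈ M, g ∈ St C φ := fun g hg =>
      ⟨hMC g hg, hS.cj_eq hθ hθinv hφ hφθ (hMθ hg) (hMC g hg)⟩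
    refine exists_fixed_section (p := p) S S₀ hS.pg inf_le_left hne ?_ M hMp hMdef ?_ ?_ ?_ Inv P
      ?_ ?_ ?_ ?_ ?_ (Subgroup.subset_closure (by simp)) (Subgroup.subset_closure (by simp)) hab
    · exact fun s hs x hx => conj_mem (mem_normalizer_inf (Subgroup.le_normalizer hs)
        (mem_normalizer_centralizer (hS.norm hs))) hx
    · exact fun g hg x hx => conj_mem (hU (hMU hg)).2 hx
    · exact fun g hg x hx => conj_mem (mem_normalizer_inf (hU (hMU hg)).2
        (mem_normalizer_centralizer (hU (hMU hg)).1)) hx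
    · rw [hS.eq] at hab
      exact hab.2
    · intro x y h
      show (y : Y) * x * (y : Y)⁻¹ * (x : Y)⁻¹ ∈ C
      have := C.inv_mem (show (x : Y) * y * (x : Y)⁻¹ * (y : Y)⁻¹ ∈ C from h)
      convert this using 1
      group
    · intro x y h
      show (x : Y) * ((x⁻¹ * y : M) : Y) * (x : Y)⁻¹ * ((x⁻¹ * y : M) : Y)⁻¹ ∈ C
      have := conj_mem (inv_mem (hMC x x.2)) (show (x : Y) * y * (x : Y)⁻¹ * (y : Y)⁻¹ ∈ C from h)
      convert this using 1
      simp only [Subgroup.coe_mul, Subgroup.coe_inv]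
      group
    · intro x y _ h
      show om K θ (x : Y) y = om C φ (x : Y) y
      rw [om_swap hθ (y : Y) x, om_swap hφ (y : Y) x, show om K θ (y : Y) x = om C φ (y : Y) x from h]
    · intro x y _ h
      show om K θ (x : Y) y = om C φ (x : Y) y
      have h1 := om_mul_left hθ (hMθ x.2) (b := ((x⁻¹ * y : M) : Y)) (hMθ (x⁻¹ * y).2).1
      have h2 := om_mul_left hφ (hMφ x x.2) (b := ((x⁻¹ * y : M) : Y)) (hMC _ (x⁻¹ * y).2)
      rw [show (x : Y) * ((x⁻¹ * y : M) : Y) = y by simp] at h1 h2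
      rw [h1, h2]
      exact h
    · intro x y hxy W hWS hWc hWM ⟨c, hcW, hc0, hyc⟩
      show om K θ (x : Y) y = om C φ (x : Y) y
      set R := W ⊓ Subgroup.centralizer ({(y : Y)} : Set Y) with hRdef
      have hRS : R ≤ S := inf_le_left.trans hWS
      set C₁ := K ⊓ Subgroup.centralizer (R : Set Y) with hC1def
      have hR : GSetup p R C₁ K := ⟨hS.pg.to_le hRS, hRS.trans hS.norm, hS.p', rfl⟩
      have hyR : (y : Y) ∈ Subgroup.centralizer (R : Set Y) :=
        Subgroup.mem_centralizer_iff.mpr fun r hr =>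
          (Subgroup.mem_centralizer_singleton_iff.mp (Subgroup.mem_inf.mp hr).2)
      have hxR : (x : Y) ∈ Subgroup.normalizer (R : Set Y) := by
        refine mem_normalizer_of_le fun r hr => ⟨hWM x x.2 r (Subgroup.mem_inf.mp hr).1,
          Subgroup.mem_centralizer_singleton_iff.mpr ?_⟩
        have hry := Subgroup.mem_centralizer_singleton_iff.mp (Subgroup.mem_inf.mp hr).2
        set e := (x : Y) * y * (x : Y)⁻¹ * (y : Y)⁻¹ with hedef
        have he : e ∈ Subgroup.centralizer (S : Set Y) := by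
          have h := (show e ∈ C from hxy); rw [hS.eq] at h; exact h.2
        have h1 : e * (y : Y) * ((x : Y) * r * (x : Y)⁻¹) =
            (x : Y) * r * (x : Y)⁻¹ * (e * y) := by
          calc e * (y : Y) * ((x : Y) * r * (x : Y)⁻¹) = x * (y * r) * (x : Y)⁻¹ := by
                rw [hedef]; group
            _ = x * (r * y) * (x : Y)⁻¹ := by rw [hry]
            _ = _ := by rw [hedef]; group
        rw [mul_assoc, ← mul_assoc _ e y, Subgroup.mem_centralizer_iff.mp he _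
          (hWS (hWM x x.2 r (Subgroup.mem_inf.mp hr).1)), mul_assoc e] at h1
        exact (mul_left_cancel h1).symm
      have hSC1 : ∀ s ∈ S, s ∈ Subgroup.normalizer (C₁ : Set Y) := by
        refine fun s hs => mem_normalizer_of_le fun k hk => ⟨conj_mem (hS.norm hs) hk.1,
          Subgroup.mem_centralizer_iff.mpr fun r hr => ?_⟩
        have hrW := (Subgroup.mem_inf.mp hr).1
        have he : r⁻¹ * s⁻¹ * r * s ∈ S₀ := by
          simpa using hWc r⁻¹ (inv_mem hrW) s⁻¹ (inv_mem hs)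
        have hke := Subgroup.mem_centralizer_iff.mp he.2 k hk.1
        have hkr := Subgroup.mem_centralizer_iff.mp hk.2 r hr
        calc r * (s * k * s⁻¹) = s * ((r * (r⁻¹ * s⁻¹ * r * s)) * k) * s⁻¹ := by group
          _ = s * (r * (k * (r⁻¹ * s⁻¹ * r * s))) * s⁻¹ := by rw [hke]; group
          _ = s * ((r * k) * (r⁻¹ * s⁻¹ * r * s)) * s⁻¹ := by group
          _ = s * ((k * r) * (r⁻¹ * s⁻¹ * r * s)) * s⁻¹ := by rw [hkr]
          _ = s * k * s⁻¹ * r := by group
      have hlt : Nat.card C₁ < Nat.card K := by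
        refine lt_of_le_of_ne (Nat.le_of_dvd Nat.card_pos (Subgroup.card_dvd_of_le hR.le))
          fun h => hc0 ⟨hWS hcW, Subgroup.mem_centralizer_iff.mpr fun k hk => ?_⟩
        have hk' : k ∈ C₁ := (Subgroup.eq_of_le_of_card_ge hR.le h.ge).ge hk
        exact (Subgroup.mem_centralizer_iff.mp hk'.2 c
          (Subgroup.mem_inf.mpr ⟨hcW, Subgroup.mem_centralizer_singleton_iff.mpr hyc.symm⟩)).symm
      obtain ⟨θ₁, h1⟩ := hR.exists_gcorr hθ fun s hs => (hθS (hRS hs)).2
      have hRinv : ∀ s ∈ R, cj K s θ = θ := fun s hs => hθinv s (hRS hs)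
      have hS1 : GSetup p S C C₁ := ⟨hS.pg, hSC1, fun h => hS.p' (h.trans
        (Subgroup.card_dvd_of_le hR.le)), by
          rw [hS.eq, hC1def, inf_assoc]
          exact congrArg (K ⊓ ·) (inf_eq_right.mpr (Subgroup.centralizer_le hRS)).symm⟩
      have hxC1 : (x : Y) ∈ Subgroup.normalizer (C₁ : Set Y) :=
        mem_normalizer_inf (hMθ x.2).1 (mem_normalizer_centralizer hxR)
      have hyC1 : (y : Y) ∈ Subgroup.normalizer (C₁ : Set Y) :=
        mem_normalizer_inf (hMθ y.2).1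
          (mem_normalizer_centralizer (Subgroup.centralizer_le_normalizer _ hyR))
      have hφ1 : GCorr p hS1.le (θ₁ : C₁ → ℂ) φ :=
        (gcorr_step hS1.le hR.le (IsIrr.isCharacter hθ) θ₁.2 h1
          (fun β hβ h' => hR.unique hθ hRinv hβ θ₁.2 h' h1) hφ).mp hφθ
      rw [om_step hR hθ (hRS.trans hθS) θ₁.2 h1 (hMθ x.2) (hMθ y.2) hxR hyR
        (fun h => hMp (h.trans (Subgroup.orderOf_dvd_natCard M y.2))) (hS1.le hxy)]
      exact ih C₁ C S (U ⊓ Subgroup.normalizer (C₁ : Set Y)) hS1 (by omega)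
        (le_inf inf_le_right (inf_le_left.trans (hU.trans inf_le_right)))
        (fun h => hUp (h.trans (Subgroup.card_dvd_of_le inf_le_left)))
        x ⟨hMU x.2, hxC1⟩ y ⟨hMU y.2, hyC1⟩ hxy (θ₁ : C₁ → ℂ) θ₁.2
        (fun s hs => ⟨hSC1 s hs, hR.cj_eq hθ hRinv θ₁.2 h1 (hθS hs) (hSC1 s hs)⟩)
        ⟨hxC1, hR.cj_eq hθ hRinv θ₁.2 h1 (hMθ x.2) hxC1⟩
        ⟨hyC1, hR.cj_eq hθ hRinv θ₁.2 h1 (hMθ y.2) hyC1⟩ φ hφ hφ1

end Cfsg.Agent.Block.RelMcKay
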