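import Cfsg.Agent.Lib.Block.RelGlauberman
import Cfsg.Agent.Lib.Char.CliffordCorr
import Cfsg.Agent.Lib.Char.ExtendMain
import Cfsg.Agent.Lib.Block.ClassMul

/-!
# Counting characters of degree prime to `p` over a character of a subgroup

The counting function for the relative McKay count, ambient conjugation of functions on
subgroups, and elementary facts on constituents.
-/

set_option autoImplicit false
set_option linter.style.haveILetI false
set_option linter.unusedSectionVars false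

open scoped ComplexConjugate

namespace Cfsg.Agent.Block.RelMcKay

open Cfsg Cfsg.Agent.Char Cfsg.Agent.Block

universe u

/-! ### characters over a character -/

section General

variable {p : ℕ} {X L : Type u} [Group X] [Group L]

/-- `χ` lies over `ν` along `j`. -/
def Lies (j : L →* X) (ν : L → ℂ) (χ : X → ℂ) : Prop :=
  ∑ᶠ l : L, χ (j l) * conj (ν l) ≠ 0

theorem lies_iff [Fintype L] (j : L →* X) (ν : L → ℂ) (χ : X → ℂ) :
    Lies j ν χ ↔ classInner (fun l => χ (j l)) ν ≠ 0 := by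
  rw [Lies, finsum_eq_sum_of_fintype, classInner]
  simp [Nat.card_pos.ne']

/-- The number of irreducible characters of degree prime to `p` over `ν`. -/
noncomputable def cnt (p : ℕ) (j : L →* X) (ν : L → ℂ) : ℕ :=
  Nat.card {χ : IrrCharacter X // ¬ p ∣ charDegree (χ : X → ℂ) ∧ Lies j ν (χ : X → ℂ)}

theorem charDegree_of_eq {χ : X → ℂ} {n : ℕ} (h : χ 1 = n) : charDegree χ = n := by
  simp [charDegree, h]

variable [Finite X]

/-- Transport of irreducible characters along an isomorphism. -/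
noncomputable def irrCongr {X' : Type u} [Group X'] [Finite X'] (e : X' ≃* X) :
    IrrCharacter X ≃ IrrCharacter X' where
  toFun χ := ⟨fun x => (χ : X → ℂ) (e x), IsIrr.comp_mulEquiv e χ.2⟩
  invFun χ := ⟨fun x => (χ : X' → ℂ) (e.symm x), IsIrr.comp_mulEquiv e.symm χ.2⟩
  left_inv χ := Subtype.ext (funext fun x => by simp)
  right_inv χ := Subtype.ext (funext fun x => by simp)

theorem cnt_congr {X' L' : Type u} [Group X'] [Finite X'] [Group L'] (e : X' ≃* X) (f : L' ≃* L)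
    (j : L →* X) (j' : L' →* X') (h : ∀ l, e (j' l) = j (f l)) {ν : L → ℂ} {ν' : L' → ℂ}
    (hν : ∀ l, ν' l = ν (f l)) : cnt p j' ν' = cnt p j ν := by
  refine (Nat.card_congr (Equiv.subtypeEquiv (irrCongr e) fun χ => and_congr ?_ ?_)).symm
  · show ¬ p ∣ ⌊((χ : X → ℂ) 1).re⌋₊ ↔ ¬ p ∣ ⌊((χ : X → ℂ) (e 1)).re⌋₊
    rw [map_one]
  · refine not_congr (Eq.congr_left ?_)
    refine (finsum_eq_of_bijective f f.bijective fun l => ?_).symm
    show (χ : X → ℂ) (e (j' l)) * conj (ν' l) = _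
    rw [h, hν]

variable [Finite L]

theorem exists_lies {θ : X → ℂ} (hθ : IsCharacter X θ) (h1 : θ 1 ≠ 0) (j : L →* X) :
    ∃ ν : IrrCharacter L, Lies j (ν : L → ℂ) θ := by
  haveI := Fintype.ofFinite L
  obtain ⟨ν, hν⟩ := IsChar.exists_constituent' (IsChar.comp j hθ)
    (show θ (j 1) ≠ 0 by rwa [map_one])
  exact ⟨ν, (lies_iff j _ _).mpr hν⟩

theorem lies_trans {Y : Type u} [Group Y] [Finite Y] {i : Y →* X} {j : L →* Y} {χ : X → ℂ}
    (hχ : IsCharacter X χ) {θ : Y → ℂ} (hθ : IsIrrCharacter Y θ) (h : Lies i θ χ) {ν : L → ℂ}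
    (hν : IsCharacter L ν) (h' : Lies j ν θ) : Lies (i.comp j) ν χ := by
  haveI := Fintype.ofFinite L
  haveI := Fintype.ofFinite Y
  rw [lies_iff] at h h' ⊢
  exact RelGal.over_of_constituent i j hχ hθ h hν h'

theorem lies_res_of_lies {Y : Type u} [Group Y] [Finite Y] {i : Y →* X} {j : L →* Y} {χ : X → ℂ}
    (hχ : IsCharacter X χ) {ν : L → ℂ} (h : Lies (i.comp j) ν χ) :
    ∃ θ : IrrCharacter Y, Lies i (θ : Y → ℂ) χ ∧ Lies j ν (θ : Y → ℂ) := by
  classical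
  haveI := Fintype.ofFinite L
  haveI := Fintype.ofFinite Y
  rw [lies_iff] at h
  obtain ⟨a, ha, hdec⟩ := IsChar.exists_decomp_inner (IsChar.comp i hχ)
  have e : (fun l => χ ((i.comp j) l)) = ∑ θ : IrrCharacter Y,
      (a θ : ℂ) • fun l => (θ : Y → ℂ) (j l) := by
    funext l
    have := congrFun hdec (j l)
    simpa [Finset.sum_apply] using this
  rw [e, classInner_sum_left] at h
  obtain ⟨θ, -, hθ⟩ := Finset.exists_ne_zero_of_sum_ne_zero h
  rw [classInner_smul_left, mul_ne_zero_iff] at hθ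
  exact ⟨θ, (lies_iff _ _ _).mpr (by rw [ha]; exact hθ.1), (lies_iff _ _ _).mpr hθ.2⟩

theorem scalar_mul {χ : X → ℂ} (hχ : IsIrrCharacter X χ) {z : X} (hz : z ∈ Subgroup.center X)
    (g : X) : χ (z * g) * χ 1 = χ z * χ g := by
  obtain ⟨c, -, hc⟩ := IsIrr.scalar_of_center hχ hz
  have h1 := hc 1
  rw [mul_one] at h1
  rw [hc, h1]
  ring

/-- An irreducible character restricted to a central subgroup is a multiple of a linear one. -/
theorem exists_central_hom {χ : X → ℂ} (hχ : IsIrrCharacter X χ) (j : L →* X)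
    (hj : ∀ z, j z ∈ Subgroup.center X) :
    ∃ μ : L →* ℂˣ, ∀ z, χ (j z) = χ 1 * (μ z : ℂ) := by
  choose c hc1 hc using fun z : L => IsIrr.scalar_of_center hχ (hj z)
  have hc0 : ∀ z, c z ≠ 0 := fun z h => by simpa [h] using hc1 z
  have hmul : ∀ a b, c (a * b) = c a * c b := fun a b => by
    refine mul_right_cancel₀ (IsIrr.one_ne_zero hχ) ?_
    rw [mul_assoc, ← hc, ← hc, ← hc, mul_one, mul_one, map_mul]
  refine ⟨MonoidHom.mk' (fun z => Units.mk0 (c z) (hc0 z)) fun a b => Units.ext (hmul a b),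
    fun z => ?_⟩
  have h1 := hc z 1
  rw [mul_one] at h1
  rw [h1, mul_comm]
  rfl

/-- Over a linear character of a central subgroup. -/
theorem lies_central_iff {χ : X → ℂ} (hχ : IsIrrCharacter X χ) (j : L →* X)
    (hj : ∀ z, j z ∈ Subgroup.center X) (ζ : L →* ℂˣ) :
    Lies j (fun z => (ζ z : ℂ)) χ ↔ ∀ z, χ (j z) = χ 1 * (ζ z : ℂ) := by
  classical
  haveI := Fintype.ofFinite L
  obtain ⟨μ, hμ⟩ := exists_central_hom hχ j hj
  have e : classInner (fun z => χ (j z)) (fun z => (ζ z : ℂ)) =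
      χ 1 * classInner (fun z => (μ z : ℂ)) (fun z => (ζ z : ℂ)) := by
    rw [← classInner_smul_left]
    congr 1
    funext z
    simp [hμ z]
  rw [lies_iff, e]
  constructor
  · intro h z
    have h2 := (mul_ne_zero_iff.mp h).2
    rw [hμ z, show (μ z : ℂ) = (ζ z : ℂ) from
      congrFun (eq_of_constituent_irr (isIrr_linear μ) (isIrr_linear ζ) h2) z]
  · intro h
    have e2 : (fun z => (μ z : ℂ)) = fun z => (ζ z : ℂ) := funext fun z =>
      mul_left_cancel₀ (IsIrr.one_ne_zero hχ) ((hμ z).symm.trans (h z))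
    rw [e2, classInner_self_irr (isIrr_linear ζ), mul_one]
    exact IsIrr.one_ne_zero hχ

end General

/-! ### ambient conjugation -/

section Ambient

variable {Y : Type u} [Group Y] {p : ℕ}

/-- The conjugate of a function on a subgroup by an element of the ambient group. -/
noncomputable def cj (K : Subgroup Y) (g : Y) (θ : K → ℂ) : K → ℂ :=
  fun k => extendByZero K θ (g * k * g⁻¹)

variable {K : Subgroup Y}

theorem conj_mem {g : Y} (hg : g ∈ Subgroup.normalizer (K : Set Y)) {k : Y} (hk : k ∈ K) :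
    g * k * g⁻¹ ∈ K := (Subgroup.mem_normalizer_iff.mp hg k).mp hk

theorem cj_apply {g : Y} (hg : g ∈ Subgroup.normalizer (K : Set Y)) (θ : K → ℂ) (k : K) :
    cj K g θ k = θ ⟨g * k * g⁻¹, conj_mem hg k.2⟩ :=
  extendByZero_of_mem θ (conj_mem hg k.2)

theorem cj_one (θ : K → ℂ) : cj K 1 θ = θ := funext fun k => by
  rw [cj, one_mul, inv_one, mul_one, extendByZero_apply]

theorem cj_mul (a : Y) {b : Y} (hb : b ∈ Subgroup.normalizer (K : Set Y)) (θ : K → ℂ) :
    cj K (a * b) θ = cj K b (cj K a θ) := funext fun k => by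
  show _ = extendByZero K (cj K a θ) (b * k * b⁻¹)
  rw [extendByZero_of_mem _ (conj_mem hb k.2)]
  simp only [cj]
  congr 1
  group

theorem cj_inv_cancel {a : Y} (ha : a ∈ Subgroup.normalizer (K : Set Y)) (θ : K → ℂ) :
    cj K a⁻¹ (cj K a θ) = θ := by
  rw [← cj_mul a (inv_mem ha), mul_inv_cancel, cj_one]

theorem cj_cancel_inv {a : Y} (ha : a ∈ Subgroup.normalizer (K : Set Y)) (θ : K → ℂ) :
    cj K a (cj K a⁻¹ θ) = θ := by
  rw [← cj_mul a⁻¹ ha, inv_mul_cancel, cj_one]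

theorem cj_mem {θ : K → ℂ} (hθ : IsClassFunction K θ) {m : Y} (hm : m ∈ K) : cj K m θ = θ :=
  funext fun k => by
    rw [cj_apply (Subgroup.le_normalizer hm)]
    exact hθ k ⟨m, hm⟩

/-- Conjugation as an automorphism of the subgroup. -/
def cjEquiv {g : Y} (hg : g ∈ Subgroup.normalizer (K : Set Y)) : K ≃* K where
  toFun k := ⟨g * k * g⁻¹, conj_mem hg k.2⟩
  invFun k := ⟨g⁻¹ * k * g, by simpa using conj_mem (inv_mem hg) k.2⟩
  left_inv k := Subtype.ext (by simp [mul_assoc])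
  right_inv k := Subtype.ext (by simp [mul_assoc])
  map_mul' a b := Subtype.ext (by simp [mul_assoc])

theorem cjEquiv_coe {g : Y} (hg : g ∈ Subgroup.normalizer (K : Set Y)) (k : K) :
    ((cjEquiv hg k : K) : Y) = g * k * g⁻¹ := rfl

theorem cj_eq_comp {g : Y} (hg : g ∈ Subgroup.normalizer (K : Set Y)) (θ : K → ℂ) :
    cj K g θ = fun k => θ (cjEquiv hg k) := funext fun k => cj_apply hg θ k

theorem cj_one_apply {g : Y} (hg : g ∈ Subgroup.normalizer (K : Set Y)) (θ : K → ℂ) :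
    cj K g θ 1 = θ 1 := by
  rw [cj_eq_comp hg]
  exact congrArg θ (map_one _)

theorem irr_cj [Finite Y] {g : Y} (hg : g ∈ Subgroup.normalizer (K : Set Y)) {θ : K → ℂ}
    (hθ : IsIrrCharacter K θ) : IsIrrCharacter K (cj K g θ) := by
  rw [cj_eq_comp hg]
  exact IsIrr.comp_mulEquiv _ hθ

theorem charDegree_cj {g : Y} (hg : g ∈ Subgroup.normalizer (K : Set Y)) (θ : K → ℂ) :
    charDegree (cj K g θ) = charDegree θ := by
  simp only [charDegree, cj_one_apply hg]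

theorem classInner_cj [Fintype K] {g : Y} (hg : g ∈ Subgroup.normalizer (K : Set Y))
    (α β : K → ℂ) : classInner (cj K g α) (cj K g β) = classInner α β := by
  rw [cj_eq_comp hg, cj_eq_comp hg]
  exact classInner_comp_surjective (cjEquiv hg).toMonoidHom (cjEquiv hg).surjective α β

theorem lies_cj {M : Subgroup Y} (hKM : K ≤ M) {χ : M → ℂ} (hχ : IsClassFunction M χ) {g : Y}
    (hgM : g ∈ M) (hg : g ∈ Subgroup.normalizer (K : Set Y)) (θ : K → ℂ) :
    Lies (Subgroup.inclusion hKM) (cj K g θ) χ ↔ Lies (Subgroup.inclusion hKM) θ χ := by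
  refine not_congr (Eq.congr_left ?_)
  refine finsum_eq_of_bijective (cjEquiv hg) (cjEquiv hg).bijective fun k => ?_
  rw [cj_eq_comp hg]
  congr 1
  rw [← hχ (Subgroup.inclusion hKM k) ⟨g, hgM⟩]
  exact congrArg χ (Subtype.ext rfl)

/-- The stabiliser of a function on a subgroup. -/
noncomputable def St (K : Subgroup Y) (θ : K → ℂ) : Subgroup Y where
  carrier := {g | g ∈ Subgroup.normalizer (K : Set Y) ∧ cj K g θ = θ}
  one_mem' := ⟨one_mem _, cj_one θ⟩
  mul_mem' {a b} ha hb := ⟨mul_mem ha.1 hb.1, by rw [cj_mul a hb.1, ha.2, hb.2]⟩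
  inv_mem' {a} ha := ⟨inv_mem ha.1, by
    have h := cj_inv_cancel ha.1 θ
    rwa [ha.2] at h⟩

theorem mem_St {θ : K → ℂ} {g : Y} :
    g ∈ St K θ ↔ g ∈ Subgroup.normalizer (K : Set Y) ∧ cj K g θ = θ := Iff.rfl

theorem le_St {θ : K → ℂ} (hθ : IsClassFunction K θ) : K ≤ St K θ := fun _ hk =>
  ⟨Subgroup.le_normalizer hk, cj_mem hθ hk⟩

theorem St_le_normalizer (K : Subgroup Y) (θ : K → ℂ) :
    St K θ ≤ Subgroup.normalizer (K : Set Y) := fun _ h => h.1

/-- A function on a subgroup, seen on its copy inside a bigger subgroup. -/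
def resOf {M : Subgroup Y} (hKM : K ≤ M) (θ : K → ℂ) : K.subgroupOf M → ℂ :=
  fun x => θ (Subgroup.subgroupOfEquivOfLe hKM x)

theorem irr_resOf [Finite Y] {M : Subgroup Y} (hKM : K ≤ M) {θ : K → ℂ}
    (hθ : IsIrrCharacter K θ) : IsIrrCharacter (K.subgroupOf M) (resOf hKM θ) :=
  IsIrr.comp_mulEquiv _ hθ

theorem resOf_injective {M : Subgroup Y} (hKM : K ≤ M) :
    Function.Injective (resOf hKM : (K → ℂ) → _) := fun a b h => funext fun k => by
  obtain ⟨x, rfl⟩ := (Subgroup.subgroupOfEquivOfLe hKM).surjective k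
  exact congrFun h x

theorem classInner_resOf [Finite Y] {M : Subgroup Y} (hKM : K ≤ M) [Fintype K]
    [Fintype (K.subgroupOf M)] (χ : M → ℂ) (θ : K → ℂ) :
    classInner (fun x : K.subgroupOf M => χ x) (resOf hKM θ) =
      classInner (fun k => χ (Subgroup.inclusion hKM k)) θ :=
  classInner_comp_surjective (Subgroup.subgroupOfEquivOfLe hKM).toMonoidHom
    (Subgroup.subgroupOfEquivOfLe hKM).surjective (fun k => χ (Subgroup.inclusion hKM k)) θ

theorem conjN_resOf {M : Subgroup Y} (hKM : K ≤ M) [(K.subgroupOf M).Normal]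
    (hn : M ≤ Subgroup.normalizer (K : Set Y)) (g : M) (θ : K → ℂ) :
    conjN (K.subgroupOf M) g (resOf hKM θ) = resOf hKM (cj K g θ) := funext fun x => by
  rw [conjN_apply, resOf, resOf, cj_apply (hn g.2)]
  rfl

theorem inertia_resOf {M : Subgroup Y} (hKM : K ≤ M) [(K.subgroupOf M).Normal]
    (hn : M ≤ Subgroup.normalizer (K : Set Y)) (θ : K → ℂ) :
    inertia (K.subgroupOf M) (resOf hKM θ) = (St K θ).subgroupOf M := by
  ext g
  rw [mem_inertia, conjN_resOf hKM hn, (resOf_injective hKM).eq_iff]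
  exact ⟨fun h => ⟨hn g.2, h⟩, fun h => h.2⟩

variable [Finite Y]

/-- Constituents on a normalised subgroup are conjugate. -/
theorem exists_cj_of_lies {M : Subgroup Y} (hKM : K ≤ M)
    (hn : M ≤ Subgroup.normalizer (K : Set Y)) {χ : M → ℂ} (hχ : IsIrrCharacter M χ)
    {θ θ' : K → ℂ} (hθ : IsIrrCharacter K θ) (hθ' : IsIrrCharacter K θ')
    (h : Lies (Subgroup.inclusion hKM) θ χ) (h' : Lies (Subgroup.inclusion hKM) θ' χ) :
    ∃ g ∈ M, cj K g θ = θ' := by
  haveI := Subgroup.normal_subgroupOf_of_le_normalizer hn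
  haveI := Fintype.ofFinite M
  haveI := Fintype.ofFinite K
  haveI := Fintype.ofFinite (K.subgroupOf M)
  rw [lies_iff, ← classInner_resOf] at h h'
  obtain ⟨g, hg⟩ := exists_conj_of_constituents _ hχ (irr_resOf hKM hθ) (irr_resOf hKM hθ') h h'
  rw [conjN_resOf hKM hn] at hg
  exact ⟨g, g.2, resOf_injective hKM hg⟩

/-- Degrees above a normalised subgroup. -/
theorem exists_ratio {M : Subgroup Y} (hKM : K ≤ M)
    (hn : M ≤ Subgroup.normalizer (K : Set Y)) {χ : M → ℂ} (hχ : IsIrrCharacter M χ)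
    {θ : K → ℂ} (hθ : IsIrrCharacter K θ) (h : Lies (Subgroup.inclusion hKM) θ χ) :
    ∃ e : ℕ, e ∣ K.relIndex M ∧ charDegree χ = e * charDegree θ := by
  haveI := Subgroup.normal_subgroupOf_of_le_normalizer hn
  haveI := Fintype.ofFinite M
  haveI := Fintype.ofFinite K
  haveI := Fintype.ofFinite (K.subgroupOf M)
  rw [lies_iff, ← classInner_resOf] at h
  obtain ⟨e, he, hd⟩ := Ext.ratio_dvd_index' hχ (irr_resOf hKM hθ) h
  refine ⟨e, hd, charDegree_of_eq ?_⟩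
  rw [he, show resOf hKM θ 1 = θ 1 by simp [resOf], Nat.cast_mul,
    show θ 1 = (charDegree θ : ℂ) from charDeg_spec' ⟨θ, hθ⟩]

theorem degree_dvd_of_lies {M : Subgroup Y} (hKM : K ≤ M)
    (hn : M ≤ Subgroup.normalizer (K : Set Y)) {χ : M → ℂ} (hχ : IsIrrCharacter M χ)
    {θ : K → ℂ} (hθ : IsIrrCharacter K θ) (h : Lies (Subgroup.inclusion hKM) θ χ) :
    charDegree θ ∣ charDegree χ := by
  obtain ⟨e, -, he⟩ := exists_ratio hKM hn hχ hθ h
  exact he ▸ dvd_mul_left _ _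

theorem cnt_eq_zero {M : Subgroup Y} (hKM : K ≤ M) (hn : M ≤ Subgroup.normalizer (K : Set Y))
    {θ : K → ℂ} (hθ : IsIrrCharacter K θ) (hp : p ∣ charDegree θ) :
    cnt p (Subgroup.inclusion hKM) θ = 0 := by
  haveI : IsEmpty {χ : IrrCharacter M //
      ¬ p ∣ charDegree (χ : M → ℂ) ∧ Lies (Subgroup.inclusion hKM) θ (χ : M → ℂ)} :=
    ⟨fun χ => χ.2.1 (hp.trans (degree_dvd_of_lies hKM hn χ.1.2 hθ χ.2.2))⟩
  exact Nat.card_of_isEmpty

/-- The intersection as a subgroup of the bigger group. -/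
def infEquiv (M A : Subgroup Y) : ↥(M ⊓ A) ≃* A.subgroupOf M where
  toFun x := ⟨⟨x, x.2.1⟩, x.2.2⟩
  invFun x := ⟨x, x.1.2, x.2⟩
  left_inv _ := rfl
  right_inv _ := rfl
  map_mul' _ _ := rfl

theorem cnt_subgroupOf {M A : Subgroup Y} (hKM : K ≤ M) (hKA : K ≤ A)
    (h : K.subgroupOf M ≤ A.subgroupOf M) (θ : K → ℂ) :
    cnt p (Subgroup.inclusion h) (resOf hKM θ) =
      cnt p (Subgroup.inclusion (le_inf hKM hKA)) θ :=
  cnt_congr (infEquiv M A).symm (Subgroup.subgroupOfEquivOfLe hKM)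
    (Subgroup.inclusion (le_inf hKM hKA)) (Subgroup.inclusion h) (fun _ => Subtype.ext rfl)
    fun _ => rfl

theorem cnt_subtype_resOf {M : Subgroup Y} (hKM : K ≤ M) (θ : K → ℂ) :
    cnt p (K.subgroupOf M).subtype (resOf hKM θ) = cnt p (Subgroup.inclusion hKM) θ :=
  cnt_congr (MulEquiv.refl M) (Subgroup.subgroupOfEquivOfLe hKM) (Subgroup.inclusion hKM)
    (K.subgroupOf M).subtype (fun _ => Subtype.ext rfl) fun _ => rfl

theorem cnt_incl_eq {M M' : Subgroup Y} (e : M = M') (hKM : K ≤ M) (hKM' : K ≤ M')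
    (θ : K → ℂ) : cnt p (Subgroup.inclusion hKM) θ = cnt p (Subgroup.inclusion hKM') θ := by
  subst e; rfl

theorem cnt_top (θ : K → ℂ) :
    cnt p (Subgroup.inclusion (le_top : K ≤ ⊤)) θ = cnt p K.subtype θ :=
  cnt_congr Subgroup.topEquiv (MulEquiv.refl K) K.subtype _ (fun _ => rfl) fun _ => rfl

/-- The Clifford correspondence for the counting function. -/
theorem cnt_inertia [Fact p.Prime] {M : Subgroup Y} (hKM : K ≤ M)
    (hn : M ≤ Subgroup.normalizer (K : Set Y)) {θ : K → ℂ} (hθ : IsIrrCharacter K θ)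
    (hidx : ¬ p ∣ (St K θ).relIndex M) :
    cnt p (Subgroup.inclusion hKM) θ =
      cnt p (Subgroup.inclusion (le_inf hKM (le_St (IsIrr.classFun hθ)))) θ := by
  classical
  haveI := Subgroup.normal_subgroupOf_of_le_normalizer hn
  haveI := Fintype.ofFinite M
  haveI := Fintype.ofFinite K
  haveI := Fintype.ofFinite (K.subgroupOf M)
  have hθ' := irr_resOf hKM hθ
  set T : Subgroup M := (St K θ).subgroupOf M with hTdef
  have hT : T = inertia (K.subgroupOf M) (resOf hKM θ) := (inertia_resOf hKM hn θ).symm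
  have hKT : K.subgroupOf M ≤ T := Subgroup.comap_mono (le_St (IsIrr.classFun hθ))
  haveI := Fintype.ofFinite T
  rw [← cnt_subgroupOf hKM (le_St (IsIrr.classFun hθ)) hKT θ, ← cnt_subtype_resOf hKM θ]
  have hdeg : ∀ ψ : IrrCharacter T, ∀ (χ : M → ℂ), indFun T (ψ : T → ℂ) = χ →
      (¬ p ∣ charDegree χ ↔ ¬ p ∣ charDegree (ψ : T → ℂ)) := by
    intro ψ χ h
    have e : charDegree χ = T.index * charDegree (ψ : T → ℂ) :=
      charDegree_of_eq (by rw [← h, indFun_one_eq, charDeg_spec' ψ, Nat.cast_mul])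
    rw [e, (Fact.out : p.Prime).dvd_mul, not_or]
    exact ⟨fun h => h.2, fun h => ⟨hidx, h⟩⟩
  have hov : ∀ ψ : IrrCharacter T, Lies (Subgroup.inclusion hKT) (resOf hKM θ) (ψ : T → ℂ) ↔
      classInner (fun n : K.subgroupOf M => (ψ : T → ℂ) ⟨(n : M), hKT n.2⟩) (resOf hKM θ) ≠ 0 :=
    fun ψ => lies_iff _ _ _
  have hback : ∀ ψ : IrrCharacter T, Lies (Subgroup.inclusion hKT) (resOf hKM θ) (ψ : T → ℂ) →
      IsIrrCharacter M (indFun T (ψ : T → ℂ)) ∧
        Lies (K.subgroupOf M).subtype (resOf hKM θ) (indFun T (ψ : T → ℂ)) := by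
    intro ψ h
    obtain ⟨hχ, -⟩ := Corr.indFun_irr _ hθ' hT hKT ψ.2 ((hov ψ).mp h)
    refine ⟨hχ, ?_⟩
    have h1 : classInner (fun x : T => indFun T (ψ : T → ℂ) x) (ψ : T → ℂ) = 1 := by
      rw [← classInner_indFun_right T (ψ : T → ℂ) (IsIrr.classFun hχ), classInner_self_irr hχ]
    obtain ⟨-, h2, -⟩ := Corr.core _ hθ' hT hKT ψ.2 ((hov ψ).mp h) hχ
      (by rw [h1]; exact one_ne_zero)
    rw [lies_iff]
    show classInner (fun n : K.subgroupOf M => indFun T (ψ : T → ℂ) n) (resOf hKM θ) ≠ 0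
    rw [← h2]
    exact (hov ψ).mp h
  refine (Nat.card_eq_of_bijective (fun ψ : {ψ : IrrCharacter T //
      ¬ p ∣ charDegree (ψ : T → ℂ) ∧ Lies (Subgroup.inclusion hKT) (resOf hKM θ) (ψ : T → ℂ)} =>
    (⟨⟨_, (hback ψ.1 ψ.2.2).1⟩, (hdeg ψ.1 _ rfl).mpr ψ.2.1, (hback ψ.1 ψ.2.2).2⟩ :
      {χ : IrrCharacter M // ¬ p ∣ charDegree (χ : M → ℂ) ∧
        Lies (K.subgroupOf M).subtype (resOf hKM θ) (χ : M → ℂ)})) ⟨?_, ?_⟩).symm
  · intro ψ ψ' h
    have h' : indFun T (ψ.1 : T → ℂ) = indFun T (ψ'.1 : T → ℂ) :=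
      congrArg (fun t => (t.1 : M → ℂ)) h
    exact Subtype.ext (Subtype.ext ((Corr.indFun_irr _ hθ' hT hKT ψ'.1.2 ((hov _).mp ψ'.2.2)).2
      _ ψ.1.2 ((hov _).mp ψ.2.2) h'))
  · rintro ⟨χ, hχp, hχ⟩
    rw [lies_iff] at hχ
    obtain ⟨ψ, hψ, hind, hin⟩ := Corr.exists_correspondent _ hθ' hT hKT χ.2 hχ
    exact ⟨⟨⟨ψ, hψ⟩, (hdeg ⟨ψ, hψ⟩ _ hind).mp hχp, (hov ⟨ψ, hψ⟩).mpr (hin ▸ hχ)⟩,
      Subtype.ext (Subtype.ext hind)⟩

open scoped Classical in
/-- Double counting over a set of characters of a normalised subgroup. -/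
theorem transfer {M H Z : Subgroup Y} (hKM : K ≤ M) (hZM : Z ≤ M) (hHM : H ≤ M)
    (hHK : H ≤ Subgroup.normalizer (K : Set Y)) (ζ : Z → ℂ) (Θ : Finset (IrrCharacter K))
    (hstab : ∀ h ∈ H, ∀ θ ∈ Θ, ∃ θ' ∈ Θ, cj K h (θ : K → ℂ) = (θ' : K → ℂ))
    (hover : ∀ θ ∈ Θ, ∀ χ : IrrCharacter M, Lies (Subgroup.inclusion hKM) (θ : K → ℂ) (χ : M → ℂ) →
      Lies (Subgroup.inclusion hZM) ζ (χ : M → ℂ))
    (hex : ∀ χ : IrrCharacter M, ¬ p ∣ charDegree (χ : M → ℂ) →
      Lies (Subgroup.inclusion hZM) ζ (χ : M → ℂ) →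
      ∃ θ ∈ Θ, Lies (Subgroup.inclusion hKM) (θ : K → ℂ) (χ : M → ℂ))
    (hconj : ∀ χ : IrrCharacter M, ¬ p ∣ charDegree (χ : M → ℂ) → ∀ θ ∈ Θ, ∀ θ' ∈ Θ,
      Lies (Subgroup.inclusion hKM) (θ : K → ℂ) (χ : M → ℂ) →
      Lies (Subgroup.inclusion hKM) (θ' : K → ℂ) (χ : M → ℂ) →
      ∃ h ∈ H, cj K h (θ : K → ℂ) = (θ' : K → ℂ)) :
    cnt p (Subgroup.inclusion hZM) ζ * Nat.card H =
      ∑ θ ∈ Θ, cnt p (Subgroup.inclusion hKM) (θ : K → ℂ) *
        Nat.card ↥(H ⊓ St K (θ : K → ℂ)) := by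
  haveI := Fintype.ofFinite M
  set Rel : Finset (IrrCharacter M) := Finset.univ.filter fun χ =>
    ¬ p ∣ charDegree (χ : M → ℂ) ∧ Lies (Subgroup.inclusion hZM) ζ (χ : M → ℂ) with hRel
  have h1 : cnt p (Subgroup.inclusion hZM) ζ = Rel.card := by
    rw [cnt, Nat.card_eq_fintype_card, Fintype.card_subtype]
  have h2 : ∀ θ ∈ Θ, cnt p (Subgroup.inclusion hKM) (θ : K → ℂ) =
      (Rel.filter fun χ : IrrCharacter M =>
        Lies (Subgroup.inclusion hKM) (θ : K → ℂ) (χ : M → ℂ)).card := by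
    intro θ hθ
    rw [cnt, Nat.card_eq_fintype_card, Fintype.card_subtype, hRel, Finset.filter_filter]
    refine congrArg Finset.card (Finset.filter_congr fun χ _ => ?_)
    exact ⟨fun h => ⟨⟨h.1, hover θ hθ χ h.2⟩, h.2⟩, fun h => ⟨h.1.1, h.2⟩⟩
  have key : ∀ χ ∈ Rel, Nat.card H =
      ∑ θ ∈ Θ.filter (fun θ : IrrCharacter K => Lies (Subgroup.inclusion hKM) (θ : K → ℂ) (χ : M → ℂ)),
        Nat.card ↥(H ⊓ St K (θ : K → ℂ)) := by
    intro χ hχ
    obtain ⟨hχp, hχζ⟩ := (Finset.mem_filter.mp hχ).2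
    obtain ⟨θ₀, hθ₀, hl₀⟩ := hex χ hχp hχζ
    set T := Θ.filter fun θ : IrrCharacter K =>
      Lies (Subgroup.inclusion hKM) (θ : K → ℂ) (χ : M → ℂ) with hT
    have himg : ∀ h : H, ∃ θ : T, cj K (h : Y) (θ₀ : K → ℂ) = ((θ.1 : IrrCharacter K) : K → ℂ) := by
      intro h
      obtain ⟨θ', hθ', he⟩ := hstab h h.2 θ₀ hθ₀
      exact ⟨⟨θ', Finset.mem_filter.mpr ⟨hθ', he ▸ (lies_cj hKM (IsIrr.classFun χ.2) (hHM h.2)
        (hHK h.2) _).mpr hl₀⟩⟩, he⟩
    choose img himg using himg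
    have hrep : ∀ θ : T, ∃ h : H, cj K (h : Y) (θ₀ : K → ℂ) = ((θ.1 : IrrCharacter K) : K → ℂ) := by
      intro θ
      obtain ⟨h, hh, he⟩ := hconj χ hχp θ₀ hθ₀ θ.1 (Finset.mem_filter.mp θ.2).1 hl₀
        (Finset.mem_filter.mp θ.2).2
      exact ⟨⟨h, hh⟩, he⟩
    choose rep hrep using hrep
    rw [← Finset.sum_coe_sort T, ← Nat.card_sigma]
    refine (Nat.card_eq_of_bijective
      (fun x : Σ θ : T, ↥(H ⊓ St K ((θ.1 : IrrCharacter K) : K → ℂ)) =>
        rep x.1 * ⟨(x.2 : Y), x.2.2.1⟩) ⟨?_, ?_⟩).symm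
    · rintro ⟨θ, s⟩ ⟨θ', s'⟩ e
      have e' : (rep θ : Y) * (s : Y) = (rep θ' : Y) * (s' : Y) := congrArg Subtype.val e
      have hval : ∀ (θ : T) (s : ↥(H ⊓ St K ((θ.1 : IrrCharacter K) : K → ℂ))),
          cj K ((rep θ : Y) * (s : Y)) (θ₀ : K → ℂ) = ((θ.1 : IrrCharacter K) : K → ℂ) :=
        fun θ s => by rw [cj_mul _ (hHK s.2.1), hrep, s.2.2.2]
      obtain rfl : θ = θ' := Subtype.ext (Subtype.ext (by rw [← hval θ s, e', hval θ' s']))
      obtain rfl : s = s' := Subtype.ext (mul_left_cancel e')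
      rfl
    · intro h
      refine ⟨⟨img h, ⟨(rep (img h) : Y)⁻¹ * h, H.mul_mem (H.inv_mem (rep _).2) h.2,
        mul_mem (inv_mem (hHK (rep _).2)) (hHK h.2), ?_⟩⟩, Subtype.ext (mul_inv_cancel_left _ _)⟩
      rw [cj_mul _ (hHK h.2)]
      conv_lhs => rw [← hrep (img h)]
      rw [cj_inv_cancel (hHK (rep _).2)]
      exact himg h
  rw [h1, ← smul_eq_mul, ← Finset.sum_const, Finset.sum_congr rfl key]
  simp only [Finset.sum_filter]
  rw [Finset.sum_comm]
  refine Finset.sum_congr rfl fun θ hθ => ?_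
  rw [h2 θ hθ, ← Finset.sum_filter, Finset.sum_const, smul_eq_mul]

end Ambient

end Cfsg.Agent.Block.RelMcKay
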