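import Cfsg.Agent.Lib.Block.RelMcKay.Lies
import Cfsg.Agent.Lib.Grp.PSolvable

/-!
# Reduction to a linear character of a central subgroup

The cover carrying the projective representation of an invariant character gives a bijection
between the characters over it and the characters over a linear character of a central subgroup
of a second group.
-/

set_option autoImplicit false
set_option linter.style.haveILetI false
set_option linter.unusedSectionVars false

open scoped ComplexConjugate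

namespace Cfsg.Agent.Block.RelMcKay

open Cfsg Cfsg.Agent.Char Cfsg.Agent.Block

universe u

variable {p : ℕ}

theorem cnt_triple [Fact p.Prime] {X Y G L : Type u} [Group X] [Group Y] [Group G] [Group L]
    [Finite X] [Finite Y] [Finite G] [Finite L] (q : X →* G) (hq : Function.Surjective q)
    (π : X →* Y) (hπ : Function.Surjective π) (ℓ : L →* X) (hℓ : Function.Injective ℓ)
    (hker : π.ker = ℓ.range) (j : L →* G) (hj : ∀ l, q (ℓ l) = j l)
    {χ₀ : X → ℂ} (hχ₀ : IsIrrCharacter X χ₀) {ν : L → ℂ} (hν : IsIrrCharacter L ν)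
    (hres : ∀ l, χ₀ (ℓ l) = ν l) (hdeg : ¬ p ∣ charDegree χ₀)
    (hcen : q.ker ≤ Subgroup.center X) (c : q.ker →* ℂˣ)
    (hc : ∀ z : q.ker, χ₀ z = χ₀ 1 * (c z : ℂ)) :
    cnt p j ν = cnt p (π.comp q.ker.subtype) (fun z => ((c⁻¹ z : ℂˣ) : ℂ)) := by
  classical
  haveI := Fintype.ofFinite X
  haveI := Fintype.ofFinite Y
  haveI := Fintype.ofFinite G
  haveI := Fintype.ofFinite L
  haveI : Fintype π.ker := Fintype.ofFinite _
  let e : L ≃* π.ker := (MonoidHom.ofInjective hℓ).trans (MulEquiv.subgroupCongr hker.symm)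
  have he : ∀ l, ((e l : π.ker) : X) = ℓ l := fun l => rfl
  have hi : IsIrrCharacter π.ker (fun n : π.ker => χ₀ n) := by
    have h := IsIrr.comp_mulEquiv e.symm hν
    have h' : (fun n : π.ker => χ₀ n) = fun n => ν (e.symm n) := funext fun n => by
      rw [← hres, ← he, e.apply_symm_apply]
    rwa [h']
  have hcenY : ∀ z : q.ker, (π.comp q.ker.subtype) z ∈ Subgroup.center Y := by
    intro z
    refine Subgroup.mem_center_iff.mpr fun y => ?_
    obtain ⟨x, rfl⟩ := hπ y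
    show π x * π z = π z * π x
    rw [← map_mul, ← map_mul, Subgroup.mem_center_iff.mp (hcen z.2) x]
  have hc1 : ∀ z : q.ker, (c z : ℂ) * ((c⁻¹ z : ℂˣ) : ℂ) = 1 := fun z => by
    rw [MonoidHom.inv_apply, Units.mul_inv]
  let ζ : q.ker →* ℂˣ := c⁻¹
  let A := {β : IrrCharacter Y //
    ¬ p ∣ charDegree (β : Y → ℂ) ∧ Lies (π.comp q.ker.subtype) (fun z => (ζ z : ℂ)) (β : Y → ℂ)}
  have hprod : ∀ β : IrrCharacter Y, IsIrrCharacter X (fun x => χ₀ x * (β : Y → ℂ) (π x)) :=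
    fun β => RelGal.isIrr_prod π hπ hχ₀ hi β.2
  have hβz : ∀ (β : A) (z : q.ker), χ₀ z * (β.1 : Y → ℂ) (π z) = χ₀ 1 * (β.1 : Y → ℂ) (π 1) := by
    intro β z
    have h := (lies_central_iff β.1.2 _ hcenY ζ).mp β.2.2 z
    rw [map_one, hc z, show (β.1 : Y → ℂ) (π z) = _ from h]
    calc _ = χ₀ 1 * (β.1 : Y → ℂ) 1 * ((c z : ℂ) * ((ζ z : ℂˣ) : ℂ)) := by ring
      _ = _ := by rw [hc1, mul_one]
  have hfac : ∀ β : A, ∃ χ : IrrCharacter G, ∀ x, (χ : G → ℂ) (q x) = χ₀ x * (β.1 : Y → ℂ) (π x) := by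
    intro β
    obtain ⟨χ, hχ, hχe⟩ := IsIrr.exists_factor (hprod β.1) q hq fun z hz => hβz β ⟨z, hz⟩
    exact ⟨⟨χ, hχ⟩, hχe⟩
  choose Φ hΦ using hfac
  have hd0 : χ₀ 1 = (charDegree χ₀ : ℂ) := charDeg_spec' ⟨χ₀, hχ₀⟩
  have hdegΦ : ∀ β : A, charDegree (Φ β : G → ℂ) = charDegree χ₀ * charDegree (β.1 : Y → ℂ) := by
    intro β
    refine charDegree_of_eq ?_
    rw [← map_one q, hΦ, map_one, hd0, charDeg_spec' β.1, Nat.cast_mul]
  have hmem : ∀ β : A, ¬ p ∣ charDegree (Φ β : G → ℂ) ∧ Lies j ν (Φ β : G → ℂ) := by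
    intro β
    refine ⟨by rw [hdegΦ, (Fact.out : p.Prime).dvd_mul, not_or]; exact ⟨hdeg, β.2.1⟩, ?_⟩
    rw [lies_iff]
    have e1 : (fun l => (Φ β : G → ℂ) (j l)) = (β.1 : Y → ℂ) 1 • ν := funext fun l => by
      have hl : π (ℓ l) = 1 := MonoidHom.mem_ker.mp (hker ▸ ⟨l, rfl⟩)
      rw [← hj, hΦ, hres, hl, Pi.smul_apply, smul_eq_mul, mul_comm]
    rw [e1, classInner_smul_left, classInner_self_irr hν, mul_one]
    exact irr_one_ne_zero β.1
  refine (Nat.card_eq_of_bijective (fun β : A =>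
    (⟨Φ β, hmem β⟩ : {χ : IrrCharacter G // ¬ p ∣ charDegree (χ : G → ℂ) ∧ Lies j ν (χ : G → ℂ)}))
    ⟨?_, ?_⟩).symm
  · intro β β' h
    have h' : (Φ β : G → ℂ) = (Φ β' : G → ℂ) := congrArg (fun t => (t.1 : G → ℂ)) h
    have h2 : (fun x => χ₀ x * (β.1 : Y → ℂ) (π x)) = fun x => χ₀ x * (β'.1 : Y → ℂ) (π x) :=
      funext fun x => by rw [← hΦ, ← hΦ, h']
    have h3 := RelGal.inner_prod π hπ hχ₀ hi (β.1 : Y → ℂ) (β'.1 : Y → ℂ)
    rw [h2, classInner_self_irr (hprod β'.1)] at h3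
    exact Subtype.ext (Subtype.ext (eq_of_constituent_irr β.1.2 β'.1.2
      (by rw [← h3]; exact one_ne_zero)))
  · rintro ⟨χ, hp, hl⟩
    have hψ : IsIrrCharacter X (fun x => (χ : G → ℂ) (q x)) := IsIrr.comp_surjective q hq χ.2
    have hne : classInner (fun n : π.ker => (fun x => (χ : G → ℂ) (q x)) n)
        (fun n : π.ker => χ₀ n) ≠ 0 := by
      rw [← classInner_comp_surjective e.toMonoidHom e.surjective]
      rw [lies_iff] at hl
      have e1 : (fun l => χ₀ ((e.toMonoidHom l : π.ker) : X)) = ν := funext hres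
      rw [e1]
      have e2 : (fun l => (χ : G → ℂ) (q ((e.toMonoidHom l : π.ker) : X))) =
          fun l => (χ : G → ℂ) (j l) := funext fun l => congrArg _ (hj l)
      rw [e2]
      exact hl
    obtain ⟨β, hβ⟩ := RelGal.exists_factor_of_over π hπ hχ₀ hi hψ hne
    have h1 : (χ : G → ℂ) 1 = χ₀ 1 * (β : Y → ℂ) 1 := by
      simpa using congrFun hβ 1
    have hβp : ¬ p ∣ charDegree (β : Y → ℂ) := fun h => hp (by
      rw [charDegree_of_eq (n := charDegree χ₀ * charDegree (β : Y → ℂ))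
        (by rw [h1, hd0, charDeg_spec' β, Nat.cast_mul])]
      exact h.mul_left _)
    have hβl : Lies (π.comp q.ker.subtype) (fun z => (ζ z : ℂ)) (β : Y → ℂ) := by
      refine (lies_central_iff β.2 _ hcenY ζ).mpr fun z => ?_
      have h2 := congrFun hβ (z : X)
      simp only [MonoidHom.mem_ker.mp z.2] at h2
      rw [h1, hc z] at h2
      refine mul_left_cancel₀ (mul_ne_zero (IsIrr.one_ne_zero hχ₀) (c z).ne_zero) ?_
      show _ * (β : Y → ℂ) (π z) = _
      rw [← h2]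
      calc χ₀ 1 * (β : Y → ℂ) 1 = χ₀ 1 * (β : Y → ℂ) 1 * ((c z : ℂ) * ((ζ z : ℂˣ) : ℂ)) := by
            rw [hc1, mul_one]
        _ = _ := by ring
    refine ⟨⟨β, hβp, hβl⟩, Subtype.ext (Subtype.ext (funext fun g => ?_))⟩
    obtain ⟨x, rfl⟩ := hq g
    show (Φ _ : G → ℂ) (q x) = (χ : G → ℂ) (q x)
    rw [hΦ]
    exact (congrFun hβ x).symm

/-- The reduction of the count over an invariant character to a central subgroup. -/
theorem exists_reduction [Fact p.Prime] {G : Type u} [Group G] [Finite G] (L : Subgroup G)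
    [L.Normal] (S : Sylow p G) (ν : IrrCharacter L) (hd : ¬ p ∣ charDegree (ν : L → ℂ))
    (hinv : ∀ (g : G) (l : L), (ν : L → ℂ) (conjEquivN L g l) = (ν : L → ℂ) l)
    (hN : L ≤ Subgroup.normalizer ((L ⊔ (S : Subgroup G) : Subgroup G) : Set G))
    (hsolv : IsPSolvable p (G ⧸ L)) :
    ∃ (Y : Type u) (_ : Group Y) (_ : Finite Y) (Z : Subgroup Y) (_ : Z.Normal) (T : Sylow p Y)
      (ζ : Z →* ℂˣ) (hZN : Z ≤ Subgroup.normalizer ((Z ⊔ (T : Subgroup Y) : Subgroup Y) : Set Y)),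
      Z ≤ Subgroup.center Y ∧ Z.index = L.index ∧ IsPSolvable p (Y ⧸ Z) ∧
      cnt p L.subtype (ν : L → ℂ) = cnt p Z.subtype (fun z => (ζ z : ℂ)) ∧
      cnt p (Subgroup.inclusion hN) (ν : L → ℂ) =
        cnt p (Subgroup.inclusion hZN) (fun z => (ζ z : ℂ)) := by
  classical
  obtain ⟨k, ρ, hρ, hρc, -, -⟩ := IsIrr.exists_rep ν.2
  haveI := hρ
  have hinv' : ∀ (g : G) (m : L), ρ.character (conjEquivN L g m) = ρ.character m := fun g m => by
    rw [hρc]; exact hinv g m
  haveI := Ext.finite_cover L ρ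
  haveI := Ext.coverRep_irreducible L ρ
  set q := Ext.coverFst L ρ with hqdef
  set ℓ := Ext.coverEmb L ρ with hℓdef
  have hq : Function.Surjective q := Ext.coverFst_surjective L ρ hinv'
  have hql : ∀ l : L, q (ℓ l) = (l : G) := fun l => Ext.coverFst_emb L ρ l
  have hℓ : Function.Injective ℓ := fun a b h => Subtype.ext (by rw [← hql a, ← hql b, h])
  let X := Ext.cover L ρ
  haveI : ℓ.range.Normal := Ext.embRange_normal L ρ
  let π : X →* X ⧸ ℓ.range := QuotientGroup.mk' ℓ.range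
  have hπ : Function.Surjective π := QuotientGroup.mk'_surjective _
  have hker : π.ker = ℓ.range := QuotientGroup.ker_mk' _
  have hcen : q.ker ≤ Subgroup.center X := Ext.ker_central L ρ
  set χ₀ : X → ℂ := (Ext.coverRep L ρ).character with hχ₀def
  have hχ₀ : IsIrrCharacter X χ₀ := isIrrCharacter_character _
  have hres : ∀ l : L, χ₀ (ℓ l) = (ν : L → ℂ) l := fun l => by
    rw [← hρc]; rfl
  have hdeg : ¬ p ∣ charDegree χ₀ := by
    have e : charDegree χ₀ = charDegree (ν : L → ℂ) := charDegree_of_eq (by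
      rw [← map_one ℓ, hres]; exact charDeg_spec' ν)
    rwa [e]
  obtain ⟨c, hc⟩ := exists_central_hom hχ₀ q.ker.subtype fun z => hcen z.2
  -- the central subgroup
  let Z : Subgroup (X ⧸ ℓ.range) := q.ker.map π
  have hZc : Z ≤ Subgroup.center (X ⧸ ℓ.range) := by
    rintro _ ⟨z, hz, rfl⟩
    refine Subgroup.mem_center_iff.mpr fun y => ?_
    obtain ⟨x, rfl⟩ := hπ y
    rw [← map_mul, ← map_mul, Subgroup.mem_center_iff.mp (hcen hz) x]
  have hZn : Z.Normal := (Subgroup.Normal.map inferInstance π hπ : _)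
  let iZ : q.ker →* Z := (π.comp q.ker.subtype).codRestrict Z fun z => ⟨z, z.2, rfl⟩
  have hiZ : Function.Bijective iZ := by
    refine ⟨(injective_iff_map_eq_one _).mpr fun z hz => ?_, ?_⟩
    · have h1 : (z : X) ∈ π.ker := MonoidHom.mem_ker.mpr (congrArg Subtype.val hz)
      rw [hker] at h1
      obtain ⟨l, hl⟩ := h1
      have : l = 1 := Subtype.ext (by
        rw [← hql l, hl]; exact MonoidHom.mem_ker.mp z.2)
      subst this
      exact Subtype.ext (by rw [← hl, map_one]; rfl)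
    · rintro ⟨_, z, hz, rfl⟩
      exact ⟨⟨z, hz⟩, rfl⟩
  let eZ : q.ker ≃* Z := MulEquiv.ofBijective iZ hiZ
  let ζ : Z →* ℂˣ := c⁻¹.comp eZ.symm.toMonoidHom
  have hζ : ∀ z : q.ker, ((c⁻¹ z : ℂˣ) : ℂ) = (ζ (eZ z) : ℂ) := fun z => by
    show _ = ((c⁻¹ (eZ.symm (eZ z)) : ℂˣ) : ℂ)
    rw [eZ.symm_apply_apply]
  have hLmap : ℓ.range.map q = L := by
    rw [MonoidHom.map_range, show q.comp ℓ = L.subtype from MonoidHom.ext hql,
      Subgroup.range_subtype]
  have hLcomap : L.comap q = ℓ.range ⊔ q.ker := by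
    exact (congrArg (Subgroup.comap q) hLmap).symm.trans (Subgroup.comap_map_eq _ _)
  have hZcomap : Z.comap π = q.ker ⊔ ℓ.range := by
    rw [Subgroup.comap_map_eq, hker]
  have hidx : Z.index = L.index := by
    rw [← Subgroup.index_comap_of_surjective Z hπ, ← Subgroup.index_comap_of_surjective L hq,
      hZcomap, hLcomap, sup_comm]
  have hsolvY : IsPSolvable p ((X ⧸ ℓ.range) ⧸ Z) := by
    haveI := hZn
    let f : X →* (X ⧸ ℓ.range) ⧸ Z := (QuotientGroup.mk' Z).comp π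
    have hf : q.ker ≤ f.ker := fun z hz =>
      MonoidHom.mem_ker.mpr ((QuotientGroup.eq_one_iff _).mpr ⟨z, hz, rfl⟩)
    let g : G →* (X ⧸ ℓ.range) ⧸ Z := q.liftOfSurjective hq ⟨f, hf⟩
    have hg : ∀ x, g (q x) = f x := fun x =>
      MonoidHom.liftOfRightInverse_comp_apply q (Function.surjInv hq)
        (Function.rightInverse_surjInv hq) ⟨f, hf⟩ x
    have hgL : L ≤ g.ker := fun l hl => by
      rw [MonoidHom.mem_ker, show l = q (ℓ ⟨l, hl⟩) from (hql ⟨l, hl⟩).symm, hg]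
      show QuotientGroup.mk' Z (π (ℓ ⟨l, hl⟩)) = 1
      rw [MonoidHom.mem_ker.mp (le_of_eq hker.symm (show ℓ ⟨l, hl⟩ ∈ ℓ.range from ⟨_, rfl⟩)), map_one]
    refine Grp.isPSolvable_map hsolv (QuotientGroup.lift L g hgL) ?_
    intro y
    obtain ⟨y, rfl⟩ := QuotientGroup.mk'_surjective Z y
    obtain ⟨x, rfl⟩ := hπ y
    exact ⟨(q x : G ⧸ L), hg x⟩
  -- the Sylow subgroup and normalisers
  obtain ⟨SX, hSX⟩ := Sylow.mapSurjective_surjective hq p S
  have hSXc : (SX : Subgroup X).map q = (S : Subgroup G) := congrArg Sylow.toSubgroup hSX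
  let T : Sylow p (X ⧸ ℓ.range) := SX.mapSurjective hπ
  have hP : Z ⊔ (T : Subgroup (X ⧸ ℓ.range)) = (q.ker ⊔ (SX : Subgroup X)).map π := by
    rw [Subgroup.map_sup]; rfl
  have hcomapP : (Z ⊔ (T : Subgroup (X ⧸ ℓ.range))).comap π =
      (L ⊔ (S : Subgroup G)).comap q := by
    have e : L ⊔ (S : Subgroup G) = (ℓ.range ⊔ (SX : Subgroup X)).map q := by
      rw [Subgroup.map_sup, hLmap, hSXc]
    rw [hP, Subgroup.comap_map_eq, e, Subgroup.comap_map_eq, hker]
    ac_rfl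
  set NG : Subgroup G :=
    Subgroup.normalizer ((L ⊔ (S : Subgroup G) : Subgroup G) : Set G) with hNG
  set NY : Subgroup (X ⧸ ℓ.range) :=
    Subgroup.normalizer ((Z ⊔ (T : Subgroup (X ⧸ ℓ.range)) : Subgroup (X ⧸ ℓ.range)) :
      Set (X ⧸ ℓ.range)) with hNY
  have hXN : NY.comap π = NG.comap q := by
    rw [hNY, hNG, Subgroup.comap_normalizer_eq_of_surjective _ hπ,
      Subgroup.comap_normalizer_eq_of_surjective _ hq, hcomapP]
  have hZN : Z ≤ NY := le_sup_left.trans Subgroup.le_normalizer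
  refine ⟨X ⧸ ℓ.range, inferInstance, inferInstance, Z, hZn, T, ζ, hZN, hZc, hidx, hsolvY, ?_, ?_⟩
  · rw [cnt_triple q hq π hπ ℓ hℓ hker L.subtype hql hχ₀ ν.2 hres hdeg hcen c hc]
    exact cnt_congr (MulEquiv.refl _) eZ Z.subtype _ (fun _ => rfl) hζ
  · let XN : Subgroup X := NG.comap q
    let qN : XN →* NG := (q.comp XN.subtype).codRestrict NG fun x => x.2
    let πN : XN →* NY := (π.comp XN.subtype).codRestrict NY fun x =>
      (show (x : X) ∈ NY.comap π by rw [hXN]; exact x.2)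
    have hℓN : ∀ l : L, ℓ l ∈ XN := fun l => by
      show q (ℓ l) ∈ NG
      rw [hql]; exact hN l.2
    let ℓN : L →* XN := ℓ.codRestrict XN hℓN
    have hqN : Function.Surjective qN := by
      rintro ⟨g, hg⟩
      obtain ⟨x, rfl⟩ := hq g
      exact ⟨⟨x, hg⟩, rfl⟩
    have hπN : Function.Surjective πN := by
      rintro ⟨y, hy⟩
      obtain ⟨x, rfl⟩ := hπ y
      exact ⟨⟨x, by show x ∈ NG.comap q; rw [← hXN]; exact hy⟩, rfl⟩
    have hkerN : πN.ker = ℓN.range := by
      ext x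
      constructor
      · intro hx
        have h1 : (x : X) ∈ π.ker :=
          MonoidHom.mem_ker.mpr (congrArg Subtype.val (MonoidHom.mem_ker.mp hx))
        rw [hker] at h1
        obtain ⟨l, hl⟩ := h1
        exact ⟨l, Subtype.ext hl⟩
      · rintro ⟨l, rfl⟩
        exact MonoidHom.mem_ker.mpr (Subtype.ext
          (MonoidHom.mem_ker.mp (le_of_eq hker.symm (show ℓ l ∈ ℓ.range from ⟨l, rfl⟩))))
    have hqk : ∀ x : qN.ker, ((x : XN) : X) ∈ q.ker := fun x =>
      MonoidHom.mem_ker.mpr (congrArg Subtype.val (MonoidHom.mem_ker.mp x.2))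
    let iK : qN.ker →* q.ker := (XN.subtype.comp qN.ker.subtype).codRestrict q.ker hqk
    have hiK : Function.Bijective iK := by
      refine ⟨fun a b h => Subtype.ext (Subtype.ext (congrArg Subtype.val h :)), fun z => ?_⟩
      have hz : (z : X) ∈ XN := by
        show q z ∈ NG
        rw [MonoidHom.mem_ker.mp z.2]; exact one_mem _
      exact ⟨⟨⟨z, hz⟩, MonoidHom.mem_ker.mpr (Subtype.ext (MonoidHom.mem_ker.mp z.2))⟩, rfl⟩
    have hcenN : qN.ker ≤ Subgroup.center XN := fun x hx =>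
      Subgroup.mem_center_iff.mpr fun y => Subtype.ext
        (Subgroup.mem_center_iff.mp (hcen (hqk ⟨x, hx⟩)) y)
    have hirrN : IsIrrCharacter XN (fun x => χ₀ x) := by
      haveI := Fintype.ofFinite XN
      haveI := Fintype.ofFinite L
      exact RelGal.irr_of_res_irr ℓN (IsChar.comp XN.subtype (IsIrr.isCharacter hχ₀))
        (by
          have : (fun n => χ₀ ((ℓN n : XN) : X)) = (ν : L → ℂ) := funext hres
          exact this.symm ▸ ν.2)
    rw [cnt_triple qN hqN πN hπN ℓN (fun a b h => hℓ (congrArg Subtype.val h)) hkerN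
      (Subgroup.inclusion hN) (fun l => Subtype.ext (hql l)) hirrN ν.2 hres hdeg hcenN
      (c.comp iK) (fun x => hc (iK x))]
    refine cnt_congr (MulEquiv.refl _) ((MulEquiv.ofBijective iK hiK).trans eZ)
      (Subgroup.inclusion hZN) _ (fun x => Subtype.ext rfl) fun x => ?_
    exact hζ (iK x)

end Cfsg.Agent.Block.RelMcKay
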