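import Cfsg.Agent.Lib.Block.RelMcKay.Final
import Cfsg.Agent.Lib.Block.RelMcKay.Triple
import Cfsg.Agent.Lib.Block.PPartDerived

/-!
# The relative McKay count for groups that are `p`-soluble over the normal subgroup

Induction on the index of the normal subgroup: reduction to the inertia subgroup, to a central
character, and then one step through a `p`- or `p'`-chief factor.
-/

set_option autoImplicit false
set_option linter.style.haveILetI false
set_option linter.unusedSectionVars false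

open scoped ComplexConjugate Pointwise

namespace Cfsg.Agent.Block.RelMcKay

open Cfsg Cfsg.Agent.Char Cfsg.Agent.Block

universe u

/-- The count for all groups in which the normal subgroup has index at most `n`. -/
def Count (p n : ℕ) : Prop :=
  ∀ (G : Type u) [Group G] [Finite G] (L : Subgroup G) [L.Normal] (S : Sylow p G) (ν : L → ℂ),
    IsIrrCharacter L ν → L ⊔ (S : Subgroup G) ≤ St L ν → IsPSolvable p (G ⧸ L) → L.index ≤ n →
    ∀ hLN : L ≤ Subgroup.normalizer ((L ⊔ (S : Subgroup G) : Subgroup G) : Set G),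
      cnt p L.subtype ν = cnt p (Subgroup.inclusion hLN) ν

variable {p : ℕ} [hp : Fact p.Prime] {G : Type u} [Group G] [Finite G]

theorem isPSolvable_subgroup_quotient (L : Subgroup G) [L.Normal] (M : Subgroup G)
    [(L.subgroupOf M).Normal] (hsolv : IsPSolvable p (G ⧸ L)) :
    IsPSolvable p (M ⧸ L.subgroupOf M) := by
  let φ : M →* G ⧸ L := (QuotientGroup.mk' L).comp M.subtype
  have hker : φ.ker = L.subgroupOf M := by
    ext x
    exact (QuotientGroup.eq_one_iff (x : G)).trans Subgroup.mem_subgroupOf.symm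
  exact Grp.isPSolvable_map (PPartDerived.isPSolvable_subgroup hsolv φ.range)
    (((QuotientGroup.quotientMulEquivOfEq hker.symm).trans
      (QuotientGroup.quotientKerEquivRange φ)).symm).toMonoidHom (MulEquiv.surjective _)

/-- The induction hypothesis, applied to a subgroup. -/
theorem count_sub {n : ℕ} (IH : ∀ m < n, Count.{u} p m) (L : Subgroup G) [L.Normal]
    (S : Sylow p G) {ν : L → ℂ} (hν : IsIrrCharacter L ν) (hst : L ⊔ (S : Subgroup G) ≤ St L ν)
    (hsolv : IsPSolvable p (G ⧸ L)) {M : Subgroup G} (hLM : L ≤ M) (hSM : (S : Subgroup G) ≤ M)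
    (hidx : L.relIndex M < n)
    (hLN : L ≤ Subgroup.normalizer ((L ⊔ (S : Subgroup G) : Subgroup G) : Set G)) :
    cnt p (Subgroup.inclusion hLM) ν = cnt p (Subgroup.inclusion (le_inf hLM hLN)) ν := by
  haveI : (L.subgroupOf M).Normal := inferInstance
  have hP : L.subgroupOf M ⊔ ((S.subtype hSM : Sylow p M) : Subgroup M) =
      (L ⊔ (S : Subgroup G)).subgroupOf M := (Subgroup.subgroupOf_sup hLM hSM).symm
  have hn : M ≤ Subgroup.normalizer (L : Set G) := by
    rw [Subgroup.normalizer_eq_top]; exact le_top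
  have hst' : L.subgroupOf M ⊔ ((S.subtype hSM : Sylow p M) : Subgroup M) ≤
      St (L.subgroupOf M) (resOf hLM ν) := by
    rw [hP]
    intro x hx
    have hx' : (x : G) ∈ St L ν := hst hx
    refine ⟨by rw [Subgroup.normalizer_eq_top]; trivial, funext fun y => ?_⟩
    have hxn : x ∈ Subgroup.normalizer ((L.subgroupOf M : Subgroup M) : Set M) := by
      rw [Subgroup.normalizer_eq_top]; trivial
    rw [cj_apply hxn]
    show _ = ν (Subgroup.subgroupOfEquivOfLe hLM y)
    conv_rhs => rw [← hx'.2, cj_apply hx'.1]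
    rfl
  have hLN' : L.subgroupOf M ≤ Subgroup.normalizer
      ((L.subgroupOf M ⊔ ((S.subtype hSM : Sylow p M) : Subgroup M) : Subgroup M) : Set M) :=
    le_sup_left.trans Subgroup.le_normalizer
  have h := IH (L.subgroupOf M).index hidx M (L.subgroupOf M) (S.subtype hSM) (resOf hLM ν)
    (irr_resOf hLM hν) hst' (isPSolvable_subgroup_quotient L M hsolv) le_rfl hLN'
  have e : Subgroup.normalizer
      ((L.subgroupOf M ⊔ ((S.subtype hSM : Sylow p M) : Subgroup M) : Subgroup M) : Set M) =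
      (Subgroup.normalizer ((L ⊔ (S : Subgroup G) : Subgroup G) : Set G)).subgroupOf M := by
    rw [hP, Subgroup.subgroupOf_normalizer_eq (sup_le hLM hSM)]
  have hle : L.subgroupOf M ≤
      (Subgroup.normalizer ((L ⊔ (S : Subgroup G) : Subgroup G) : Set G)).subgroupOf M :=
    e ▸ hLN'
  rw [cnt_subtype_resOf, cnt_incl_eq e hLN' hle, cnt_subgroupOf hLM hLN hle] at h
  exact h

/-- A character over `θ` determines the values of `θ` on a central subgroup. -/
theorem lies_central_down {Z K W : Subgroup G} (hZc : Z ≤ Subgroup.center G) (hZK : Z ≤ K)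
    (hKW : K ≤ W) (ζ : Z →* ℂˣ) {χ : W → ℂ} (hχ : IsIrrCharacter W χ) {θ : K → ℂ}
    (hθ : IsIrrCharacter K θ) (h : Lies (Subgroup.inclusion hKW) θ χ)
    (hζ : Lies (Subgroup.inclusion (hZK.trans hKW)) (fun z => (ζ z : ℂ)) χ) :
    Lies (Subgroup.inclusion hZK) (fun z => (ζ z : ℂ)) θ := by
  have hcK : ∀ z : Z, Subgroup.inclusion hZK z ∈ Subgroup.center K := fun z =>
    Subgroup.mem_center_iff.mpr fun y => Subtype.ext (Subgroup.mem_center_iff.mp (hZc z.2) y)
  obtain ⟨μ, hμ⟩ := exists_central_hom hθ (Subgroup.inclusion hZK) hcK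
  have h1 : Lies (Subgroup.inclusion (hZK.trans hKW)) (fun z => (μ z : ℂ)) χ :=
    lies_trans (j := Subgroup.inclusion hZK) (IsIrr.isCharacter hχ) hθ h
      (IsIrr.isCharacter (isIrr_linear μ)) ((lies_central_iff hθ _ hcK μ).mpr hμ)
  refine (lies_central_iff hθ _ hcK ζ).mpr fun z => ?_
  rw [lies_val_iff hZc _ ζ hχ] at hζ
  rw [lies_val_iff hZc _ μ hχ] at h1
  rw [hμ z, mul_left_cancel₀ (IsIrr.one_ne_zero hχ) ((h1 z).symm.trans (hζ z))]

open scoped Classical in
/-- The characters of `K` of degree prime to `p`, over `ζ`, fixed by `P`. -/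
noncomputable def InvOver (p : ℕ) {Z K : Subgroup G} (hZK : Z ≤ K) (P : Subgroup G)
    (ζ : Z →* ℂˣ) : Finset (IrrCharacter K) :=
  haveI : Fintype (IrrCharacter K) := Fintype.ofFinite _
  Finset.univ.filter fun θ => ¬ p ∣ charDegree (θ : K → ℂ) ∧ P ≤ St K (θ : K → ℂ) ∧
    Lies (Subgroup.inclusion hZK) (fun z => (ζ z : ℂ)) (θ : K → ℂ)

theorem mem_InvOver {Z K : Subgroup G} (hZK : Z ≤ K) (P : Subgroup G) (ζ : Z →* ℂˣ)
    (θ : IrrCharacter K) :
    θ ∈ InvOver p hZK P ζ ↔ ¬ p ∣ charDegree (θ : K → ℂ) ∧ P ≤ St K (θ : K → ℂ) ∧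
      Lies (Subgroup.inclusion hZK) (fun z => (ζ z : ℂ)) (θ : K → ℂ) := by
  simp [InvOver]

/-- Counting through a normal subgroup `K` in a subgroup `W` containing `N(ZS)`. -/
theorem count_through {Z : Subgroup G} [Z.Normal] (hZc : Z ≤ Subgroup.center G) (ζ : Z →* ℂˣ)
    (S : Sylow p G) {K : Subgroup G} [K.Normal] (hZK : Z ≤ K) {W : Subgroup G} (hKW : K ≤ W)
    (hHW : Subgroup.normalizer ((Z ⊔ (S : Subgroup G) : Subgroup G) : Set G) ≤ W) :
    cnt p (Subgroup.inclusion (hZK.trans hKW)) (fun z => (ζ z : ℂ)) *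
        Nat.card ↥(Subgroup.normalizer ((Z ⊔ (S : Subgroup G) : Subgroup G) : Set G)) =
      ∑ θ ∈ InvOver p hZK (Z ⊔ (S : Subgroup G)) ζ,
        cnt p (Subgroup.inclusion hKW) (θ : K → ℂ) *
          Nat.card ↥(Subgroup.normalizer ((Z ⊔ (S : Subgroup G) : Subgroup G) : Set G) ⊓
            St K (θ : K → ℂ)) := by
  classical
  have hKn : ∀ g : G, g ∈ Subgroup.normalizer (K : Set G) := fun g => by
    rw [Subgroup.normalizer_eq_top]; trivial
  have hWn : W ≤ Subgroup.normalizer (K : Set G) := fun g _ => hKn g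
  have hSW : (S : Subgroup G) ≤ W :=
    le_sup_right.trans (Subgroup.le_normalizer.trans hHW)
  have hcK : ∀ {θ : K → ℂ}, IsIrrCharacter K θ →
      (Lies (Subgroup.inclusion hZK) (fun z => (ζ z : ℂ)) θ ↔
        ∀ z : Z, θ (Subgroup.inclusion hZK z) = θ 1 * (ζ z : ℂ)) := fun hθ =>
    lies_val_iff hZc hZK ζ hθ
  refine transfer hKW (hZK.trans hKW) hHW (fun g _ => hKn g) _ _ ?_ ?_ ?_ ?_
  · intro h hh θ hθ
    obtain ⟨hd, hP, hl⟩ := (mem_InvOver hZK _ ζ θ).mp hθ
    refine ⟨⟨_, irr_cj (hKn h) θ.2⟩, (mem_InvOver hZK _ ζ _).mpr ⟨?_, ?_, ?_⟩, rfl⟩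
    · show ¬ p ∣ charDegree (cj K h (θ : K → ℂ))
      rwa [charDegree_cj (hKn h)]
    · intro x hx
      refine ⟨hKn x, ?_⟩
      show cj K x (cj K h (θ : K → ℂ)) = cj K h (θ : K → ℂ)
      rw [← cj_mul _ (hKn x), show h * x = h * x * h⁻¹ * h by group, cj_mul _ (hKn h),
        (hP (conj_mem hh hx)).2]
    · refine (hcK (irr_cj (hKn h) θ.2)).mpr fun z => ?_
      show cj K h (θ : K → ℂ) (Subgroup.inclusion hZK z) = cj K h (θ : K → ℂ) 1 * (ζ z : ℂ)
      rw [cj_one_apply (hKn h), ← (hcK θ.2).mp hl z, cj_apply (hKn h)]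
      refine congrArg (θ : K → ℂ) (Subtype.ext ?_)
      show h * (z : G) * h⁻¹ = z
      rw [Subgroup.mem_center_iff.mp (hZc z.2) h, mul_inv_cancel_right]
  · intro θ hθ χ hl
    exact lies_trans (j := Subgroup.inclusion hZK) (irr_isChar χ) θ.2 hl
      (IsIrr.isCharacter (isIrr_linear ζ)) ((mem_InvOver hZK _ ζ θ).mp hθ).2.2
  · intro χ hχ hζ
    have hRW : K ⊔ (S : Subgroup G) ≤ W := sup_le hKW hSW
    haveI := Fintype.ofFinite ↥(K ⊔ (S : Subgroup G))
    obtain ⟨ψ, hψ, hψp⟩ := PPrime.exists_constituent_pPrime (p := p)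
      (IsChar.comp (Subgroup.inclusion hRW) (irr_isChar χ)) (d := charDegree (χ : W → ℂ))
      (by rw [map_one]; exact charDeg_spec' χ) hχ
    obtain ⟨k, hk⟩ : ∃ k, K.relIndex (K ⊔ (S : Subgroup G)) = p ^ k := by
      obtain ⟨j, hj⟩ := IsPGroup.iff_card.mp S.isPGroup'
      have hd : K.relIndex (K ⊔ (S : Subgroup G)) ∣ p ^ j := by
        rw [sup_comm, Subgroup.relIndex_sup_right, ← hj]
        exact (K.subgroupOf (S : Subgroup G)).index_dvd_card
      obtain ⟨k, -, hk⟩ := (Nat.dvd_prime_pow hp.out).mp hd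
      exact ⟨k, hk⟩
    obtain ⟨hθ, hθR⟩ := res_irr_of_pPrime (le_sup_left : K ≤ K ⊔ (S : Subgroup G))
      (fun g _ => hKn g) hk ψ.2 hψp
    have hl1 : Lies (Subgroup.inclusion hRW) (ψ : _ → ℂ) (χ : W → ℂ) := (lies_iff _ _ _).mpr hψ
    haveI := Fintype.ofFinite K
    have hl2 : Lies (Subgroup.inclusion (le_sup_left : K ≤ K ⊔ (S : Subgroup G)))
        (resTo le_sup_left (ψ : ↥(K ⊔ (S : Subgroup G)) → ℂ)) (ψ : _ → ℂ) := by
      rw [lies_iff]
      show classInner (resTo le_sup_left (ψ : ↥(K ⊔ (S : Subgroup G)) → ℂ))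
        (resTo le_sup_left (ψ : ↥(K ⊔ (S : Subgroup G)) → ℂ)) ≠ 0
      rw [classInner_self_irr hθ]
      exact one_ne_zero
    have hl3 : Lies (Subgroup.inclusion hKW)
        (resTo le_sup_left (ψ : ↥(K ⊔ (S : Subgroup G)) → ℂ)) (χ : W → ℂ) :=
      lies_trans (j := Subgroup.inclusion (le_sup_left : K ≤ K ⊔ (S : Subgroup G)))
        (irr_isChar χ) ψ.2 hl1 (IsIrr.isCharacter hθ) hl2
    refine ⟨⟨_, hθ⟩, (mem_InvOver hZK _ ζ _).mpr ⟨?_, ?_, ?_⟩, hl3⟩
    · intro hd
      refine hψp ?_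
      simpa [charDegree, resTo] using hd
    · exact (sup_le_sup_right hZK _).trans hθR
    · exact lies_central_down hZc hZK hKW ζ χ.2 hθ hl3 hζ
  · intro χ _ θ hθ θ' hθ' h h'
    obtain ⟨g, hg, he⟩ := exists_cj_of_lies hKW hWn χ.2 θ.2 θ'.2 h h'
    have hS1 : (S : Subgroup G) ≤ St K (θ : K → ℂ) ⊓ W :=
      le_inf (le_sup_right.trans ((mem_InvOver hZK _ ζ θ).mp hθ).2.1) hSW
    have hS2 : ((g • S : Sylow p G) : Subgroup G) ≤ St K (θ : K → ℂ) ⊓ W := by
      intro x hx
      rw [Sylow.coe_subgroup_smul] at hx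
      obtain ⟨s, hs, rfl⟩ := hx
      show g * s * g⁻¹ ∈ St K (θ : K → ℂ) ⊓ W
      refine Subgroup.mem_inf.mpr ⟨⟨hKn _, ?_⟩, mul_mem (mul_mem hg (hSW hs)) (inv_mem hg)⟩
      rw [cj_mul _ (hKn g⁻¹), cj_mul _ (hKn s), he,
        (((mem_InvOver hZK _ ζ θ').mp hθ').2.1 (Subgroup.mem_sup_right hs)).2, ← he,
        cj_inv_cancel (hKn g)]
    obtain ⟨t, ht⟩ := MulAction.exists_smul_eq ↥(St K (θ : K → ℂ) ⊓ W)
      ((g • S).subtype hS2) (S.subtype hS1)
    rw [Sylow.smul_subtype] at ht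
    have ht' : (t : G) • (g • S) = S := Sylow.subtype_injective ht
    rw [smul_smul, Sylow.smul_eq_iff_mem_normalizer] at ht'
    refine ⟨(t : G) * g, mem_normalizer_sup (by rw [Subgroup.normalizer_eq_top]; trivial) ht', ?_⟩
    rw [cj_mul _ (hKn g), (Subgroup.mem_inf.mp t.2).1.2, he]

/-- The count over a central character. -/
theorem count_central {n : ℕ} (IH : ∀ m < n, Count.{u} p m) (Z : Subgroup G) [Z.Normal]
    (hZc : Z ≤ Subgroup.center G) (S : Sylow p G) (ζ : Z →* ℂˣ)
    (hsolv : IsPSolvable p (G ⧸ Z)) (hidx : Z.index ≤ n)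
    (hZN : Z ≤ Subgroup.normalizer ((Z ⊔ (S : Subgroup G) : Subgroup G) : Set G)) :
    cnt p Z.subtype (fun z => (ζ z : ℂ)) =
      cnt p (Subgroup.inclusion hZN) (fun z => (ζ z : ℂ)) := by
  classical
  set N := Subgroup.normalizer ((Z ⊔ (S : Subgroup G) : Subgroup G) : Set G) with hN
  by_cases htop : N = ⊤
  · rw [← cnt_top (K := Z), cnt_incl_eq htop hZN le_top]
  -- the chief step
  let q := QuotientGroup.mk' Z
  have hq : Function.Surjective q := QuotientGroup.mk'_surjective Z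
  haveI := Grp.pCore_isNormal (p := p) (G := G ⧸ Z)
  haveI := Grp.pPrimeCore_isNormal (p := p) (G := G ⧸ Z)
  obtain ⟨B, hBn, hB0, hB⟩ : ∃ B : Subgroup (G ⧸ Z), B.Normal ∧ B ≠ ⊥ ∧
      (IsPGroup p B ∨ ¬ p ∣ Nat.card B) := by
    by_cases h1 : Cfsg.pPrimeCore p (G ⧸ Z) = ⊥
    · refine ⟨Cfsg.pCore p (G ⧸ Z), inferInstance, fun h2 => htop ?_,
        Or.inl Grp.pCore_isPGroup⟩
      have hZtop : Z = ⊤ := by
        have h3 := congrArg (Subgroup.comap q) (Grp.isPSolvable_eq_top_of_cores hsolv h2 h1)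
        rw [Subgroup.comap_top, MonoidHom.comap_bot, QuotientGroup.ker_mk'] at h3
        exact h3.symm
      rw [hN, show Z ⊔ (S : Subgroup G) = ⊤ by rw [hZtop, top_sup_eq]]
      exact Subgroup.normalizer_eq_top _
    · exact ⟨_, inferInstance, h1, Or.inr Grp.pPrimeCore_not_dvd⟩
  set K := B.comap q with hK
  haveI : K.Normal := hBn.comap q
  have hZK : Z ≤ K := by
    intro z hz
    show q z ∈ B
    rw [show q z = 1 from (QuotientGroup.eq_one_iff z).mpr hz]
    exact one_mem _
  have hKmap : K.map q = B := Subgroup.map_comap_eq_self_of_surjective hq B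
  have hKidx : K.index < n := by
    rw [hK, Subgroup.index_comap_of_surjective B hq]
    refine lt_of_lt_of_le ?_ hidx
    rw [Subgroup.index_eq_card Z, ← B.card_mul_index]
    exact lt_mul_left (Nat.pos_of_ne_zero Subgroup.index_ne_zero_of_finite)
      ((Subgroup.one_lt_card_iff_ne_bot B).mpr hB0)
  have hKsolv : IsPSolvable p (G ⧸ K) :=
    Grp.isPSolvable_map hsolv (QuotientGroup.map Z K (MonoidHom.id G) hZK)
      (QuotientGroup.map_surjective_of_surjective Z K (MonoidHom.id G)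
        (QuotientGroup.mk'_surjective K) hZK)
  set M := Subgroup.normalizer ((K ⊔ (S : Subgroup G) : Subgroup G) : Set G) with hM
  have hKM : K ≤ M := le_sup_left.trans Subgroup.le_normalizer
  have hNM : N ≤ M := fun g hg => by
    have h := mem_normalizer_sup (A := K) (B := Z ⊔ (S : Subgroup G))
      (by rw [Subgroup.normalizer_eq_top]; trivial : g ∈ Subgroup.normalizer (K : Set G)) hg
    rwa [← sup_assoc, sup_eq_left.mpr hZK] at h
  -- both counts agree between `G` and `M`
  have hGM : cnt p Z.subtype (fun z => (ζ z : ℂ)) =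
      cnt p (Subgroup.inclusion (hZK.trans hKM)) (fun z => (ζ z : ℂ)) := by
    rw [← cnt_top (K := Z)]
    refine Nat.eq_of_mul_eq_mul_right (Nat.card_pos (α := N))
      ((count_through hZc ζ S hZK (le_top : K ≤ ⊤) le_top).trans
        (Eq.trans ?_ (count_through hZc ζ S hZK hKM hNM).symm))
    refine Finset.sum_congr rfl fun θ hθ => ?_
    rw [cnt_top, IH K.index hKidx G K S (θ : K → ℂ) θ.2
      (sup_le (le_St (IsIrr.classFun θ.2))
        (le_sup_right.trans ((mem_InvOver hZK _ ζ θ).mp hθ).2.1))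
      hKsolv le_rfl hKM]
  by_cases hMtop : M = ⊤
  · have hnR : (K ⊔ (S : Subgroup G)).Normal := Subgroup.normalizer_eq_top_iff.mp hMtop
    rcases hB with hBp | hBp
    · -- a `p`-factor lies in `ZS`
      refine absurd ?_ htop
      have hKP : K ≤ Z ⊔ (S : Subgroup G) := by
        intro k hk
        have h1 : q k ∈ ((S.mapSurjective hq : Sylow p (G ⧸ Z)) : Subgroup (G ⧸ Z)) :=
          hBp.le_sylow_of_normal _ hk
        have h2 : k ∈ ((S : Subgroup G).map q).comap q := h1
        rwa [Subgroup.comap_map_eq, QuotientGroup.ker_mk', sup_comm] at h2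
      have hR : K ⊔ (S : Subgroup G) = Z ⊔ (S : Subgroup G) :=
        le_antisymm (sup_le hKP le_sup_right) (sup_le_sup_right hZK _)
      rw [hN, ← hR]
      exact hMtop
    · exact final hZc ζ S K hZK (fun h => hBp (by
        rwa [← QuotientGroup.ker_mk' Z, Subgroup.relIndex_ker, hKmap] at h)) hnR hN hZN
  · have hMidx : Z.relIndex M < n := by
      refine lt_of_lt_of_le ?_ hidx
      rw [← Subgroup.relIndex_mul_index (hZK.trans hKM)]
      refine lt_mul_right (Nat.pos_of_ne_zero Subgroup.FiniteIndex.index_ne_zero) ?_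
      exact lt_of_le_of_ne (Nat.pos_of_ne_zero Subgroup.index_ne_zero_of_finite)
        fun h => hMtop (Subgroup.index_eq_one.mp h.symm)
    have hSM : (S : Subgroup G) ≤ M := le_sup_right.trans Subgroup.le_normalizer
    have hst : Z ⊔ (S : Subgroup G) ≤ St Z (fun z => (ζ z : ℂ)) := fun g _ => by
      have hgn : g ∈ Subgroup.normalizer (Z : Set G) := by
        rw [Subgroup.normalizer_eq_top]; trivial
      refine ⟨hgn, funext fun z => ?_⟩
      rw [cj_apply hgn]
      refine congrArg (fun z => (ζ z : ℂ)) (Subtype.ext ?_)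
      show g * (z : G) * g⁻¹ = z
      rw [Subgroup.mem_center_iff.mp (hZc z.2) g, mul_inv_cancel_right]
    rw [hGM, count_sub IH Z S (isIrr_linear ζ) hst hsolv (hZK.trans hKM) hSM hMidx hZN]
    exact cnt_incl_eq (inf_eq_right.mpr hNM) _ _ _

/-- **The relative McKay count.** -/
theorem count_all : ∀ n, Count.{u} p n := by
  intro n
  induction n using Nat.strong_induction_on with
  | _ n IH =>
  intro G _ _ L _ S ν hν hst hsolv hidx hLN
  classical
  have hn : ∀ W : Subgroup G, W ≤ Subgroup.normalizer (L : Set G) := fun W => by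
    rw [Subgroup.normalizer_eq_top]; exact le_top
  have hST : (S : Subgroup G) ≤ St L ν := le_sup_right.trans hst
  by_cases hT : St L ν = ⊤
  · by_cases hd : p ∣ charDegree ν
    · rw [← cnt_top (K := L), cnt_eq_zero le_top (hn _) hν hd, cnt_eq_zero hLN (hn _) hν hd]
    have hinv : ∀ (g : G) (l : L), ν (conjEquivN L g l) = ν l := by
      intro g l
      have hg : g ∈ St L ν := hT ▸ Subgroup.mem_top g
      have := congrFun hg.2 l
      rw [cj_apply hg.1] at this
      refine Eq.trans ?_ this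
      exact congrArg ν (Subtype.ext rfl)
    obtain ⟨Y, _, _, Z, _, T, ζ, hZN, hZc, hZi, hYs, h1, h2⟩ :=
      exists_reduction L S ⟨ν, hν⟩ hd hinv hLN hsolv
    rw [h1, h2]
    exact count_central IH Z hZc T ζ hYs (hZi ▸ hidx) hZN
  · have hLT : L ≤ St L ν := le_St (IsIrr.classFun hν)
    have hTidx : L.relIndex (St L ν) < n := by
      refine lt_of_lt_of_le ?_ hidx
      rw [← Subgroup.relIndex_mul_index hLT]
      refine lt_mul_right (Nat.pos_of_ne_zero Subgroup.FiniteIndex.index_ne_zero) ?_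
      exact lt_of_le_of_ne (Nat.pos_of_ne_zero Subgroup.index_ne_zero_of_finite)
        fun h => hT (Subgroup.index_eq_one.mp h.symm)
    set N := Subgroup.normalizer ((L ⊔ (S : Subgroup G) : Subgroup G) : Set G) with hN
    have hSN : (S : Subgroup G) ≤ N := le_sup_right.trans Subgroup.le_normalizer
    rw [← cnt_top (K := L), cnt_inertia le_top (hn _) hν (fun h => S.not_dvd_index (by
        rw [Subgroup.relIndex_top_right] at h
        exact h.trans (Subgroup.index_dvd_of_le hST))),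
      cnt_inertia hLN (hn _) hν (fun h => S.not_dvd_index
        ((h.trans (Subgroup.relIndex_dvd_of_le_left N hST)).trans
          ⟨_, (Subgroup.relIndex_mul_index hSN).symm⟩)),
      cnt_incl_eq (top_inf_eq (St L ν)) _ hLT, count_sub IH L S hν hst hsolv hLT hST hTidx hLN]
    exact cnt_incl_eq (inf_comm _ _) _ _ _

end Cfsg.Agent.Block.RelMcKay
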