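import Cfsg.Agent.Lib.Block.RelMcKay.Lies
import Cfsg.Agent.Lib.Char.NearConstant

/-!
# The commutator pairing of an invariant character

For a character `θ` of a subgroup `K` fixed by `a` and `b`, the average of `θ` on commutators of
the cosets `aK`, `bK` is the scalar by which `a` moves an extension of `θ` at `b`.  Summing it over
pairs counts the characters over `θ`.
-/

set_option autoImplicit false
set_option linter.style.haveILetI false
set_option linter.unusedSectionVars false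

open scoped ComplexConjugate

namespace Cfsg.Agent.Block.RelMcKay

open Cfsg Cfsg.Agent.Char Cfsg.Agent.Block

universe u

variable {Y : Type u} [Group Y] {K : Subgroup Y}

/-- Membership of a commutator depends only on the cosets. -/
theorem comm_mem_iff {a b r s : Y} (ha : a ∈ Subgroup.normalizer (K : Set Y))
    (hb : b ∈ Subgroup.normalizer (K : Set Y)) (hr : r ∈ K) (hs : s ∈ K) :
    a * r * (b * s) * (a * r)⁻¹ * (b * s)⁻¹ ∈ K ↔ a * b * a⁻¹ * b⁻¹ ∈ K := by
  set N := Subgroup.normalizer (K : Set Y)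
  haveI : (K.subgroupOf N).Normal := Subgroup.normal_in_normalizer
  let f := QuotientGroup.mk' (K.subgroupOf N)
  have h : ∀ x : N, (x : Y) ∈ K ↔ f x = 1 := fun x => by
    rw [QuotientGroup.mk'_apply, QuotientGroup.eq_one_iff, Subgroup.mem_subgroupOf]
  let a' : N := ⟨a, ha⟩
  let b' : N := ⟨b, hb⟩
  let r' : N := ⟨r, Subgroup.le_normalizer hr⟩
  let s' : N := ⟨s, Subgroup.le_normalizer hs⟩
  have hr' : f r' = 1 := (h r').mp hr
  have hs' : f s' = 1 := (h s').mp hs
  rw [show a * r * (b * s) * (a * r)⁻¹ * (b * s)⁻¹ =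
    ((a' * r' * (b' * s') * (a' * r')⁻¹ * (b' * s')⁻¹ : N) : Y) from rfl,
    show a * b * a⁻¹ * b⁻¹ = ((a' * b' * a'⁻¹ * b'⁻¹ : N) : Y) from rfl, h, h]
  simp [map_mul, map_inv, hr', hs']

theorem ext_conj {θ : K → ℂ} {x : Y} (hx : x ∈ St K θ) (g : Y) :
    extendByZero K θ (x * g * x⁻¹) = extendByZero K θ g := by
  by_cases hg : g ∈ K
  · rw [extendByZero_of_mem _ hg, extendByZero_of_mem _ (conj_mem hx.1 hg)]
    have h := congrFun hx.2 ⟨g, hg⟩
    rw [cj_apply hx.1] at h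
    exact h
  · rw [extendByZero_not_mem _ hg, extendByZero_not_mem _ fun h =>
      hg ((Subgroup.mem_normalizer_iff.mp hx.1 g).mpr h)]

theorem ext_inv [Finite Y] {θ : K → ℂ} (hθ : IsIrrCharacter K θ) (g : Y) :
    extendByZero K θ g⁻¹ = conj (extendByZero K θ g) := by
  by_cases hg : g ∈ K
  · rw [extendByZero_of_mem _ hg, extendByZero_of_mem _ (inv_mem hg)]
    exact IsIrr.apply_inv hθ ⟨g, hg⟩
  · rw [extendByZero_not_mem _ hg, extendByZero_not_mem _ fun h => hg (by simpa using inv_mem h),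
      map_zero]

/-- The commutator pairing. -/
noncomputable def om (K : Subgroup Y) (θ : K → ℂ) (a b : Y) : ℂ :=
  θ 1 / (Nat.card K : ℂ) ^ 2 *
    ∑ᶠ r : K, ∑ᶠ s : K, extendByZero K θ (a * r * (b * s) * (a * r)⁻¹ * (b * s)⁻¹)

theorem om_eq [Fintype K] (θ : K → ℂ) (a b : Y) : om K θ a b = θ 1 / (Nat.card K : ℂ) ^ 2 *
    ∑ r : K, ∑ s : K, extendByZero K θ (a * r * (b * s) * (a * r)⁻¹ * (b * s)⁻¹) := by
  simp [om, finsum_eq_sum_of_fintype]

theorem om_eq_zero [Finite Y] {θ : K → ℂ} {a b : Y} (ha : a ∈ Subgroup.normalizer (K : Set Y))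
    (hb : b ∈ Subgroup.normalizer (K : Set Y)) (hab : a * b * a⁻¹ * b⁻¹ ∉ K) :
    om K θ a b = 0 := by
  haveI := Fintype.ofFinite K
  rw [om_eq, Finset.sum_eq_zero fun r _ => Finset.sum_eq_zero fun s _ =>
    extendByZero_not_mem _ fun h => hab ((comm_mem_iff ha hb r.2 s.2).mp h), mul_zero]

theorem om_swap [Finite Y] {θ : K → ℂ} (hθ : IsIrrCharacter K θ) (a b : Y) :
    om K θ b a = conj (om K θ a b) := by
  haveI := Fintype.ofFinite K
  obtain ⟨d, -, hd⟩ := IsIrr.one_eq_pos hθ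
  rw [om_eq, om_eq, map_mul, map_sum, Finset.sum_comm, hd, map_div₀, map_pow, map_natCast,
    map_natCast]
  congr 1
  refine Finset.sum_congr rfl fun r _ => ?_
  rw [map_sum]
  refine Finset.sum_congr rfl fun s _ => ?_
  rw [← ext_inv hθ]
  congr 1
  group

theorem om_mul_left [Finite Y] {θ : K → ℂ} (hθ : IsIrrCharacter K θ) {a b : Y} (ha : a ∈ St K θ)
    (hb : b ∈ Subgroup.normalizer (K : Set Y)) : om K θ a (a * b) = om K θ a b := by
  haveI := Fintype.ofFinite K
  rw [om_eq, om_eq]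
  congr 1
  refine Finset.sum_congr rfl fun r _ => ?_
  let c : K := ⟨b⁻¹ * (r : Y)⁻¹ * b, by
    simpa using conj_mem (inv_mem hb) (inv_mem r.2)⟩
  refine Fintype.sum_equiv (Equiv.mulLeft c) _ _ fun s => ?_
  rw [← ext_conj (mul_mem ha (le_St (IsIrr.classFun hθ) r.2))
    (a * r * (b * ((Equiv.mulLeft c s : K) : Y)) * (a * r)⁻¹ * (b * ((Equiv.mulLeft c s : K) : Y))⁻¹)]
  congr 1
  simp only [Equiv.coe_mulLeft, Subgroup.coe_mul, c]
  group

section Extension

variable [Finite Y] {H : Subgroup Y}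

/-- Restriction to a smaller subgroup. -/
def resTo (hKH : K ≤ H) (η : H → ℂ) : K → ℂ := fun k => η (Subgroup.inclusion hKH k)

theorem irr_of_resTo (hKH : K ≤ H) {η : H → ℂ} (hη : IsCharacter H η)
    (h : IsIrrCharacter K (resTo hKH η)) : IsIrrCharacter H η := by
  haveI := Fintype.ofFinite H
  haveI := Fintype.ofFinite K
  exact RelGal.irr_of_res_irr (Subgroup.inclusion hKH) hη h

theorem irr_subgroupOf (hKH : K ≤ H) {η : H → ℂ} (h : IsIrrCharacter K (resTo hKH η)) :
    IsIrrCharacter (K.subgroupOf H) (fun n : K.subgroupOf H => η n) :=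
  IsIrr.comp_mulEquiv (Subgroup.subgroupOfEquivOfLe hKH) h

/-- The squares over a coset of a character restricting irreducibly. -/
theorem sum_coset_normSq [Fintype K] (hKH : K ≤ H) (hn : H ≤ Subgroup.normalizer (K : Set Y))
    {η : H → ℂ} (hη : IsIrrCharacter H η) (hres : IsIrrCharacter K (resTo hKH η)) (x : H) :
    ∑ k : K, η (x * Subgroup.inclusion hKH k) * conj (η (x * Subgroup.inclusion hKH k)) =
      (Nat.card K : ℂ) := by
  haveI := Subgroup.normal_subgroupOf_of_le_normalizer hn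
  haveI := Fintype.ofFinite H
  let π := QuotientGroup.mk' (K.subgroupOf H)
  haveI : Fintype π.ker := Fintype.ofFinite _
  haveI := Fintype.ofFinite (H ⧸ K.subgroupOf H)
  let e : π.ker ≃* K :=
    (MulEquiv.subgroupCongr (QuotientGroup.ker_mk' _)).trans (Subgroup.subgroupOfEquivOfLe hKH)
  have hi : IsIrrCharacter π.ker (fun n : π.ker => η n) := IsIrr.comp_mulEquiv e hres
  have h := congrFun (RelGal.avgN_normSq π hη hi) x
  rw [avgN, inv_mul_eq_iff_eq_mul₀ (Nat.cast_ne_zero.mpr Nat.card_pos.ne'), mul_one,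
    show Nat.card π.ker = Nat.card K from Nat.card_congr e.toEquiv] at h
  rw [← h]
  refine (Fintype.sum_equiv e.toEquiv _ _ fun n => ?_).symm
  have hc : η (x * Subgroup.inclusion hKH (e n)) = η ((n : H) * x) := by
    rw [← IsIrr.classFun hη ((n : H) * x) x]
    congr 1
    rw [← mul_assoc, mul_inv_cancel_right]
    rfl
  show _ = η (x * Subgroup.inclusion hKH (e n)) * conj (η (x * Subgroup.inclusion hKH (e n)))
  rw [hc]
  rfl

theorem exists_ne_zero (hKH : K ≤ H) (hn : H ≤ Subgroup.normalizer (K : Set Y))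
    {η : H → ℂ} (hη : IsIrrCharacter H η) (hres : IsIrrCharacter K (resTo hKH η)) (x : H) :
    ∃ k : K, η (x * Subgroup.inclusion hKH k) ≠ 0 := by
  haveI := Fintype.ofFinite K
  by_contra h
  push Not at h
  have h1 := sum_coset_normSq hKH hn hη hres x
  simp only [h, zero_mul, Finset.sum_const_zero] at h1
  exact Nat.card_pos.ne' (Nat.cast_eq_zero.mp h1.symm)

/-- Two extensions differ by a linear character. -/
theorem exists_twist (hKH : K ≤ H) (hn : H ≤ Subgroup.normalizer (K : Set Y))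
    {η η' : H → ℂ} (hη : IsIrrCharacter H η) (hη' : IsIrrCharacter H η')
    (hres : IsIrrCharacter K (resTo hKH η)) (heq : resTo hKH η' = resTo hKH η) :
    ∃ l : H →* ℂˣ, (∀ k : K, l (Subgroup.inclusion hKH k) = 1) ∧
      ∀ x, η' x = (l x : ℂ) * η x := by
  haveI := Subgroup.normal_subgroupOf_of_le_normalizer hn
  haveI := Fintype.ofFinite H
  haveI := Fintype.ofFinite (K.subgroupOf H)
  have hi := irr_subgroupOf hKH hres
  have e1 : (fun n : K.subgroupOf H => η' n) = fun n : K.subgroupOf H => η n :=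
    funext fun n => congrFun heq (Subgroup.subgroupOfEquivOfLe hKH n)
  obtain ⟨hL, hmul⟩ := gallagher (N := K.subgroupOf H) hη hη' hi
    (by rw [e1, classInner_self_irr hi]; exact one_ne_zero)
  set l₀ := avgN (K.subgroupOf H) (η' * fun g => conj (η g))
  have h1 : l₀ 1 = 1 := by
    have h := congrFun hmul 1
    rw [Pi.mul_apply] at h
    have e : η' 1 = η 1 := by simpa [resTo] using congrFun heq 1
    rw [e] at h
    exact mul_left_cancel₀ (IsIrr.one_ne_zero hη) (h.trans (mul_one _).symm)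
  obtain ⟨l, hl⟩ := linearHom_of_isCharacter (IsIrr.isCharacter hL) h1
  refine ⟨l, fun k => Units.ext ?_, fun x => ?_⟩
  · rw [← congrFun hl, Units.val_one, ← h1, ← mul_one (Subgroup.inclusion hKH k)]
    exact avgN_mul_left _ _ ⟨Subgroup.inclusion hKH k, k.2⟩ 1
  · rw [← congrFun hl x, ← hmul, Pi.mul_apply]
    exact mul_comm _ _

theorem twist_inj (hKH : K ≤ H) (hn : H ≤ Subgroup.normalizer (K : Set Y))
    {η : H → ℂ} (hη : IsIrrCharacter H η) (hres : IsIrrCharacter K (resTo hKH η))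
    {l l' : H →* ℂˣ} (hl : ∀ k : K, l (Subgroup.inclusion hKH k) = l' (Subgroup.inclusion hKH k))
    (h : ∀ x, (l x : ℂ) * η x = (l' x : ℂ) * η x) : l = l' := by
  refine MonoidHom.ext fun x => ?_
  obtain ⟨k, hk⟩ := exists_ne_zero hKH hn hη hres x
  have h1 := mul_right_cancel₀ hk (h (x * Subgroup.inclusion hKH k))
  have h2 : l (x * Subgroup.inclusion hKH k) = l' (x * Subgroup.inclusion hKH k) := Units.ext h1
  rw [map_mul, map_mul, hl k] at h2
  exact mul_right_cancel h2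

theorem isCyclic_sup_zpowers {b : Y} (hH : H = K ⊔ Subgroup.zpowers b)
    (hn : H ≤ Subgroup.normalizer (K : Set Y))
    [(K.subgroupOf H).Normal] : IsCyclic (H ⧸ K.subgroupOf H) := by
  subst hH
  have hKH : K ≤ K ⊔ Subgroup.zpowers b := le_sup_left
  set H := K ⊔ Subgroup.zpowers b
  let bH : H := ⟨b, Subgroup.mem_sup_right (Subgroup.mem_zpowers b)⟩
  have htop : K.subgroupOf H ⊔ Subgroup.zpowers bH = ⊤ := by
    refine Subgroup.map_injective H.subtype_injective ?_
    rw [Subgroup.map_sup, MonoidHom.map_zpowers, Subgroup.map_subgroupOf_eq_of_le hKH,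
      ← MonoidHom.range_eq_map, Subgroup.range_subtype]
    rfl
  refine ⟨⟨QuotientGroup.mk' _ bH, fun y => ?_⟩⟩
  obtain ⟨x, rfl⟩ := QuotientGroup.mk'_surjective _ y
  show QuotientGroup.mk' _ x ∈ Subgroup.zpowers (QuotientGroup.mk' _ bH)
  obtain ⟨k, hk, z, hz, rfl⟩ := Subgroup.mem_sup_of_normal_left.mp
    (htop.symm ▸ Subgroup.mem_top x : x ∈ K.subgroupOf H ⊔ Subgroup.zpowers bH)
  obtain ⟨i, rfl⟩ := Subgroup.mem_zpowers_iff.mp hz
  refine Subgroup.mem_zpowers_iff.mpr ⟨i, ?_⟩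
  rw [map_mul, map_zpow, show QuotientGroup.mk' (K.subgroupOf H) k = 1 from
    (QuotientGroup.eq_one_iff _).mpr hk, one_mul]

/-- An invariant character extends to the product with a cyclic group. -/
theorem exists_ext_zpowers {θ : K → ℂ} (hθ : IsIrrCharacter K θ) {b : Y} (hb : b ∈ St K θ) :
    ∃ η : ↥(K ⊔ Subgroup.zpowers b) → ℂ, IsIrrCharacter _ η ∧ resTo le_sup_left η = θ := by
  set H := K ⊔ Subgroup.zpowers b with hH
  have hHS : H ≤ St K θ := sup_le (le_St (IsIrr.classFun hθ)) (Subgroup.zpowers_le.mpr hb)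
  have hn : H ≤ Subgroup.normalizer (K : Set Y) := hHS.trans (St_le_normalizer K θ)
  have hKH : K ≤ H := le_sup_left
  haveI := Subgroup.normal_subgroupOf_of_le_normalizer hn
  haveI := Fintype.ofFinite H
  haveI := Fintype.ofFinite (K.subgroupOf H)
  have hcyc := isCyclic_sup_zpowers hH hn
  have hinv : ∀ (x : H) (g : K.subgroupOf H), resOf hKH θ
      ⟨x * g * x⁻¹, (inferInstance : (K.subgroupOf H).Normal).conj_mem g g.2 x⟩ = resOf hKH θ g := by
    intro x g
    have h := congrFun (congrArg (resOf hKH) (hHS x.2).2) g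
    rw [← conjN_resOf hKH hn, conjN_apply] at h
    exact h
  obtain ⟨η, hη, hres⟩ := NearConst.exists_ext hcyc (irr_resOf hKH hθ) hinv
  refine ⟨η, hη, funext fun k => ?_⟩
  obtain ⟨x, rfl⟩ := (Subgroup.subgroupOfEquivOfLe hKH).surjective k
  exact hres x

/-- Sums over conjugates by a subgroup to which the character restricts irreducibly. -/
theorem sum_conj_res [Fintype K] (hKH : K ≤ H) {η : H → ℂ} (hη : IsIrrCharacter H η)
    (hres : IsIrrCharacter K (resTo hKH η)) (y z : H) :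
    ∑ r : K, η (Subgroup.inclusion hKH r * y * (Subgroup.inclusion hKH r)⁻¹ * z) =
      (Nat.card K : ℂ) * η y / η 1 * η z := by
  haveI := Fintype.ofFinite H
  obtain ⟨n, ρ, hρ, rfl⟩ := hη
  let σ : Representation ℂ K (Fin n → ℂ) := MonoidHom.comp ρ (Subgroup.inclusion hKH)
  haveI : σ.IsIrreducible := irreducible_of_character σ hres
  set i := Subgroup.inclusion hKH
  have hcomm : ∀ x, (∑ r : K, ρ (i r * y * (i r)⁻¹)) ∘ₗ σ x =
      σ x ∘ₗ ∑ r : K, ρ (i r * y * (i r)⁻¹) := by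
    intro x
    show (∑ r : K, ρ (i r * y * (i r)⁻¹)) * ρ (i x) = ρ (i x) * ∑ r : K, ρ (i r * y * (i r)⁻¹)
    rw [Finset.sum_mul, Finset.mul_sum]
    refine (Fintype.sum_equiv (Equiv.mulLeft x) _ _ fun a => ?_).symm
    rw [← map_mul, ← map_mul, Equiv.coe_mulLeft]
    congr 1
    rw [map_mul i]
    group
  obtain ⟨c, hc⟩ := schur_scalar σ _ hcomm
  have htr := congrArg (LinearMap.trace ℂ (Fin n → ℂ)) hc
  rw [map_sum, map_smul, LinearMap.trace_id, smul_eq_mul,
    Finset.sum_congr rfl (fun a _ => show LinearMap.trace ℂ _ (ρ (i a * y * (i a)⁻¹)) =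
      ρ.character y from Representation.char_conj ρ y (i a)), Finset.sum_const,
    Finset.card_univ, ← Nat.card_eq_fintype_card, nsmul_eq_mul] at htr
  have e := congrArg (fun T : (Fin n → ℂ) →ₗ[ℂ] (Fin n → ℂ) => LinearMap.trace ℂ _ (T * ρ z)) hc
  simp only [Finset.sum_mul, map_sum, smul_mul_assoc, ← Module.End.one_eq_id, one_mul,
    map_smul, smul_eq_mul, ← map_mul] at e
  rw [Representation.char_one, htr, mul_div_cancel_right₀ _
    (Nat.cast_ne_zero.mpr (finrank_pos_of_irreducible σ).ne')]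
  exact e

/-- The pairing is the twist of an extension. -/
theorem om_eq_twist (hKH : K ≤ H) (hn : H ≤ Subgroup.normalizer (K : Set Y))
    {η : H → ℂ} (hη : IsIrrCharacter H η) {θ : K → ℂ} (hθ : IsIrrCharacter K θ)
    (hres : resTo hKH η = θ) {a b : Y} (hb : b ∈ H) (ha : a ∈ St K θ)
    (haH : a ∈ Subgroup.normalizer (H : Set Y)) (hab : a * b * a⁻¹ * b⁻¹ ∈ K) {w : ℂ}
    (hw : ∀ k : K, cj H a η (⟨b, hb⟩ * Subgroup.inclusion hKH k) =
      w * η (⟨b, hb⟩ * Subgroup.inclusion hKH k)) :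
    om K θ a b = w := by
  haveI := Fintype.ofFinite K
  set i := Subgroup.inclusion hKH with hi
  have hirr : IsIrrCharacter K (resTo hKH η) := hres ▸ hθ
  -- the scalar has modulus one
  have hw1 : w * conj w = 1 := by
    have hres' : resTo hKH (cj H a η) = θ := funext fun k => by
      have h := congrFun ha.2 k
      rw [cj_apply ha.1] at h
      exact (cj_apply haH η _).trans (Eq.trans (congrFun hres ⟨_, conj_mem ha.1 k.2⟩) h)
    have h1 := sum_coset_normSq hKH hn (irr_cj haH hη) (hres'.symm ▸ hθ) ⟨b, hb⟩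
    rw [Finset.sum_congr rfl (g := fun k => w * conj w *
      (η (⟨b, hb⟩ * i k) * conj (η (⟨b, hb⟩ * i k)))) (fun k _ => by
        rw [hw k, map_mul]; ring), ← Finset.mul_sum,
      sum_coset_normSq hKH hn hη hirr] at h1
    exact mul_right_cancel₀ (Nat.cast_ne_zero.mpr Nat.card_pos.ne') (h1.trans (one_mul _).symm)
  have hinner : ∀ s : K,
      ∑ r : K, extendByZero K θ (a * r * (b * s) * (a * r)⁻¹ * (b * s)⁻¹) =
        (Nat.card K : ℂ) / η 1 * w * (η (⟨b, hb⟩ * i s) * conj (η (⟨b, hb⟩ * i s))) := by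
    intro s
    let y : H := ⟨b, hb⟩ * i s
    have hy : (y : Y) = b * s := rfl
    let z : H := ⟨a⁻¹ * (b * s)⁻¹ * a, by
      have h := conj_mem (inv_mem haH) (inv_mem y.2)
      simpa [hy] using h⟩
    let k' : Y := b⁻¹ * (a⁻¹ * (a * b * a⁻¹ * b⁻¹)⁻¹ * a) * b * (a⁻¹ * s * a)
    have hk' : k' ∈ K := K.mul_mem
      (by
        have h1 := conj_mem (inv_mem ha.1) (inv_mem hab)
        rw [inv_inv] at h1
        have h2 := conj_mem (inv_mem (hn hb)) h1
        rwa [inv_inv] at h2)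
      (by simpa using conj_mem (inv_mem ha.1) s.2)
    have hzinv : z⁻¹ = ⟨b, hb⟩ * i ⟨k', hk'⟩ := Subtype.ext (by
      simp only [z, i, k', Subgroup.coe_inv, Subgroup.coe_mul, Subgroup.coe_inclusion]
      group)
    have hz : η z = w * conj (η y) := by
      have h := hw ⟨k', hk'⟩
      rw [← hzinv, cj_apply haH] at h
      have e : (⟨a * (z⁻¹ : H) * a⁻¹, conj_mem haH (z⁻¹ : H).2⟩ : H) = y := Subtype.ext (by
        simp only [z, hy, Subgroup.coe_inv]
        group)
      rw [e] at h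
      rw [h, map_mul, ← mul_assoc, hw1, one_mul, ← IsIrr.apply_inv hη, inv_inv]
    have hterm : ∀ r : K, extendByZero K θ (a * r * (b * s) * (a * r)⁻¹ * (b * s)⁻¹) =
        η (i r * y * (i r)⁻¹ * z) := by
      intro r
      have e : a * r * (b * s) * (a * r)⁻¹ * (b * s)⁻¹ =
          a * ((i r * y * (i r)⁻¹ * z : H) : Y) * a⁻¹ := by
        simp only [z, y, i, Subgroup.coe_inv, Subgroup.coe_mul, Subgroup.coe_inclusion]
        group
      have hm : ((i r * y * (i r)⁻¹ * z : H) : Y) ∈ K := by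
        refine (Subgroup.mem_normalizer_iff.mp ha.1 _).mpr ?_
        rw [← e]
        exact (comm_mem_iff ha.1 (hn hb) r.2 s.2).mpr hab
      rw [e, ext_conj ha, extendByZero_of_mem _ hm, ← hres]
      exact congrArg η (Subtype.ext rfl)
    rw [Finset.sum_congr rfl fun r _ => hterm r, sum_conj_res hKH hη hirr, hz]
    ring
  have hd : θ 1 = η 1 := by
    rw [← hres]; exact congrArg η (map_one _)
  rw [om_eq, Finset.sum_comm, Finset.sum_congr rfl fun s _ => hinner s, ← Finset.mul_sum,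
    sum_coset_normSq hKH hn hη hirr, hd]
  have h1 : η 1 ≠ 0 := IsIrr.one_ne_zero hη
  have h2 : (Nat.card K : ℂ) ≠ 0 := Nat.cast_ne_zero.mpr Nat.card_pos.ne'
  field_simp

end Extension

/-! ### counting by pairs -/

section Count

variable [Finite Y] {p : ℕ}

/-- The commutator sum of an invariant character counts the characters over it. -/
theorem commutator_count [hp : Fact p.Prime] {X : Type u} [Group X] [Fintype X] (R : Subgroup X)
    [R.Normal] (hidx : ¬ p ∣ R.index) {ψ : R → ℂ} (hψ : IsIrrCharacter R ψ)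
    (hinv : inertia R ψ = ⊤) (hd : ¬ p ∣ charDegree ψ) :
    ψ 1 * ∑ g : X, ∑ h : X, extendByZero R ψ (g * h * g⁻¹ * h⁻¹) =
      (cnt p R.subtype ψ : ℂ) * (Nat.card R : ℂ) * (Nat.card X : ℂ) := by
  classical
  haveI := Fintype.ofFinite R
  have hcl : IsClassFunction X (extendByZero R ψ) := by
    intro g h
    by_cases hg : g ∈ R
    · rw [extendByZero_of_mem _ hg, extendByZero_of_mem _ (Subgroup.Normal.conj_mem inferInstance g hg h)]
      exact congrFun ((mem_inertia R).mp (hinv.symm ▸ Subgroup.mem_top h)) ⟨g, hg⟩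
    · rw [extendByZero_not_mem _ hg, extendByZero_not_mem _ fun hh => hg (by
        simpa [mul_assoc] using Subgroup.Normal.conj_mem inferInstance _ hh h⁻¹)]
  have hexp : ∀ x, extendByZero R ψ x = ∑ χ : IrrCharacter X,
      classInner (extendByZero R ψ) (χ : X → ℂ) * (χ : X → ℂ) x := fun x => by
    conv_lhs => rw [classFunction_expansion hcl, sum_irr_apply]
  have hco : ∀ χ : IrrCharacter X, classInner (extendByZero R ψ) (χ : X → ℂ) =
      (Nat.card R : ℂ) / (Nat.card X : ℂ) * conj (classInner (fun r : R => (χ : X → ℂ) r) ψ) := by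
    intro χ
    rw [classInner_conj_symm, classInner, classInner,
      sum_extendByZero_mul R ψ fun x => conj ((χ : X → ℂ) x)]
    have h1 : (Nat.card R : ℂ) ≠ 0 := Nat.cast_ne_zero.mpr Nat.card_pos.ne'
    field_simp
  have hsum : ∀ χ : IrrCharacter X, ∑ g : X, ∑ h : X, (χ : X → ℂ) (g * h * g⁻¹ * h⁻¹) =
      (Nat.card X : ℂ) ^ 2 / (χ : X → ℂ) 1 := by
    intro χ
    rw [Finset.sum_comm, Finset.sum_congr rfl fun h _ => sum_conj_apply χ.2 h h⁻¹]
    have h2 := classInner_self_irr χ.2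
    rw [classInner, inv_mul_eq_iff_eq_mul₀ (Nat.cast_ne_zero.mpr Nat.card_pos.ne'), mul_one] at h2
    simp only [IsIrr.apply_inv χ.2]
    rw [Finset.sum_congr rfl (g := fun h => (Nat.card X : ℂ) / (χ : X → ℂ) 1 *
      ((χ : X → ℂ) h * conj ((χ : X → ℂ) h))) (fun h _ => by ring), ← Finset.mul_sum, h2]
    ring
  have hterm : ∀ χ : IrrCharacter X, ψ 1 * (classInner (extendByZero R ψ) (χ : X → ℂ) *
      ((Nat.card X : ℂ) ^ 2 / (χ : X → ℂ) 1)) =
      if ¬ p ∣ charDegree (χ : X → ℂ) ∧ Lies R.subtype ψ (χ : X → ℂ) then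
        (Nat.card R : ℂ) * (Nat.card X : ℂ) else 0 := by
    intro χ
    rw [hco]
    by_cases h0 : classInner (fun r : R => (χ : X → ℂ) r) ψ = 0
    · have hn : ¬ (¬ p ∣ charDegree (χ : X → ℂ) ∧ Lies R.subtype ψ (χ : X → ℂ)) := fun h =>
        (lies_iff R.subtype ψ (χ : X → ℂ)).mp h.2 h0
      rw [h0, map_zero, if_neg hn]
      ring
    · have hcl1 := clifford_one R χ.2 hψ h0
      rw [hinv, Subgroup.index_top, Nat.cast_one, mul_one] at hcl1
      obtain ⟨e, he⟩ := IsChar.classInner_nat (IsChar.res (irr_isChar χ) R) (IsIrr.isCharacter hψ)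
      rw [he] at hcl1 ⊢
      have hpχ : ¬ p ∣ charDegree (χ : X → ℂ) := by
        obtain ⟨e', he', hdvd⟩ := Ext.ratio_dvd_index' χ.2 hψ h0
        rw [charDegree_of_eq (n := e' * charDegree ψ)
          (by rw [he', Nat.cast_mul, show ψ 1 = (charDegree ψ : ℂ) from charDeg_spec' ⟨ψ, hψ⟩]),
          hp.out.dvd_mul, not_or]
        exact ⟨fun h => hidx (h.trans hdvd), hd⟩
      rw [if_pos ⟨hpχ, (lies_iff _ _ _).mpr h0⟩, map_natCast, hcl1]
      have h1 : ψ 1 ≠ 0 := IsIrr.one_ne_zero hψ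
      have h2 : (e : ℂ) ≠ 0 := by rwa [← he]
      have h3 : (Nat.card X : ℂ) ≠ 0 := Nat.cast_ne_zero.mpr Nat.card_pos.ne'
      field_simp
  have hcnt : cnt p R.subtype ψ = (Finset.univ.filter fun χ : IrrCharacter X =>
      ¬ p ∣ charDegree (χ : X → ℂ) ∧ Lies R.subtype ψ (χ : X → ℂ)).card := by
    rw [cnt, Nat.card_eq_fintype_card, Fintype.card_subtype]
  rw [Finset.sum_congr rfl fun g _ => Finset.sum_congr rfl fun h _ => hexp (g * h * g⁻¹ * h⁻¹)]
  rw [Finset.sum_congr rfl (fun g _ => Finset.sum_comm), Finset.sum_comm, Finset.mul_sum,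
    Finset.sum_congr rfl (g := fun χ : IrrCharacter X =>
      if ¬ p ∣ charDegree (χ : X → ℂ) ∧ Lies R.subtype ψ (χ : X → ℂ) then
        (Nat.card R : ℂ) * (Nat.card X : ℂ) else 0) (fun χ _ => ?_),
    ← Finset.sum_filter, Finset.sum_const, nsmul_eq_mul, hcnt, mul_assoc]
  simp only [← Finset.mul_sum]
  rw [hsum, hterm]

/-- Sums over a product of two subgroups. -/
theorem sum_product {A R T : Subgroup Y} [Fintype A] [Fintype R] [Fintype T] (hA : A ≤ T)
    (hR : R ≤ T) (hcov : ∀ t ∈ T, ∃ a ∈ A, ∃ r ∈ R, a * r = t) (f : Y → ℂ) :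
    (Nat.card ↥(A ⊓ R) : ℂ) * ∑ t : T, f t = ∑ a : A, ∑ r : R, f (a * r) := by
  haveI := Fintype.ofFinite ↥(A ⊓ R)
  choose σ hσA r hrR hσ using hcov
  let F : ↥(A ⊓ R) × T → A × R := fun x =>
    (⟨σ x.2 x.2.2 * x.1, A.mul_mem (hσA _ _) x.1.2.1⟩,
      ⟨(x.1 : Y)⁻¹ * r x.2 x.2.2, R.mul_mem (R.inv_mem x.1.2.2) (hrR _ _)⟩)
  have hF : ∀ x, ((F x).1 : Y) * ((F x).2 : Y) = (x.2 : Y) := fun x => by
    show σ x.2 x.2.2 * (x.1 : Y) * ((x.1 : Y)⁻¹ * r x.2 x.2.2) = _
    rw [mul_assoc, mul_inv_cancel_left, hσ]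
  have hbij : Function.Bijective F := by
    refine ⟨fun x x' h => ?_, fun ⟨a, s⟩ => ?_⟩
    · obtain ⟨c, t⟩ := x
      obtain ⟨c', t'⟩ := x'
      obtain rfl : t = t' := Subtype.ext (by
        have h1 := hF (c, t)
        rw [h, hF] at h1
        exact h1.symm)
      have h1 : σ t t.2 * (c : Y) = σ t t.2 * (c' : Y) := congrArg (fun z => (z.1 : Y)) h
      rw [Subtype.ext (mul_left_cancel h1)]
    · have ht : (a : Y) * s ∈ T := T.mul_mem (hA a.2) (hR s.2)
      have e : (σ _ ht)⁻¹ * (a : Y) = r _ ht * (s : Y)⁻¹ := by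
        rw [eq_mul_inv_iff_mul_eq, mul_assoc, inv_mul_eq_iff_eq_mul, hσ]
      refine ⟨(⟨(σ _ ht)⁻¹ * a, A.mul_mem (A.inv_mem (hσA _ _)) a.2,
        e ▸ R.mul_mem (hrR _ _) (R.inv_mem s.2)⟩, ⟨_, ht⟩), Prod.ext (Subtype.ext ?_)
        (Subtype.ext ?_)⟩
      · exact mul_inv_cancel_left _ _
      · show ((σ _ ht)⁻¹ * (a : Y))⁻¹ * r _ ht = s
        rw [e, mul_inv_rev, inv_inv, inv_mul_cancel_right]
  rw [← Fintype.sum_prod_type (fun x : A × R => f (x.1 * x.2)),
    ← Fintype.sum_equiv (Equiv.ofBijective F hbij) (fun x => f x.2) _ fun x => by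
      show f (x.2 : Y) = f (((F x).1 : Y) * ((F x).2 : Y))
      rw [hF],
    Fintype.sum_prod_type]
  simp only [Finset.sum_const, Finset.card_univ, nsmul_eq_mul, Nat.card_eq_fintype_card]

/-- Counting the characters over an invariant character by pairs in a supplement. -/
theorem count_om [Fact p.Prime] {R A T : Subgroup Y} [Fintype A] (hR : R ≤ T) (hA : A ≤ T)
    (hcov : ∀ t ∈ T, ∃ a ∈ A, ∃ r ∈ R, a * r = t) {ψ : R → ℂ} (hψ : IsIrrCharacter R ψ)
    (hT : T ≤ St R ψ) (hidx : ¬ p ∣ R.relIndex T) (hd : ¬ p ∣ charDegree ψ) :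
    (cnt p (Subgroup.inclusion hR) ψ : ℂ) * (Nat.card A : ℂ) * (Nat.card ↥(A ⊓ R) : ℂ) =
      ∑ a : A, ∑ b : A, om R ψ a b := by
  classical
  have hn := hT.trans (St_le_normalizer R ψ)
  haveI := Subgroup.normal_subgroupOf_of_le_normalizer hn
  haveI := Fintype.ofFinite T
  haveI := Fintype.ofFinite R
  have hinv : inertia (R.subgroupOf T) (resOf hR ψ) = ⊤ := by
    rw [inertia_resOf hR hn, Subgroup.subgroupOf_eq_top]
    exact hT
  have h1 := commutator_count (R.subgroupOf T) hidx (irr_resOf hR hψ) hinv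
    (by
      show ¬ p ∣ ⌊(resOf hR ψ 1).re⌋₊
      rw [show resOf hR ψ 1 = ψ 1 by simp [resOf]]
      exact hd)
  rw [cnt_subtype_resOf, show resOf hR ψ 1 = ψ 1 by simp [resOf],
    show Nat.card (R.subgroupOf T) = Nat.card R from
      Nat.card_congr (Subgroup.subgroupOfEquivOfLe hR).toEquiv] at h1
  have hext : ∀ x : T, extendByZero (R.subgroupOf T) (resOf hR ψ) x =
      extendByZero R ψ (x : Y) := by
    intro x
    by_cases hx : (x : Y) ∈ R
    · rw [extendByZero_of_mem _ hx, extendByZero_of_mem _ (show x ∈ R.subgroupOf T from hx)]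
      rfl
    · have hx' : x ∉ R.subgroupOf T := fun h => hx h
      rw [extendByZero_not_mem ψ hx, extendByZero_not_mem (resOf hR ψ) hx']
  simp only [hext, Subgroup.coe_mul, Subgroup.coe_inv] at h1
  set c : ℂ := (Nat.card ↥(A ⊓ R) : ℂ) with hc
  have hcard : (Nat.card T : ℂ) * c = (Nat.card A : ℂ) * (Nat.card R : ℂ) := by
    have h := sum_product hA hR hcov (fun _ => (1 : ℂ))
    simp only [Finset.sum_const, Finset.card_univ, nsmul_eq_mul, mul_one,
      ← Nat.card_eq_fintype_card] at h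
    rw [mul_comm, hc, h]
  have h2 : c * (c * ∑ g : T, ∑ h : T, extendByZero R ψ ((g : Y) * h * (g : Y)⁻¹ * (h : Y)⁻¹)) =
      ∑ a : A, ∑ b : A, ∑ r : R, ∑ s : R,
        extendByZero R ψ ((a : Y) * r * (b * s) * ((a : Y) * r)⁻¹ * ((b : Y) * s)⁻¹) := by
    rw [hc, sum_product hA hR hcov
      (fun g => ∑ h : T, extendByZero R ψ (g * h * g⁻¹ * (h : Y)⁻¹)), Finset.mul_sum]
    refine Finset.sum_congr rfl fun a _ => ?_
    rw [Finset.mul_sum]
    rw [Finset.sum_comm]
    refine Finset.sum_congr rfl fun r _ => ?_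
    exact sum_product hA hR hcov (fun h => extendByZero R ψ
      ((a : Y) * r * h * ((a : Y) * r)⁻¹ * h⁻¹))
  have h3 : ψ 1 * ∑ a : A, ∑ b : A, ∑ r : R, ∑ s : R,
        extendByZero R ψ ((a : Y) * r * ((b : Y) * s) * ((a : Y) * r)⁻¹ * ((b : Y) * s)⁻¹) =
      (Nat.card R : ℂ) ^ 2 * ∑ a : A, ∑ b : A, om R ψ a b := by
    rw [Finset.mul_sum, Finset.mul_sum]
    refine Finset.sum_congr rfl fun a _ => ?_
    rw [Finset.mul_sum, Finset.mul_sum]
    refine Finset.sum_congr rfl fun b _ => ?_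
    rw [om_eq]
    have : (Nat.card R : ℂ) ≠ 0 := Nat.cast_ne_zero.mpr Nat.card_pos.ne'
    field_simp
  refine mul_left_cancel₀
    (pow_ne_zero 2 (Nat.cast_ne_zero.mpr (Nat.card_pos (α := R)).ne' : (Nat.card R : ℂ) ≠ 0)) ?_
  rw [← h3, ← h2]
  linear_combination (cnt p (Subgroup.inclusion hR) ψ : ℂ) * c * (Nat.card R : ℂ) * hcard.symm -
    c * c * h1

end Count

end Cfsg.Agent.Block.RelMcKay
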